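import Groth.Agent.Amp73.Ample
import Groth.Agent.EGA73.TwistInvertible
import Groth.Agent.EGA73.ProjMorph

/-!
`O(1)` is ample on `Proj` of an algebra finitely generated in degree one.
-/

universe u

open CategoryTheory CategoryTheory.Limits AlgebraicGeometry Opposite TopologicalSpace GrTilde

noncomputable section

namespace Groth.Agent.Amp73

open Var76.LineBundle Var76.ZeroScheme EGA73

variable {R A : Type u} [CommRing R] [CommRing A] [Algebra R A] {𝒜 : ℕ → Submodule R A} [GradedAlgebra 𝒜]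

variable (𝒜) in
/-- The section of `O(1)` given by an element of degree one. -/
def degOneHom (f : 𝒜 1) : Coh.structureModule (Proj 𝒜) ⟶ Twist.twist 𝒜 1 :=
  Var76.Frames.ofSection (Twist.twist 𝒜 1) (Twist.globalOf 𝒜 f : Twist.sectN (𝒜 := 𝒜) ((1 : ℕ) : ℤ) (op ⊤))

theorem val_degOneHom (f : 𝒜 1) (U : (Proj 𝒜).Opens) (x : U) :
    (((val _ (degOneHom 𝒜 f) U : Twist.sectN (𝒜 := 𝒜) (1 : ℤ) (op U)).1 x).1 : Twist.Loc 𝒜 x.1) =
      Localization.mk (f : A) (1 : x.1.asHomogeneousIdeal.toIdeal.primeCompl) := by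
  rw [degOneHom, Var76.Frames.val_ofSection]
  rfl

theorem isFrame_degOneHom (f : 𝒜 1) :
    IsFrame (Twist.twist 𝒜 1) (Proj.basicOpen 𝒜 (f : A))
      (val _ (degOneHom 𝒜 f) (Proj.basicOpen 𝒜 (f : A))) := by
  let U : Opens (ProjectiveSpectrum.top 𝒜) := ProjectiveSpectrum.basicOpen 𝒜 (f : A)
  let e : TwistUnit (𝒜 := 𝒜) (1 : ℤ) U :=
    { fwd := val _ (degOneHom 𝒜 f) (Proj.basicOpen 𝒜 (f : A))
      bwd := castTwist (by simp) (EGA73.powUnit 𝒜 f.2 (-1)).fwd
      mul_eq := fun x => by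
        rw [val_degOneHom, castTwist_apply]
        show _ * Localization.mk _ _ = 1
        rw [Localization.mk_mul, ← Localization.mk_self (1 : x.1.asHomogeneousIdeal.toIdeal.primeCompl),
          Localization.mk_eq_mk_iff, Localization.r_iff_exists]
        exact ⟨1, by simp⟩ }
  exact fun V hV => smul_unit_bijective (e.res hV)

theorem genLocus_degOneHom
    (hgen : (HomogeneousIdeal.irrelevant 𝒜).toIdeal = Ideal.span (𝒜 1 : Set A)) (f : 𝒜 1) :
    CohB1.genLocus _ (degOneHom 𝒜 f) = Proj.basicOpen 𝒜 (f : A) := by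
  refine le_antisymm (fun x hx => ?_) ((isFrame_iff_le_genLocus _ _).1 (isFrame_degOneHom f))
  obtain ⟨g, hg, hxg⟩ : ∃ g ∈ 𝒜 1, g ∉ (x : ProjectiveSpectrum 𝒜).asHomogeneousIdeal := by
    by_contra H
    push Not at H
    exact ProjectiveSpectrum.not_irrelevant_le x (hgen.trans_le (Ideal.span_le.mpr H))
  let V : (Proj 𝒜).Opens := CohB1.genLocus _ (degOneHom 𝒜 f) ⊓ Proj.basicOpen 𝒜 g
  have hxV : x ∈ V := ⟨hx, hxg⟩
  obtain ⟨c, hc⟩ := ((isFrame_iff_le_genLocus _ V).2 inf_le_left V le_rfl).2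
    (val _ (degOneHom 𝒜 ⟨g, hg⟩) V)
  dsimp only at hc
  rw [res_self] at hc
  have h : (((c : Twist.O (𝒜 := 𝒜) (op V)).1 ⟨x, hxV⟩).val : Twist.Loc 𝒜 x) *
      Localization.mk (f : A) (1 : (x : ProjectiveSpectrum 𝒜).asHomogeneousIdeal.toIdeal.primeCompl) =
      Localization.mk g (1 : (x : ProjectiveSpectrum 𝒜).asHomogeneousIdeal.toIdeal.primeCompl) := by
    have h1 := congrArg (fun q : Twist.sectN (𝒜 := 𝒜) (1 : ℤ) (op V) => ((q.1 ⟨x, hxV⟩).1 : Twist.Loc 𝒜 x)) hc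
    dsimp only at h1
    rw [val_degOneHom] at h1
    rw [← h1, ← val_degOneHom f V ⟨x, hxV⟩]
    rfl
  by_contra hfx
  have hf : (f : A) ∈ (x : ProjectiveSpectrum 𝒜).asHomogeneousIdeal.toIdeal := not_not.1 hfx
  have key : ∀ a : A, Localization.mk a (1 : (x : ProjectiveSpectrum 𝒜).asHomogeneousIdeal.toIdeal.primeCompl) =
      algebraMap A (Twist.Loc 𝒜 x) a := fun a => (Localization.mk_one_eq_algebraMap a)
  rw [key, key] at h
  have hg' : algebraMap A (Twist.Loc 𝒜 x) g ∈ IsLocalRing.maximalIdeal (Twist.Loc 𝒜 x) :=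
    h ▸ Ideal.mul_mem_left _ _ ((IsLocalization.AtPrime.to_map_mem_maximal_iff _
      (x : ProjectiveSpectrum 𝒜).asHomogeneousIdeal.toIdeal _).2 hf)
  exact hxg ((IsLocalization.AtPrime.to_map_mem_maximal_iff _
    (x : ProjectiveSpectrum 𝒜).asHomogeneousIdeal.toIdeal _).1 hg')

/-- `O(1)` is ample when the irrelevant ideal is generated by finitely many degree-one elements. -/
theorem isAmple_twist_one (s : Finset A) (hs1 : ∀ f ∈ s, f ∈ 𝒜 1)
    (hs : (HomogeneousIdeal.irrelevant 𝒜).toIdeal = Ideal.span (s : Set A)) :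
    CohB1.IsAmple (Twist.twist 𝒜 1) := by
  have hgen : (HomogeneousIdeal.irrelevant 𝒜).toIdeal = Ideal.span (𝒜 1 : Set A) := by
    refine le_antisymm (hs.trans_le (Ideal.span_mono fun a ha => hs1 a ha)) (Ideal.span_le.2 fun a ha => ?_)
    exact HomogeneousIdeal.mem_irrelevant_of_mem 𝒜 zero_lt_one ha
  have hcover : ∀ x : Proj 𝒜, ∃ g ∈ s, x ∈ Proj.basicOpen 𝒜 g := fun x => by
    by_contra H
    push Not at H
    exact ProjectiveSpectrum.not_irrelevant_le x (hs.trans_le (Ideal.span_le.mpr fun g hg => not_not.1 (H g hg)))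
  have : CompactSpace (Proj 𝒜) := by
    refine isCompact_univ_iff.1 ?_
    have e : (Set.univ : Set (Proj 𝒜)) = ⋃ g ∈ s, (Proj.basicOpen 𝒜 g : Set (Proj 𝒜)) := by
      refine (Set.eq_univ_of_forall fun x => ?_).symm
      obtain ⟨g, hg, hx⟩ := hcover x
      exact Set.mem_iUnion₂.2 ⟨g, hg, hx⟩
    rw [e]
    exact s.isCompact_biUnion fun g hg => (Proj.isAffineOpen_basicOpen 𝒜 g (hs1 g hg) zero_lt_one).isCompact
  refine isAmple_iff.2 ⟨EGA73.isInvertible_twist hgen 1, inferInstance, fun x => ?_⟩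
  obtain ⟨g, hg, hxg⟩ : ∃ g ∈ 𝒜 1, g ∉ (x : ProjectiveSpectrum 𝒜).asHomogeneousIdeal := by
    by_contra H
    push Not at H
    exact ProjectiveSpectrum.not_irrelevant_le x (hgen.trans_le (Ideal.span_le.mpr H))
  refine ⟨_, mem_genSet_one (degOneHom 𝒜 ⟨g, hg⟩), ?_, ?_⟩ <;> rw [genLocus_degOneHom hgen]
  · exact hxg
  · exact Proj.isAffineOpen_basicOpen 𝒜 g hg zero_lt_one

end Groth.Agent.Amp73

end
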