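import Groth.Agent.Amp73.GlobGen
import Groth.Agent.Amp73.ProjAmple
import Groth.Agent.EGA73.TildeQCoh

/-!
Generation of twists on `Proj`.
-/

universe u

open CategoryTheory CategoryTheory.Limits AlgebraicGeometry Opposite TopologicalSpace GrTilde

noncomputable section

namespace Groth.Agent.Amp73

open Var76.LineBundle Var76.ZeroScheme EGA73

variable {R A : Type u} [CommRing R] [CommRing A] [Algebra R A] {𝒜 : ℕ → Submodule R A} [GradedAlgebra 𝒜]
  (s : Finset A) (hs1 : ∀ f ∈ s, f ∈ 𝒜 1)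
  (hs : (HomogeneousIdeal.irrelevant 𝒜).toIdeal = Ideal.span (s : Set A))

include hs1 hs in
theorem span_degree_one : (HomogeneousIdeal.irrelevant 𝒜).toIdeal = Ideal.span (𝒜 1 : Set A) :=
  le_antisymm (hs.trans_le (Ideal.span_mono fun a ha => hs1 a ha))
    (Ideal.span_le.2 fun _ ha => HomogeneousIdeal.mem_irrelevant_of_mem 𝒜 zero_lt_one ha)

include hs1 hs in
theorem exists_epi_twist_nat (n : ℕ) :
    ∃ (k : ℕ) (p : FlatMod.freeMod (Proj 𝒜) k ⟶ Twist.twist 𝒜 (n : ℤ)), Epi p := by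
  have := (isAmple_twist_one s hs1 hs).2.1
  have hgen := span_degree_one s hs1 hs
  obtain ⟨i⟩ := EGA73.nonempty_twist_iso_tensorPow hgen n
  have hinv := EGA73.isInvertible_twist hgen (n : ℤ)
  refine exists_epi_freeMod (Mero90.isQCoh_of_isInvertible hinv) (isFiniteType_of_isInvertible hinv) fun x => ?_
  obtain ⟨g, hg, hxg⟩ : ∃ g ∈ 𝒜 1, g ∉ (x : ProjectiveSpectrum 𝒜).asHomogeneousIdeal := by
    by_contra H
    push Not at H
    exact ProjectiveSpectrum.not_irrelevant_le x (hgen.trans_le (Ideal.span_le.mpr H))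
  refine ⟨Proj.basicOpen 𝒜 g, hxg, Proj.isAffineOpen_basicOpen 𝒜 g hg zero_lt_one,
    spanAt_of_iso i.inv (spanAt_of_le_genLocus (SecTwist.powHom (degOneHom 𝒜 ⟨g, hg⟩) n) ?_)⟩
  rcases Nat.eq_zero_or_pos n with rfl | hn
  · show _ ≤ CohB1.genLocus (Coh.structureModule (Proj 𝒜)) (𝟙 _)
    rw [genLocus_id]; exact le_top
  · rw [genLocus_powHom (EGA73.isInvertible_twist hgen 1) _ n hn, genLocus_degOneHom hgen]

include hs1 hs in
theorem eventually_spanAt_twistBy (F : (Proj 𝒜).Modules) (hF : Coh.IsCoh F) :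
    ∃ n₀ : ℕ, ∀ n : ℕ, n₀ ≤ n → ∀ x, ∃ U, x ∈ U ∧ IsAffineOpen U ∧ SpanAt (Twist.twistBy 𝒜 F (n : ℤ)) U := by
  obtain ⟨n₀, h⟩ := eventually_spanAt_twist (isAmple_twist_one s hs1 hs) hF
  refine ⟨n₀, fun n hn x => ?_⟩
  obtain ⟨i⟩ := EGA73.nonempty_twist_iso_tensorPow (span_degree_one s hs1 hs) n
  obtain ⟨U, hx, hU, hsp⟩ := h n hn x
  exact ⟨U, hx, hU, spanAt_of_iso (EGA73.tensIso (Iso.refl F) i.symm).hom hsp⟩

include hs1 hs in
theorem isQCoh_twistBy (F : (Proj 𝒜).Modules) (hF : Coh.IsCoh F) (n : ℤ) :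
    Coh.IsCoh (Twist.twistBy 𝒜 F n) :=
  isCoh_tensorMod hF (isCoh_of_isInvertible (EGA73.isInvertible_twist (span_degree_one s hs1 hs) n))

include hs1 hs in
theorem exists_epi_negative_twists (F : (Proj 𝒜).Modules) (hF : Coh.IsCoh F) :
    ∃ n₀ : ℕ, ∀ n : ℕ, n₀ ≤ n →
      ∃ (k : ℕ) (p : (∐ fun _ : Fin k => Twist.twist 𝒜 (-(n : ℤ))) ⟶ F), Epi p := by
  classical
  have := (isAmple_twist_one s hs1 hs).2.1
  have hgen := span_degree_one s hs1 hs
  obtain ⟨n₀, h⟩ := eventually_spanAt_twistBy s hs1 hs F hF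
  refine ⟨n₀, fun n hn => ?_⟩
  let G := Twist.twistBy 𝒜 F (n : ℤ)
  let N := Twist.twist 𝒜 (-(n : ℤ))
  have hG := isQCoh_twistBy s hs1 hs F hF (n : ℤ)
  obtain ⟨j⟩ := EGA73.nonempty_twist_tensor_iso hgen (n : ℤ) (-(n : ℤ))
  obtain ⟨z⟩ := EGA73.nonempty_twist_zero_iso (𝒜 := 𝒜)
  let Φ : CohB1.tensorMod G N ≅ F :=
    EGA73.tensAssoc' F _ _ ≪≫ EGA73.tensIso (Iso.refl F) (j ≪≫ eqToIso (by rw [add_neg_cancel]) ≪≫ z) ≪≫
      EGA73.tensUnitRight F
  have hN := EGA73.isInvertible_twist hgen (-(n : ℤ))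
  have hloc : ∀ x, ∃ (U : (Proj 𝒜).Opens) (e : Γ(N, U)) (T : Finset Γ(G, ⊤)), x ∈ U ∧ IsAffineOpen U ∧
      IsFrame N U e ∧
        Submodule.span Γ(Proj 𝒜, U) ((fun t => res G (le_top : U ≤ ⊤) t) '' (T : Set Γ(G, ⊤))) = ⊤ := by
    intro x
    obtain ⟨W, hxW, -, e, he⟩ := Mero90.exists_affine_frame hN x ⊤ trivial
    obtain ⟨U, hxU, hU, hsp⟩ := h n hn x
    obtain ⟨r, hrW, hxr⟩ := hU.exists_basicOpen_le ⟨x, hxW⟩ hxU
    have hD : SpanAt G ((Proj 𝒜).basicOpen r) := by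
      refine eq_top_iff.2 fun w _ => ?_
      obtain ⟨m, u, hu⟩ := (isLocAt hG.1 hU).exists_of r w
      have hr : IsUnit (fres ((Proj 𝒜).basicOpen_le r) r) := RingedSpace.isUnit_res_basicOpen _ r
      obtain ⟨v, hv⟩ := (hr.pow m).exists_left_inv
      have hw : w = v • res G ((Proj 𝒜).basicOpen_le r) u := by
        rw [show res G _ u = _ from hu, smul_smul]
        exact ((congrArg (· • w) hv).trans (one_smul _ _)).symm
      rw [hw]
      refine Submodule.smul_mem _ v (Submodule.span_induction ?_ ?_ ?_ ?_ (hsp.ge (Submodule.mem_top (x := u))))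
      · rintro _ ⟨t, rfl⟩
        rw [res_res]
        exact Submodule.subset_span ⟨t, rfl⟩
      · rw [res_zero']; exact Submodule.zero_mem _
      · intro a b _ _ ha hb; rw [res_add]; exact Submodule.add_mem _ ha hb
      · intro a b _ hb; rw [res_smul]; exact Submodule.smul_mem _ _ hb
    have : G.IsQuasicoherent := hG.1
    have : G.IsFiniteType := hG.2
    have hfg := (QC70.finite_sections_of_isFiniteType G (hU.basicOpen r)).fg_top
    rw [← (show Submodule.span _ _ = ⊤ from hD)] at hfg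
    obtain ⟨T, hT, hTs⟩ := (Submodule.fg_span_iff_fg_span_finset_subset _).1 hfg
    obtain ⟨T', hT'⟩ := Finset.subset_set_image_iff.1 (by rwa [← Set.image_univ] at hT)
    refine ⟨_, res N hrW e, T', hxr, hU.basicOpen r, he.res hrW, ?_⟩
    rw [← (show Submodule.span _ _ = ⊤ from hD), hTs, ← hT'.2, Finset.coe_image]
  choose U e T hxU hU he hT using hloc
  obtain ⟨S, hS⟩ := isCompact_univ.elim_finite_subcover (fun x => (U x : Set (Proj 𝒜))) (fun x => (U x).2)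
    (fun x _ => Set.mem_iUnion.2 ⟨x, hxU x⟩)
  let A' := S.biUnion T
  refine ⟨A'.card, _, epi_desc_of_span_maps hF.1 (fun _ => N)
    (fun i => tmLeft (A'.equivFin.symm i).1 N ≫ Φ.hom) fun x => ?_⟩
  obtain ⟨y, hy, hxy⟩ := Set.mem_iUnion₂.1 (hS (Set.mem_univ x))
  refine ⟨U y, fun _ => e y, hxy, hU y, eq_top_iff.2 ?_⟩
  refine (span_image_iso Φ.hom (span_image_tm (he y) (hT y))).ge.trans (Submodule.span_mono ?_)
  rintro _ ⟨_, ⟨_, ⟨t, ht, rfl⟩, rfl⟩, rfl⟩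
  exact ⟨A'.equivFin ⟨t, Finset.mem_biUnion.2 ⟨y, hy, ht⟩⟩, by simp [tmLeft_app]⟩

end Groth.Agent.Amp73

end
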