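import Groth.Agent.Amp73.Ext
import Groth.Agent.Mero90.Triv

/-!
Ample invertible modules.
-/

universe u

open CategoryTheory CategoryTheory.Limits AlgebraicGeometry Opposite TopologicalSpace

noncomputable section

namespace Groth.Agent.Amp73

open Var76.LineBundle Var76.ZeroScheme

variable {X : Scheme.{u}} {L M : X.Modules}

/-- The opens of the form `X_s`, `s` a section of a positive power of `L`. -/
def GenSet (L : X.Modules) : Set X.Opens :=
  {G | ∃ (n : ℕ) (s : Coh.structureModule X ⟶ CohB1.tensorPow L (n + 1)), CohB1.genLocus _ s = G}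

theorem mem_genSet_of_iso (φ : L ⟶ M) [IsIso φ] {G : X.Opens} (h : G ∈ GenSet L) : G ∈ GenSet M := by
  obtain ⟨n, s, rfl⟩ := h
  exact ⟨n, s ≫ (powIso (asIso φ) (n + 1)).hom, genLocus_comp_iso _ _⟩

theorem mem_genSet_one (s : Coh.structureModule X ⟶ L) : CohB1.genLocus L s ∈ GenSet L :=
  ⟨0, s ≫ (powOne L).inv, genLocus_comp_iso _ _⟩

theorem mem_genSet_of_tensorPow {N : ℕ} (hN : 0 < N) {G : X.Opens} (h : G ∈ GenSet (CohB1.tensorPow L N)) :
    G ∈ GenSet L := by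
  obtain ⟨n, s, rfl⟩ := h
  obtain ⟨m, hm⟩ : ∃ m, N * (n + 1) = m + 1 :=
    ⟨N * (n + 1) - 1, (Nat.sub_add_cancel (Nat.mul_pos hN (Nat.succ_pos n))).symm⟩
  exact ⟨m, s ≫ (powMul L N (n + 1)).hom ≫ eqToHom (congrArg _ hm), genLocus_comp_iso _ _⟩

/-- Raising the exponent. -/
theorem exists_genLocus_pow (hL : PicF.IsInvertible L) {n : ℕ} (s : Coh.structureModule X ⟶ CohB1.tensorPow L n)
    {N : ℕ} (hN : 0 < N) : ∃ s' : Coh.structureModule X ⟶ CohB1.tensorPow L (n * N),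
      CohB1.genLocus _ s' = CohB1.genLocus _ s := by
  refine ⟨SecTwist.powHom s N ≫ (powMul L n N).hom, ?_⟩
  rw [genLocus_comp_iso, genLocus_powHom (EGA73.isInvertible_tensorPow hL n) s N hN]

theorem mem_genSet_tensorPow (hL : PicF.IsInvertible L) {N : ℕ} (hN : 0 < N) {G : X.Opens} (h : G ∈ GenSet L) :
    G ∈ GenSet (CohB1.tensorPow L N) := by
  obtain ⟨n, s, rfl⟩ := h
  obtain ⟨s', hs'⟩ := exists_genLocus_pow hL s hN
  exact ⟨n, s' ≫ eqToHom (congrArg _ (Nat.mul_comm (n + 1) N)) ≫ (powMul L N (n + 1)).inv,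
    (genLocus_comp_iso _ _).trans hs'⟩

theorem inf_mem_genSet (hL : PicF.IsInvertible L) {G G' : X.Opens} (h : G ∈ GenSet L) (h' : G' ∈ GenSet L) :
    G ⊓ G' ∈ GenSet L := by
  obtain ⟨n, s, rfl⟩ := h
  obtain ⟨n', s', rfl⟩ := h'
  refine ⟨n + 1 + n', SecTwist.tmulHom s s' ≫ (powAdd L (n + 1) (n' + 1)).hom, ?_⟩
  exact (genLocus_comp_iso _ _).trans
    (genLocus_tmulHom (EGA73.isInvertible_tensorPow hL _) (EGA73.isInvertible_tensorPow hL _) s s')

theorem inf_mem_genSet_tensor (hL : PicF.IsInvertible L) (hM : PicF.IsInvertible M) {G G' : X.Opens}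
    (h : G ∈ GenSet L) (h' : G' ∈ GenSet M) : G ⊓ G' ∈ GenSet (CohB1.tensorMod L M) := by
  obtain ⟨n, s, rfl⟩ := h
  obtain ⟨n', s', rfl⟩ := h'
  obtain ⟨t, ht⟩ := exists_genLocus_pow hL s (Nat.succ_pos n')
  obtain ⟨t', ht'⟩ := exists_genLocus_pow hM s' (Nat.succ_pos n)
  have e : (n' + 1) * (n + 1) = (n + 1) * (n' + 1) := Nat.mul_comm _ _
  obtain ⟨m, hm⟩ : ∃ m, (n + 1) * (n' + 1) = m + 1 :=
    ⟨(n + 1) * (n' + 1) - 1, (Nat.sub_add_cancel (Nat.mul_pos (Nat.succ_pos n) (Nat.succ_pos n'))).symm⟩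
  refine ⟨m, SecTwist.tmulHom t (t' ≫ eqToHom (congrArg _ e)) ≫ (powTens L M _).inv ≫
    eqToHom (congrArg _ hm), ?_⟩
  rw [genLocus_comp_iso, genLocus_tmulHom (EGA73.isInvertible_tensorPow hL _) (EGA73.isInvertible_tensorPow hM _),
    genLocus_comp_iso, ht, ht']

theorem isAffineOpen_inf_of_mem_genSet (hL : PicF.IsInvertible L) {G : X.Opens} (h : G ∈ GenSet L)
    {U : X.Opens} (hU : IsAffineOpen U) : IsAffineOpen (G ⊓ U) := by
  obtain ⟨n, s, rfl⟩ := h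
  exact isAffineOpen_genLocus_inf (EGA73.isInvertible_tensorPow hL _) s hU

theorem isAmple_iff :
    CohB1.IsAmple L ↔ PicF.IsInvertible L ∧ CompactSpace X ∧ ∀ x : X, ∃ G ∈ GenSet L, x ∈ G ∧ IsAffineOpen G := by
  constructor
  · rintro ⟨h, hc, hs⟩
    refine ⟨h, hc, fun x => ?_⟩
    obtain ⟨n, s, hx, ha⟩ := hs x
    exact ⟨_, ⟨n, s, rfl⟩, hx, ha⟩
  · rintro ⟨h, hc, hs⟩
    refine ⟨h, hc, fun x => ?_⟩
    obtain ⟨_, ⟨n, s, rfl⟩, hx, ha⟩ := hs x
    exact ⟨n, s, hx, ha⟩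

theorem isAmple_of_iso (e : L ≅ M) (h : CohB1.IsAmple L) : CohB1.IsAmple M := by
  rw [isAmple_iff] at h ⊢
  refine ⟨EGA73.isInvertible_of_iso e h.1, h.2.1, fun x => ?_⟩
  obtain ⟨G, hG, hx, ha⟩ := h.2.2 x
  exact ⟨G, mem_genSet_of_iso e.hom hG, hx, ha⟩

theorem quasiSeparatedSpace_of_isAmple (h : CohB1.IsAmple L) : QuasiSeparatedSpace X := by
  classical
  obtain ⟨hL, hc, hs⟩ := isAmple_iff.1 h
  choose G hG hx ha using hs
  refine QuasiSeparatedSpace.of_isOpenCover (U := G)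
    (IsOpenCover.mk (top_le_iff.mp fun x _ => Opens.mem_iSup.mpr ⟨x, hx x⟩)) (fun x V hVc hVo => ?_)
    fun x => (ha x).isQuasiSeparated
  obtain ⟨T, hT⟩ := hVc.elim_finite_subcover
    (fun W : {W : X.affineOpens // (W.1 : Set X) ⊆ V} => (W.1.1 : Set X)) (fun W => W.1.1.2) (fun y hy => by
      obtain ⟨W, hW, hyW, hWle⟩ := exists_isAffineOpen_mem_and_subset (U := ⟨V, hVo⟩) hy
      exact Set.mem_iUnion.2 ⟨⟨⟨W, hW⟩, hWle⟩, hyW⟩)
  have e : (G x : Set X) ∩ V = ⋃ W ∈ T, ((G x ⊓ W.1.1 : X.Opens) : Set X) := by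
    ext y
    constructor
    · rintro ⟨h1, h2⟩
      obtain ⟨W, hW, hyW⟩ := Set.mem_iUnion₂.1 (hT h2)
      exact Set.mem_iUnion₂.2 ⟨W, hW, h1, hyW⟩
    · intro hy
      obtain ⟨W, -, h1, hyW⟩ := Set.mem_iUnion₂.1 hy
      exact ⟨h1, W.2 hyW⟩
  rw [e]
  exact T.isCompact_biUnion fun W _ => (isAffineOpen_inf_of_mem_genSet hL (hG x) W.1.2).isCompact

/-- A function on an affine `X_s` cuts out a basic open of `X_s` that is again of the form `X_t`. -/
theorem basicOpen_mem_genSet [CompactSpace X] [QuasiSeparatedSpace X] (hL : PicF.IsInvertible L)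
    {n : ℕ} (s : Coh.structureModule X ⟶ CohB1.tensorPow L (n + 1))
    (f : Γ(X, CohB1.genLocus _ s)) : X.basicOpen f ∈ GenSet L := by
  have hM := EGA73.isInvertible_tensorPow hL (n + 1)
  have hO : Coh.IsQCoh (Coh.structureModule X) := Mero90.isQCoh_of_isInvertible EGA73.isInvertible_structureModule
  obtain ⟨k, hk, t', ht'⟩ := exists_tw_extend_pos hM s hO (f : Γ(Coh.structureModule X, CohB1.genLocus _ s))
  let P := CohB1.tensorMod (Coh.structureModule X) (CohB1.tensorPow (CohB1.tensorPow L (n + 1)) k)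
  let σ : Coh.structureModule X ⟶ P := Var76.Frames.ofSection P t'
  have hval : val P σ (CohB1.genLocus _ s) = tw s k (Coh.structureModule X) f :=
    (Var76.Frames.val_ofSection P t' _).trans ht'
  let one : Γ(Coh.structureModule X, CohB1.genLocus _ s) := (1 : Γ(X, CohB1.genLocus _ s))
  have hone : IsFrame (Coh.structureModule X) (CohB1.genLocus _ s) one := isFrame_epow (isFrame_genLocus s) 0
  have hfr := isFrame_tm hone (isFrame_epow (isFrame_genLocus s) k)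
  have e1 : f • tm (Coh.structureModule X) _ one (epow (val _ s (CohB1.genLocus _ s)) k) =
      val P σ (CohB1.genLocus _ s) := by
    rw [hval, tw, ← tm_smul_left]
    congr 1
    exact mul_one f
  have e2 : CohB1.genLocus P σ ⊓ CohB1.genLocus _ s = X.basicOpen f := genLocus_inf_eq_basicOpen σ hfr e1
  rw [← e2]
  refine inf_mem_genSet hL ?_ ⟨n, s, rfl⟩
  have h := mem_genSet_of_iso (EGA73.tensUnitLeft _).hom (mem_genSet_one σ)
  exact mem_genSet_of_tensorPow (Nat.succ_pos n) (mem_genSet_of_tensorPow hk h)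

theorem exists_affine_genSet_le (h : CohB1.IsAmple L) (x : X) (U : X.Opens) (hx : x ∈ U) :
    ∃ G ∈ GenSet L, x ∈ G ∧ G ≤ U ∧ IsAffineOpen G := by
  have := quasiSeparatedSpace_of_isAmple h
  obtain ⟨hL, _, hs⟩ := isAmple_iff.1 h
  obtain ⟨_, ⟨n, s, rfl⟩, hxG, ha⟩ := hs x
  obtain ⟨f, hfle, hxf⟩ := ha.exists_basicOpen_le ⟨x, show x ∈ CohB1.genLocus _ s ⊓ U from ⟨hxG, hx⟩⟩ hxG
  exact ⟨_, basicOpen_mem_genSet hL s f, hxf, hfle.trans inf_le_right, ha.basicOpen f⟩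

theorem isAmple_of_le_basis [CompactSpace X] (hL : PicF.IsInvertible L)
    (h : ∀ (x : X) (U : X.Opens), x ∈ U → ∃ G ∈ GenSet L, x ∈ G ∧ G ≤ U) : CohB1.IsAmple L := by
  refine isAmple_iff.2 ⟨hL, inferInstance, fun x => ?_⟩
  obtain ⟨U, hU, hxU, -⟩ := exists_isAffineOpen_mem_and_subset (U := (⊤ : X.Opens)) (x := x) trivial
  obtain ⟨G, hG, hxG, hle⟩ := h x U hxU
  refine ⟨G, hG, hxG, ?_⟩
  rw [← inf_eq_left.2 hle]
  exact isAffineOpen_inf_of_mem_genSet hL hG hU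

theorem isAmple_tensorPow_iff (hL : PicF.IsInvertible L) {N : ℕ} (hN : 0 < N) :
    CohB1.IsAmple L ↔ CohB1.IsAmple (CohB1.tensorPow L N) := by
  simp only [isAmple_iff]
  constructor
  · rintro ⟨-, hc, hs⟩
    refine ⟨EGA73.isInvertible_tensorPow hL N, hc, fun x => ?_⟩
    obtain ⟨G, hG, hx, ha⟩ := hs x
    exact ⟨G, mem_genSet_tensorPow hL hN hG, hx, ha⟩
  · rintro ⟨-, hc, hs⟩
    refine ⟨hL, hc, fun x => ?_⟩
    obtain ⟨G, hG, hx, ha⟩ := hs x
    exact ⟨G, mem_genSet_of_tensorPow hN hG, hx, ha⟩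

theorem isAmple_tensor (hL : CohB1.IsAmple L) (hM : PicF.IsInvertible M)
    (h : ∀ x : X, ∃ G ∈ GenSet M, x ∈ G) : CohB1.IsAmple (CohB1.tensorMod L M) := by
  obtain ⟨hL', _, _⟩ := isAmple_iff.1 hL
  refine isAmple_of_le_basis (EGA73.isInvertible_tensorMod hL' hM) fun x U hx => ?_
  obtain ⟨G', hG', hxG'⟩ := h x
  obtain ⟨G, hG, hxG, hle, -⟩ := exists_affine_genSet_le hL x U hx
  exact ⟨_, inf_mem_genSet_tensor hL' hM hG hG', ⟨hxG, hxG'⟩, inf_le_left.trans hle⟩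

theorem isAmple_tensor_ample (hL : CohB1.IsAmple L) (hM : CohB1.IsAmple M) :
    CohB1.IsAmple (CohB1.tensorMod L M) := by
  refine isAmple_tensor hL hM.1 fun x => ?_
  obtain ⟨G, hG, hxG, -⟩ := (isAmple_iff.1 hM).2.2 x
  exact ⟨G, hG, hxG⟩

/-- The sets `X_s` form a basis of the topology. -/
theorem isTopologicalBasis_genSet (h : CohB1.IsAmple L) :
    IsTopologicalBasis {U : Set X | ∃ G ∈ GenSet L, U = (G : Set X)} := by
  refine isTopologicalBasis_of_isOpen_of_nhds (fun U ⟨G, _, hU⟩ => hU ▸ G.2) fun x V hx hV => ?_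
  obtain ⟨G, hG, hxG, hle, -⟩ := exists_affine_genSet_le h x ⟨V, hV⟩ hx
  exact ⟨_, ⟨G, hG, rfl⟩, hxG, hle⟩

end Groth.Agent.Amp73
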