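import Groth.Agent.Amp73.Pullback
import Groth.Agent.Amp73.Ample

/-!
Inverse images of frames, tensor products and tensor powers of invertible modules.
-/

universe u

open CategoryTheory CategoryTheory.Limits AlgebraicGeometry Opposite TopologicalSpace

noncomputable section

namespace Groth.Agent.Amp73

open Var76.LineBundle Var76.ZeroScheme

variable {X Y : Scheme.{u}} (f : X ⟶ Y)

/-- Inverse image followed by restriction over the preimage of an open. -/
def pullRestrictIso (U : Y.Opens) :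
    Scheme.Modules.pullback U.ι ⋙ Scheme.Modules.pullback (f ∣_ U) ≅
      Scheme.Modules.pullback f ⋙ Scheme.Modules.restrictFunctor (f ⁻¹ᵁ U).ι :=
  Scheme.Modules.pullbackComp (f ∣_ U) U.ι ≪≫
    Scheme.Modules.pullbackCongr (morphismRestrict_ι f U) ≪≫
    (Scheme.Modules.pullbackComp (f ⁻¹ᵁ U).ι f).symm ≪≫
    Functor.isoWhiskerLeft (Scheme.Modules.pullback f)
      (Scheme.Modules.restrictFunctorIsoPullback (f ⁻¹ᵁ U).ι).symm

/-- Inverse images of invertible modules are invertible. -/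
theorem isInvertible_pullback {L : Y.Modules} (h : PicF.IsInvertible L) :
    PicF.IsInvertible ((Scheme.Modules.pullback f).obj L) := fun x => by
  obtain ⟨U, hx, ⟨i⟩⟩ := h (f x)
  exact ⟨f ⁻¹ᵁ U, hx, ⟨((pullRestrictIso f U).app L).symm ≪≫
    (Scheme.Modules.pullback (f ∣_ U)).mapIso
      (((Scheme.Modules.restrictFunctorIsoPullback U.ι).app L).symm ≪≫ i) ≪≫
    PicLoc.pullbackStructureIso (f ∣_ U)⟩⟩

/-- A frame has a dual coordinate on the inverse image: a map sending its inverse image to `1`. -/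
theorem exists_coord_pullS (L : Y.Modules) {U : Y.Opens} {e : Γ(L, U)} (he : IsFrame L U e) :
    ∃ ψ : (Scheme.Modules.pullback f).obj L ⟶
        (Scheme.Modules.pushforward (f ⁻¹ᵁ U).ι).obj (Coh.structureModule (f ⁻¹ᵁ U : Scheme.{u})),
      ψ.app (f ⁻¹ᵁ U) (pullS f L U e) =
        ((1 : Γ((f ⁻¹ᵁ U : Scheme.{u}), (f ⁻¹ᵁ U).ι ⁻¹ᵁ (f ⁻¹ᵁ U))) :
          Γ(Coh.structureModule (f ⁻¹ᵁ U : Scheme.{u}), (f ⁻¹ᵁ U).ι ⁻¹ᵁ (f ⁻¹ᵁ U))) := by
  let e' : Γ(L.restrict U.ι, ⊤) := res L U.ι_image_top.le e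
  have : IsIso (EGA73.unitHom (L.restrict U.ι) e') := by
    rw [Scheme.Modules.Hom.isIso_iff_isIso_app]
    intro V
    refine (ConcreteCategory.isIso_iff_bijective _).mpr ?_
    have hV : U.ι ''ᵁ V ≤ U := (U.ι.image_mono le_top).trans U.ι_image_top.le
    have hfun : ((EGA73.unitHom (L.restrict U.ι) e').app V : Γ(U, V) → Γ(L.restrict U.ι, V)) =
        (fun c : Γ(Y, U.ι ''ᵁ V) => c • res L hV e) ∘ (U.ι.appIso V).inv := by
      funext c
      refine (EGA73.unitHom_app _ e' V c).trans ?_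
      show (U.ι.appIso V).inv c • res L (U.ι.image_mono (le_top (a := V))) (res L U.ι_image_top.le e) = _
      rw [res_res]
      rfl
    rw [show ((EGA73.unitHom (L.restrict U.ι) e').app V :
        Γ(Coh.structureModule (U : Scheme.{u}), V) → Γ(L.restrict U.ι, V)) = _ from hfun]
    exact (he _ hV).comp (ConcreteCategory.bijective_of_isIso (U.ι.appIso V).inv)
  let i := asIso (EGA73.unitHom (L.restrict U.ι) e')
  let g := f ∣_ U
  let u : Coh.structureModule (U : Scheme.{u}) ⟶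
      (Scheme.Modules.pushforward g).obj (Coh.structureModule (f ⁻¹ᵁ U : Scheme.{u})) :=
    SheafOfModules.unitToPushforwardObjUnit g.toRingCatSheafHom
  let φ : L ⟶ (Scheme.Modules.pushforward f).obj
      ((Scheme.Modules.pushforward (f ⁻¹ᵁ U).ι).obj (Coh.structureModule (f ⁻¹ᵁ U : Scheme.{u}))) :=
    (Scheme.Modules.restrictAdjunction U.ι).unit.app L ≫
      (Scheme.Modules.pushforward U.ι).map i.inv ≫
      (Scheme.Modules.pushforward U.ι).map u ≫
      (Scheme.Modules.pushforwardComp g U.ι).hom.app _ ≫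
      (Scheme.Modules.pushforwardCongr (morphismRestrict_ι f U)).hom.app _ ≫
      (Scheme.Modules.pushforwardComp (f ⁻¹ᵁ U).ι f).inv.app _
  refine ⟨((Scheme.Modules.pullbackPushforwardAdjunction f).homEquiv _ _).symm φ, ?_⟩
  set ψ := ((Scheme.Modules.pullbackPushforwardAdjunction f).homEquiv _ _).symm φ
  have h : (Scheme.Modules.pullbackPushforwardAdjunction f).homEquiv _ _ ψ = φ := Equiv.apply_symm_apply _ _
  rw [Adjunction.homEquiv_unit] at h
  refine (ConcreteCategory.congr_hom (congrArg (fun a => Scheme.Modules.Hom.app a U) h) e).trans ?_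
  let one : Γ(Coh.structureModule (U : Scheme.{u}), U.ι ⁻¹ᵁ U) := (1 : Γ((U : Scheme.{u}), U.ι ⁻¹ᵁ U))
  have h1 : i.inv.app (U.ι ⁻¹ᵁ U) (res L (U.ι.image_preimage_le U) e) = one := by
    have h2 : i.hom.app (U.ι ⁻¹ᵁ U) one = res L (U.ι.image_preimage_le U) e := by
      refine (EGA73.unitHom_app _ e' _ _).trans ?_
      show (U.ι.appIso _).inv (1 : Γ((U : Scheme.{u}), U.ι ⁻¹ᵁ U)) •
        res L (U.ι.image_mono (le_top (a := U.ι ⁻¹ᵁ U))) (res L U.ι_image_top.le e) = _
      rw [map_one, one_smul, res_res]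
    exact (congrArg (i.inv.app (U.ι ⁻¹ᵁ U)) h2.symm).trans
      (ConcreteCategory.congr_hom (congrArg (fun a => Scheme.Modules.Hom.app a (U.ι ⁻¹ᵁ U)) i.hom_inv_id) one)
  let OW := Coh.structureModule (f ⁻¹ᵁ U : Scheme.{u})
  let P := (Scheme.Modules.pushforwardCongr (morphismRestrict_ι f U)).hom.app OW
  let v : Γ((Scheme.Modules.pushforward (g ≫ U.ι)).obj OW, U) :=
    u.app (U.ι ⁻¹ᵁ U) (i.inv.app (U.ι ⁻¹ᵁ U) (res L (U.ι.image_preimage_le U) e))
  show P.app U v = _
  have hv : v = ((1 : Γ((f ⁻¹ᵁ U : Scheme.{u}), g ⁻¹ᵁ (U.ι ⁻¹ᵁ U))) :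
      Γ(Coh.structureModule (f ⁻¹ᵁ U : Scheme.{u}), g ⁻¹ᵁ (U.ι ⁻¹ᵁ U))) :=
    (congrArg (u.app (U.ι ⁻¹ᵁ U)) h1).trans (map_one (g.app (U.ι ⁻¹ᵁ U)).hom)
  rw [hv]
  exact map_one ((f ⁻¹ᵁ U : Scheme.{u}).presheaf.map _).hom

theorem isFrame_pullS {L : Y.Modules} (hL : PicF.IsInvertible L) {U : Y.Opens} {e : Γ(L, U)}
    (he : IsFrame L U e) : IsFrame _ (f ⁻¹ᵁ U) (pullS f L U e) := by
  refine isFrame_of_locally _ fun x hx => ?_
  obtain ⟨V, hxV, hV, ε, hε⟩ := Mero90.exists_affine_frame (isInvertible_pullback f hL) x (f ⁻¹ᵁ U) hx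
  refine ⟨V.1, hV, hxV, ?_⟩
  obtain ⟨c, hc⟩ := (hε V.1 le_rfl).2 (res _ hV (pullS f L U e))
  dsimp only at hc
  rw [res_self] at hc
  obtain ⟨ψ, hψ⟩ := exists_coord_pullS f L he
  rw [← hc, isFrame_smul_iff hε]
  let ι' := (f ⁻¹ᵁ U).ι
  let d : Γ((f ⁻¹ᵁ U : Scheme.{u}), ι' ⁻¹ᵁ V.1) := ψ.app V.1 ε
  have h1 : ι'.app V.1 c * d = 1 := by
    have h2 := congrArg (ψ.app V.1) hc
    rw [Scheme.Modules.Hom.app_smul, Mero90.app_res, hψ] at h2
    exact h2.trans (map_one ((f ⁻¹ᵁ U : Scheme.{u}).presheaf.map _).hom)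
  have : IsIso (ι'.app V.1) := Scheme.Hom.isIso_app ι' V.1 (by simpa [ι'] using hV)
  exact (isUnit_map_iff (asIso (ι'.app V.1)).commRingCatIsoToRingEquiv c).1 (IsUnit.of_mul_eq_one d h1)

section Tensor

variable (M N : Y.Modules)

/-- The pairing inducing the comparison of inverse images and tensor products. -/
def pullPairing : Mero90.Pairing M N ((Scheme.Modules.pushforward f).obj
    (CohB1.tensorMod ((Scheme.Modules.pullback f).obj M) ((Scheme.Modules.pullback f).obj N))) where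
  b U m n := tm _ _ (pullS f M U m) (pullS f N U n)
  add_left U m m' n := by
    have h : pullS f M U (m + m') = pullS f M U m + pullS f M U m' := map_add _ _ _
    rw [h]; exact tm_add_left _ _ _
  add_right U m n n' := by
    have h : pullS f N U (n + n') = pullS f N U n + pullS f N U n' := map_add _ _ _
    rw [h]; exact tm_add_right _ _ _
  smul_left U r m n := by rw [pullS_smul, tm_smul_left]; rfl
  smul_right U r m n := by rw [pullS_smul, tm_smul_right]; rfl
  nat U V h m n := by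
    rw [← res_pullS, ← res_pullS, ← res_tm]; rfl

/-- The comparison `f^*(M ⊗ N) ⟶ f^*M ⊗ f^*N`. -/
def pullTensHom : (Scheme.Modules.pullback f).obj (CohB1.tensorMod M N) ⟶
    CohB1.tensorMod ((Scheme.Modules.pullback f).obj M) ((Scheme.Modules.pullback f).obj N) :=
  ((Scheme.Modules.pullbackPushforwardAdjunction f).homEquiv _ _).symm (pullPairing f M N).lift

theorem pullTensHom_tm (U : Y.Opens) (m : Γ(M, U)) (n : Γ(N, U)) :
    (pullTensHom f M N).app (f ⁻¹ᵁ U) (pullS f _ U (tm M N m n)) = tm _ _ (pullS f M U m) (pullS f N U n) := by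
  have h : (Scheme.Modules.pullbackPushforwardAdjunction f).homEquiv _ _ (pullTensHom f M N) =
      (pullPairing f M N).lift := Equiv.apply_symm_apply _ _
  rw [Adjunction.homEquiv_unit] at h
  exact (ConcreteCategory.congr_hom (congrArg (fun a => Scheme.Modules.Hom.app a U) h) (tm M N m n)).trans
    ((pullPairing f M N).lift_tmul U m n)

end Tensor

theorem isIso_pullTensHom {M N : Y.Modules} (hM : PicF.IsInvertible M) (hN : PicF.IsInvertible N) :
    IsIso (pullTensHom f M N) := by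
  refine isIso_of_frames _ fun x => ?_
  obtain ⟨W, hyW, -, e, he⟩ := Mero90.exists_affine_frame hM (f x) ⊤ trivial
  obtain ⟨W', hyW', hle, e', he'⟩ := Mero90.exists_affine_frame hN (f x) W.1 hyW
  refine ⟨f ⁻¹ᵁ W'.1, pullS f _ W'.1 (tm M N (res M hle e) e'), hyW', ?_, ?_⟩
  · exact isFrame_pullS f (EGA73.isInvertible_tensorMod hM hN) (isFrame_tm (he.res hle) he')
  · rw [pullTensHom_tm]
    exact isFrame_tm (isFrame_pullS f hM (he.res hle)) (isFrame_pullS f hN he')

/-- Inverse images commute with tensor powers of invertible modules. -/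
def pullPowIso {L : Y.Modules} (hL : PicF.IsInvertible L) : (n : ℕ) →
    ((Scheme.Modules.pullback f).obj (CohB1.tensorPow L n) ≅
      CohB1.tensorPow ((Scheme.Modules.pullback f).obj L) n)
  | 0 => PicLoc.pullbackStructureIso f
  | n + 1 =>
    (@asIso _ _ _ _ (pullTensHom f (CohB1.tensorPow L n) L)
      (isIso_pullTensHom f (EGA73.isInvertible_tensorPow hL n) hL)) ≪≫ EGA73.tensIso (pullPowIso hL n) (Iso.refl _)

theorem preimage_mem_genSet {L : Y.Modules} (hL : PicF.IsInvertible L) {G : Y.Opens} (h : G ∈ GenSet L) :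
    f ⁻¹ᵁ G ∈ GenSet ((Scheme.Modules.pullback f).obj L) := by
  obtain ⟨n, s, rfl⟩ := h
  exact ⟨n, pullHom f s ≫ (pullPowIso f hL (n + 1)).hom,
    (genLocus_comp_iso _ _).trans (genLocus_pullHom f (EGA73.isInvertible_tensorPow hL _) s)⟩

end Groth.Agent.Amp73

end
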