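import Groth.Agent.Amp73.PullTensor
import Groth.Prelude.Def_LCI2

/-!
Ampleness and relative ampleness: restriction to opens and localisation on the base.
-/

universe u

open CategoryTheory CategoryTheory.Limits AlgebraicGeometry Opposite TopologicalSpace

noncomputable section

namespace Groth.Agent.Amp73

open Var76.LineBundle Var76.ZeroScheme

variable {X Y : Scheme.{u}} {L M : X.Modules}

/-- Powers of the structure module. -/
def powUnit (X : Scheme.{u}) : (k : ℕ) → (CohB1.tensorPow (Coh.structureModule X) k ≅ Coh.structureModule X)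
  | 0 => Iso.refl _
  | k + 1 => EGA73.tensUnitRight _ ≪≫ powUnit X k

theorem isFrame_one (U : X.Opens) :
    IsFrame (Coh.structureModule X) U ((1 : Γ(X, U)) : Γ(Coh.structureModule X, U)) := by
  intro V hV
  have e : (fun a : Γ(X, V) => a • res (Coh.structureModule X) hV
      ((1 : Γ(X, U)) : Γ(Coh.structureModule X, U))) = id := by
    funext a
    show a * fres hV 1 = a
    exact (congrArg (a * ·) (map_one (X.presheaf.map (homOfLE hV).op).hom)).trans (mul_one a)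
  exact e ▸ Function.bijective_id

theorem isFrame_tm_right_iff (hL : PicF.IsInvertible L) {U : X.Opens} {t : Γ(L, U)} {e' : Γ(M, U)}
    (he' : IsFrame M U e') : IsFrame (CohB1.tensorMod L M) U (tm L M t e') ↔ IsFrame L U t := by
  refine ⟨fun h => isFrame_of_locally _ fun x hx => ?_, fun h => isFrame_tm h he'⟩
  obtain ⟨W, hxW, hW, e, he⟩ := Mero90.exists_affine_frame hL x U hx
  refine ⟨W.1, hW, hxW, ?_⟩
  obtain ⟨c, hc⟩ := (he W.1 le_rfl).2 (res L hW t)
  dsimp only at hc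
  rw [res_self] at hc
  have h' := h.res hW
  rw [res_tm, ← hc, tm_smul_left, isFrame_smul_iff (isFrame_tm he (he'.res hW))] at h'
  rw [← hc, isFrame_smul_iff he]
  exact h'

theorem isFrame_restrict_iff {W : Scheme.{u}} (j : W ⟶ X) [IsOpenImmersion j] (M : X.Modules) (V : W.Opens)
    (e : Γ(M.restrict j, V)) : IsFrame (M.restrict j) V e ↔ IsFrame M (j ''ᵁ V) (e : Γ(M, j ''ᵁ V)) := by
  have key : ∀ (V' : W.Opens) (h : V' ≤ V),
      Function.Bijective (fun a : Γ(W, V') => a • res (M.restrict j) h e) ↔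
        Function.Bijective (fun b : Γ(X, j ''ᵁ V') => b • res M (j.image_mono h) (e : Γ(M, j ''ᵁ V))) :=
    fun V' h => Function.Bijective.of_comp_iff
      (fun b : Γ(X, j ''ᵁ V') => b • res M (j.image_mono h) (e : Γ(M, j ''ᵁ V)))
      (ConcreteCategory.bijective_of_isIso (j.appIso V').inv)
  constructor
  · intro h V' hV'
    obtain ⟨V'', rfl⟩ : ∃ V'', j ''ᵁ V'' = V' := ⟨j ⁻¹ᵁ V', by
      rw [Scheme.Hom.image_preimage_eq_opensRange_inf]
      exact inf_eq_right.2 (hV'.trans (j.image_le_opensRange V))⟩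
    exact (key V'' ((j.image_le_image_iff _ _).1 hV')).1 (h V'' _)
  · intro h V' hV'
    exact (key V' hV').2 (h _ _)

/-- Opens `X_t` inside a basic open, `t` a section over the basic open, are of the form `X_s`. -/
theorem image_mem_genSet [CompactSpace X] [QuasiSeparatedSpace X] (hL : PicF.IsInvertible L) (g : Γ(X, ⊤))
    {W : Scheme.{u}} (j : W ⟶ X) [IsOpenImmersion j] (hj : j.opensRange = X.basicOpen g)
    {G : W.Opens} (hG : G ∈ GenSet (L.restrict j)) : j ''ᵁ G ∈ GenSet L := by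
  obtain ⟨n, s, rfl⟩ := hG
  let M := CohB1.tensorPow L (n + 1)
  have hM : PicF.IsInvertible M := EGA73.isInvertible_tensorPow hL _
  let s' : Coh.structureModule W ⟶ M.restrict j := s ≫ (powRestrict j L (n + 1)).hom
  have hs' : CohB1.genLocus _ s' = CohB1.genLocus _ s := genLocus_comp_iso _ _
  let σ := Var76.Frames.ofSection (Coh.structureModule X) (g : Γ(Coh.structureModule X, ⊤))
  have hσ : CohB1.genLocus _ σ = X.basicOpen g := by
    rw [← genLocus_inf_eq_basicOpen σ (isFrame_one ⊤) (c := g), inf_top_eq]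
    rw [Var76.Frames.val_ofSection, res_self]
    exact mul_one g
  have hU : j ''ᵁ ⊤ = CohB1.genLocus _ σ := by rw [Scheme.Hom.image_top_eq_opensRange, hj, hσ]
  let t : Γ(M, j ''ᵁ ⊤) := val (M.restrict j) s' ⊤
  obtain ⟨k, hk, t', ht'⟩ := exists_tw_extend_pos EGA73.isInvertible_structureModule σ
    (Mero90.isQCoh_of_isInvertible hM) (res M hU.ge t)
  let P := CohB1.tensorMod M (CohB1.tensorPow (Coh.structureModule X) k)
  let τ : Coh.structureModule X ⟶ P := Var76.Frames.ofSection P t'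
  have key : ∀ (V : X.Opens) (hV : V ≤ CohB1.genLocus _ σ),
      V ≤ CohB1.genLocus P τ ↔ IsFrame M V (res M (hV.trans hU.ge) t) := by
    intro V hV
    rw [← isFrame_iff_le_genLocus, ← res_val P τ hV,
      show val P τ (CohB1.genLocus _ σ) = _ from (Var76.Frames.val_ofSection P t' _).trans ht', res_tw, res_res]
    exact isFrame_tm_right_iff hM (isFrame_epow ((isFrame_iff_le_genLocus σ V).2 hV) k)
  have hres : ∀ V : W.Opens, val (M.restrict j) s' V = res M (j.image_mono le_top) t := fun V =>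
    (res_val (M.restrict j) s' (le_top : V ≤ ⊤)).symm
  have heq : CohB1.genLocus P τ ⊓ CohB1.genLocus _ σ = j ''ᵁ CohB1.genLocus _ s' := by
    apply le_antisymm
    · have hV : CohB1.genLocus P τ ⊓ CohB1.genLocus _ σ ≤ CohB1.genLocus _ σ := inf_le_right
      have h := (key _ hV).1 inf_le_left
      set V := CohB1.genLocus P τ ⊓ CohB1.genLocus _ σ
      have h2 := h.res (j.image_preimage_le V)
      rw [res_res] at h2
      have h3 : IsFrame (M.restrict j) (j ⁻¹ᵁ V) (val (M.restrict j) s' (j ⁻¹ᵁ V)) := by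
        rw [isFrame_restrict_iff, hres]; exact h2
      refine le_trans ?_ (j.image_mono ((isFrame_iff_le_genLocus s' _).1 h3))
      rw [Scheme.Hom.image_preimage_eq_opensRange_inf, hj, ← hσ]
      exact le_inf hV le_rfl
    · have hV : j ''ᵁ CohB1.genLocus _ s' ≤ CohB1.genLocus _ σ := (j.image_mono le_top).trans hU.le
      refine le_inf ((key _ hV).2 ?_) hV
      have h := isFrame_genLocus s'
      rw [isFrame_restrict_iff, hres] at h
      exact h
  have h := mem_genSet_one (SecTwist.tmulHom τ σ ≫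
    (EGA73.tensUnitRight P ≪≫ EGA73.tensIso (Iso.refl M) (powUnit X k) ≪≫ EGA73.tensUnitRight M).hom)
  rw [genLocus_comp_iso, genLocus_tmulHom (EGA73.isInvertible_tensorMod hM
    (EGA73.isInvertible_tensorPow EGA73.isInvertible_structureModule k)) EGA73.isInvertible_structureModule,
    heq, hs'] at h
  exact mem_genSet_of_tensorPow (Nat.succ_pos n) h

/-- Invertibility is local. -/
theorem isInvertible_of_cover (h : ∀ x : X, ∃ (W : Scheme.{u}) (j : W ⟶ X) (_ : IsOpenImmersion j),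
    x ∈ Set.range j ∧ PicF.IsInvertible (L.restrict j)) : PicF.IsInvertible L := fun x => by
  obtain ⟨W, j, _, ⟨w, rfl⟩, hj⟩ := h x
  obtain ⟨D, hw, ⟨i⟩⟩ := hj w
  refine ⟨j ''ᵁ D, ⟨w, hw, rfl⟩, ⟨?_⟩⟩
  have e : (j.isoImage D).inv ≫ D.ι ≫ j = (j ''ᵁ D).ι := by
    rw [Iso.inv_comp_eq, Scheme.Hom.isoImage_hom_ι]
  exact (Scheme.Modules.restrictFunctorCongr e.symm).app L ≪≫
    (Scheme.Modules.restrictFunctorComp _ (D.ι ≫ j)).app L ≪≫
    (Scheme.Modules.restrictFunctor (j.isoImage D).inv).mapIso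
      ((Scheme.Modules.restrictFunctorComp D.ι j).app L ≪≫ i) ≪≫
    Scheme.Modules.restrictUnitIso _

/-- An ample module stays ample on quasi-compact opens. -/
theorem isAmple_restrict (h : CohB1.IsAmple L) {W : Scheme.{u}} (j : W ⟶ X) [IsOpenImmersion j]
    [CompactSpace W] : CohB1.IsAmple (L.restrict j) := by
  refine isAmple_of_le_basis (EGA73.isInvertible_restrict h.1 j) fun x U hx => ?_
  obtain ⟨_, ⟨n, s, rfl⟩, hxG, hle, -⟩ := exists_affine_genSet_le h (j x) (j ''ᵁ U) ⟨x, hx, rfl⟩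
  refine ⟨j ⁻¹ᵁ CohB1.genLocus _ s, ⟨n, restrHom j s ≫ (powRestrict j L (n + 1)).inv,
    (genLocus_comp_iso _ _).trans (genLocus_restrHom j (EGA73.isInvertible_tensorPow h.1 _) s)⟩, hxG,
    (j.preimage_mono hle).trans (j.preimage_image_eq U).le⟩

/-- Ampleness of `L` on an open subscheme passes to smaller quasi-compact opens. -/
theorem isAmple_restrict_mono {A B : Scheme.{u}} (a : A ⟶ X) (b : B ⟶ X) [IsOpenImmersion a]
    [IsOpenImmersion b] [CompactSpace A] (hab : Set.range a ⊆ Set.range b)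
    (h : CohB1.IsAmple (L.restrict b)) : CohB1.IsAmple (L.restrict a) := by
  let c := IsOpenImmersion.lift b a hab
  have hc : c ≫ b = a := IsOpenImmersion.lift_fac b a hab
  have : IsOpenImmersion (c ≫ b) := by rw [hc]; infer_instance
  have : IsOpenImmersion c := IsOpenImmersion.of_comp c b
  exact isAmple_of_iso (((Scheme.Modules.restrictFunctorComp c b).app L).symm ≪≫
    (Scheme.Modules.restrictFunctorCongr hc).app L) (isAmple_restrict h c)

theorem isAmple_of_surjective {B : Scheme.{u}} (b : B ⟶ X) [IsOpenImmersion b]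
    (hb : Set.range b = Set.univ) (h : CohB1.IsAmple (L.restrict b)) : CohB1.IsAmple L := by
  have := h.2.1
  have : CompactSpace X := isCompact_univ_iff.1 (hb ▸ isCompact_range b.continuous)
  exact isAmple_of_iso (Scheme.Modules.restrictFunctorId.app L)
    (isAmple_restrict_mono (𝟙 X) b (hb ▸ Set.subset_univ _) h)

/-- Ampleness can be checked on a cover by basic opens of global functions. -/
theorem isAmple_of_basicOpen_cover [CompactSpace X]
    (h : ∀ x : X, ∃ g : Γ(X, ⊤), x ∈ X.basicOpen g ∧ CohB1.IsAmple (L.restrict (X.basicOpen g).ι)) :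
    CohB1.IsAmple L := by
  choose g hxg hg using h
  have hL : PicF.IsInvertible L := isInvertible_of_cover fun x =>
    ⟨_, (X.basicOpen (g x)).ι, inferInstance, ⟨⟨x, hxg x⟩, rfl⟩, (hg x).1⟩
  have : QuasiSeparatedSpace X := QuasiSeparatedSpace.of_isOpenCover (U := fun x => X.basicOpen (g x))
    (IsOpenCover.mk (top_le_iff.mp fun x _ => Opens.mem_iSup.mpr ⟨x, hxg x⟩))
    (fun _ => isRetrocompact_basicOpen _) fun x => by
      have := quasiSeparatedSpace_of_isAmple (hg x)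
      exact (isQuasiSeparated_iff_quasiSeparatedSpace _ (X.basicOpen (g x)).2).2 this
  refine isAmple_iff.2 ⟨hL, inferInstance, fun x => ?_⟩
  obtain ⟨G, hG, hxG, ha⟩ := (isAmple_iff.1 (hg x)).2.2 ⟨x, hxg x⟩
  exact ⟨_, image_mem_genSet hL (g x) _ (Scheme.Opens.opensRange_ι _) hG, ⟨_, hxG, rfl⟩,
    ha.image_of_isOpenImmersion _⟩

theorem compactSpace_preimage (f : X ⟶ Y) [QuasiCompact f] {V : Y.Opens} (hV : IsAffineOpen V) :
    CompactSpace (f ⁻¹ᵁ V : Scheme.{u}) :=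
  isCompact_iff_compactSpace.1 (QuasiCompact.isCompact_preimage (f := f) _ V.2 hV.isCompact)

/-- Relative ampleness can be checked on an affine cover of the base. -/
theorem isRelAmple_of_cover (f : X ⟶ Y) [QuasiCompact f]
    (h : ∀ y : Y, ∃ V : Y.affineOpens, y ∈ V.1 ∧ CohB1.IsAmple (L.restrict (f ⁻¹ᵁ V.1).ι)) :
    RelAmple.IsRelAmple f L := by
  refine ⟨inferInstance, fun V => ?_⟩
  let ι := (f ⁻¹ᵁ V.1).ι
  have := compactSpace_preimage f V.2
  refine isAmple_of_basicOpen_cover fun x => ?_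
  obtain ⟨V', hyV', hV'⟩ := h (f (ι x))
  obtain ⟨r, r', hrr, hyr⟩ := exists_basicOpen_le_affine_inter V.2 V'.2 (f (ι x)) ⟨x.2, hyV'⟩
  let g0 : Γ((f ⁻¹ᵁ V.1 : Scheme.{u}), ⊤) :=
    fres (U := ι ⁻¹ᵁ (f ⁻¹ᵁ V.1)) (Scheme.Opens.ι_preimage_self _).ge (ι.app _ (f.app V.1 r))
  have hg0 : (f ⁻¹ᵁ V.1 : Scheme.{u}).basicOpen g0 = ι ⁻¹ᵁ (f ⁻¹ᵁ Y.basicOpen r) := by
    refine (Scheme.basicOpen_res _ _ _).trans ?_
    rw [top_inf_eq, ← Scheme.preimage_basicOpen, ← Scheme.preimage_basicOpen]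
  refine ⟨g0, hg0.ge hyr, ?_⟩
  let a := ((f ⁻¹ᵁ V.1 : Scheme.{u}).basicOpen g0).ι
  have hD : f ⁻¹ᵁ Y.basicOpen r ≤ f ⁻¹ᵁ V.1 := f.preimage_mono (Y.basicOpen_le r)
  have hc : IsCompact (((f ⁻¹ᵁ V.1 : Scheme.{u}).basicOpen g0 : (f ⁻¹ᵁ V.1 : Scheme.{u}).Opens) :
      Set (f ⁻¹ᵁ V.1 : Scheme.{u})) := by
    rw [ι.isOpenEmbedding.isInducing.isCompact_iff]
    convert QuasiCompact.isCompact_preimage (f := f) _ (Y.basicOpen r).2 (V.2.basicOpen r).isCompact using 1
    rw [hg0]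
    exact Set.image_preimage_eq_of_subset fun z hz => (Scheme.Opens.range_ι _).ge (hD hz)
  have : CompactSpace ((f ⁻¹ᵁ V.1 : Scheme.{u}).basicOpen g0 : Scheme.{u}) := isCompact_iff_compactSpace.1 hc
  refine isAmple_of_iso ((Scheme.Modules.restrictFunctorComp a ι).app L)
    (isAmple_restrict_mono (a ≫ ι) (f ⁻¹ᵁ V'.1).ι ?_ hV')
  rintro _ ⟨z, rfl⟩
  rw [Scheme.Opens.range_ι]
  have hz : f (ι z.1) ∈ Y.basicOpen r := hg0.le z.2
  rw [hrr] at hz
  exact Y.basicOpen_le r' hz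

theorem isAmple_preimage {f : X ⟶ Y} (h : RelAmple.IsRelAmple f L) {A : Scheme.{u}} (a : A ⟶ X)
    [IsOpenImmersion a] [CompactSpace A] {V : Y.Opens} (hV : IsAffineOpen V)
    (ha : ∀ z, f (a z) ∈ V) : CohB1.IsAmple (L.restrict a) :=
  isAmple_restrict_mono a (f ⁻¹ᵁ V).ι (by rintro _ ⟨z, rfl⟩; rw [Scheme.Opens.range_ι]; exact ha z)
    (h.2 ⟨V, hV⟩)

/-- Over an affine base relative ampleness is ampleness. -/
theorem isRelAmple_iff_isAmple [IsAffine Y] (f : X ⟶ Y) [QuasiCompact f] :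
    RelAmple.IsRelAmple f L ↔ CohB1.IsAmple L := by
  constructor
  · intro h
    exact isAmple_of_surjective _ (by rw [Scheme.Opens.range_ι]; rfl) (h.2 ⟨⊤, isAffineOpen_top Y⟩)
  · intro h
    have : CompactSpace (f ⁻¹ᵁ ⊤ : Scheme.{u}) := compactSpace_preimage f (isAffineOpen_top Y)
    exact isRelAmple_of_cover f fun y => ⟨⟨⊤, isAffineOpen_top Y⟩, trivial, isAmple_restrict h _⟩

theorem isInvertible_of_isRelAmple {f : X ⟶ Y} (h : RelAmple.IsRelAmple f L) : PicF.IsInvertible L :=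
  isInvertible_of_cover fun x => by
    obtain ⟨V, hV, hxV, -⟩ := exists_isAffineOpen_mem_and_subset (U := (⊤ : Y.Opens)) (x := f x) trivial
    exact ⟨_, (f ⁻¹ᵁ V).ι, inferInstance, ⟨⟨x, hxV⟩, rfl⟩, (h.2 ⟨V, hV⟩).1⟩

/-- Relative ampleness is local on the base. -/
theorem isRelAmple_iff_cover (f : X ⟶ Y) [QuasiCompact f] {ι : Type*} (U : ι → Y.Opens) (hU : ⨆ i, U i = ⊤) :
    RelAmple.IsRelAmple f L ↔ ∀ i, RelAmple.IsRelAmple (f ∣_ U i) (L.restrict (f ⁻¹ᵁ U i).ι) := by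
  have hf : ∀ i (z : (f ⁻¹ᵁ U i : Scheme.{u})), (U i).ι ((f ∣_ U i) z) = f ((f ⁻¹ᵁ U i).ι z) := fun i z => by
    rw [← Scheme.Hom.comp_apply, morphismRestrict_ι]; rfl
  constructor
  · intro h i
    have : QuasiCompact (f ∣_ U i) := IsZariskiLocalAtTarget.restrict ‹_› (U i)
    refine ⟨inferInstance, fun V => ?_⟩
    let a := ((f ∣_ U i) ⁻¹ᵁ V.1).ι
    have := compactSpace_preimage (f ∣_ U i) V.2
    refine isAmple_of_iso ((Scheme.Modules.restrictFunctorComp a (f ⁻¹ᵁ U i).ι).app L)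
      (isAmple_preimage h _ (V.2.image_of_isOpenImmersion (U i).ι) fun z => ⟨(f ∣_ U i) z.1, z.2, hf i z.1⟩)
  · intro h
    refine isRelAmple_of_cover f fun y => ?_
    obtain ⟨i, hyi⟩ := Opens.mem_iSup.1 (hU.ge (Set.mem_univ y))
    obtain ⟨V, hV, hyV, hle⟩ := exists_isAffineOpen_mem_and_subset hyi
    refine ⟨⟨V, hV⟩, hyV, ?_⟩
    have hV' : IsAffineOpen ((U i).ι ⁻¹ᵁ V) := hV.preimage_of_isOpenImmersion _ (by
      rw [Scheme.Opens.opensRange_ι]; exact hle)
    have := compactSpace_preimage f hV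
    refine isAmple_restrict_mono _ (((f ∣_ U i) ⁻¹ᵁ ((U i).ι ⁻¹ᵁ V)).ι ≫ (f ⁻¹ᵁ U i).ι) ?_
      (isAmple_of_iso ((Scheme.Modules.restrictFunctorComp _ _).app L).symm ((h i).2 ⟨_, hV'⟩))
    rintro _ ⟨z, rfl⟩
    refine ⟨⟨⟨z.1, hle z.2⟩, ?_⟩, rfl⟩
    show (U i).ι ((f ∣_ U i) ⟨z.1, hle z.2⟩) ∈ V
    rw [hf]
    exact z.2

end Groth.Agent.Amp73

end
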