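import Groth.Agent.Mero90.TensorLift
import Groth.Agent.Var76.Frames
import Groth.Agent.EGA73.Invertible
import Groth.Agent.Mero90.Frames

/-!
The locus where a section generates, via frames.
-/

universe u

open CategoryTheory CategoryTheory.Limits AlgebraicGeometry Opposite TopologicalSpace

noncomputable section

namespace Groth.Agent.Amp73

open Var76.LineBundle Var76.ZeroScheme

variable {X : Scheme.{u}} {L M : X.Modules}

theorem res_self (L : X.Modules) {U : X.Opens} (m : Γ(L, U)) : res L le_rfl m = m := by simp [res]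

theorem fres_self {U : X.Opens} (a : Γ(X, U)) : fres (le_refl U) a = a := by simp [fres]

theorem res_add (L : X.Modules) {U V : X.Opens} (h : V ≤ U) (m n : Γ(L, U)) :
    res L h (m + n) = res L h m + res L h n := map_add _ _ _

theorem app_eq_smul_val (s : Coh.structureModule X ⟶ L) (W : X.Opens) (a : Γ(X, W)) :
    s.app W (a : Γ(Coh.structureModule X, W)) = a • val L s W := by
  let one : Γ(Coh.structureModule X, W) := (1 : Γ(X, W))
  show _ = a • s.app W one
  rw [← Scheme.Modules.Hom.app_smul]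
  exact congrArg (s.app W) (mul_one a).symm

/-- The basic fact: restriction of `s` to `U` is an isomorphism iff its value is a frame on `U`. -/
theorem isIso_restrict_map_iff (s : Coh.structureModule X ⟶ L) (U : X.Opens) :
    IsIso ((Scheme.Modules.restrictFunctor U.ι).map s) ↔ IsFrame L U (val L s U) := by
  have happ : ∀ W : (U : Scheme.{u}).Opens,
      Function.Bijective (((Scheme.Modules.restrictFunctor U.ι).map s).app W) ↔
        Function.Bijective (fun a : Γ(X, U.ι ''ᵁ W) => a • val L s (U.ι ''ᵁ W)) := by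
    intro W
    have e : (fun a : Γ(X, U.ι ''ᵁ W) => a • val L s (U.ι ''ᵁ W)) =
        fun a : Γ(X, U.ι ''ᵁ W) => s.app (U.ι ''ᵁ W) (a : Γ(Coh.structureModule X, U.ι ''ᵁ W)) :=
      funext fun a => (app_eq_smul_val s _ a).symm
    rw [e]
    rfl
  rw [Scheme.Modules.Hom.isIso_iff_isIso_app]
  constructor
  · intro h V hV
    rw [res_val]
    obtain ⟨W, rfl⟩ : ∃ W : (U : Scheme.{u}).Opens, U.ι ''ᵁ W = V :=
      ⟨U.ι ⁻¹ᵁ V, by rw [Scheme.Hom.image_preimage_eq_opensRange_inf, U.opensRange_ι, inf_eq_right.2 hV]⟩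
    exact (happ W).1 ((ConcreteCategory.isIso_iff_bijective _).1 (h W))
  · intro h W
    refine (ConcreteCategory.isIso_iff_bijective _).2 ((happ W).2 ?_)
    have hle : U.ι ''ᵁ W ≤ U := (U.ι.image_mono (le_top : W ≤ ⊤)).trans U.ι_image_top.le
    have := h _ hle
    rwa [res_val] at this

/-- Being a frame is local. -/
theorem isFrame_of_locally {U : X.Opens} (e : Γ(L, U))
    (h : ∀ x ∈ U, ∃ (W : X.Opens) (hW : W ≤ U), x ∈ W ∧ IsFrame L W (res L hW e)) : IsFrame L U e := by
  choose W hW hxW hf using h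
  intro V hV
  constructor
  · intro a a' h
    refine TopCat.Sheaf.eq_of_locally_eq' X.sheaf (fun x : V => V ⊓ W x.1 (hV x.2)) V
      (fun x => homOfLE inf_le_left) (fun y hy => Opens.mem_iSup.2 ⟨⟨y, hy⟩, hy, hxW y (hV hy)⟩) a a' fun x => ?_
    refine (hf x.1 (hV x.2) (V ⊓ W x.1 (hV x.2)) inf_le_right).1 ?_
    have h1 := congrArg (res L (inf_le_left : V ⊓ W x.1 (hV x.2) ≤ V)) h
    dsimp only at h1
    rw [res_smul, res_smul, res_res] at h1
    dsimp only
    rw [res_res]
    exact h1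
  · intro m
    have key : ∀ x : V, ∃ c : Γ(X, V ⊓ W x.1 (hV x.2)),
        c • res L ((inf_le_left : V ⊓ W x.1 (hV x.2) ≤ V).trans hV) e =
          res L (inf_le_left : V ⊓ W x.1 (hV x.2) ≤ V) m := by
      intro x
      obtain ⟨c, hc⟩ := (hf x.1 (hV x.2) (V ⊓ W x.1 (hV x.2)) inf_le_right).2 (res L inf_le_left m)
      dsimp only at hc
      rw [res_res] at hc
      exact ⟨c, hc⟩
    choose c hc using key
    have compat : TopCat.Presheaf.IsCompatible X.presheaf (fun x : V => V ⊓ W x.1 (hV x.2)) c := by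
      intro x y
      refine (hf x.1 (hV x.2) _ (inf_le_left.trans inf_le_right)).1 ?_
      dsimp only
      rw [res_res]
      have h1 := congrArg (res L (inf_le_left :
        (V ⊓ W x.1 (hV x.2)) ⊓ (V ⊓ W y.1 (hV y.2)) ≤ V ⊓ W x.1 (hV x.2))) (hc x)
      have h2 := congrArg (res L (inf_le_right :
        (V ⊓ W x.1 (hV x.2)) ⊓ (V ⊓ W y.1 (hV y.2)) ≤ V ⊓ W y.1 (hV y.2))) (hc y)
      rw [res_smul, res_res, res_res] at h1 h2
      exact h1.trans h2.symm
    obtain ⟨a, ha, -⟩ := X.sheaf.existsUnique_gluing' (fun x : V => V ⊓ W x.1 (hV x.2)) V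
      (fun x => homOfLE inf_le_left) (fun y hy => Opens.mem_iSup.2 ⟨⟨y, hy⟩, hy, hxW y (hV hy)⟩) c compat
    refine ⟨a, eq_of_locally L _ _ fun y hy => ⟨V ⊓ W y (hV hy), inf_le_left, ⟨hy, hxW y (hV hy)⟩, ?_⟩⟩
    rw [res_smul, res_res, ← hc ⟨y, hy⟩]
    congr 1
    exact ha ⟨y, hy⟩

theorem mem_genLocus_iff {s : Coh.structureModule X ⟶ L} {x : X} :
    x ∈ CohB1.genLocus L s ↔ ∃ U : X.Opens, x ∈ U ∧ IsFrame L U (val L s U) := by
  rw [CohB1.genLocus, Opens.mem_sSup]
  constructor
  · rintro ⟨U, hU, hx⟩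
    exact ⟨U, hx, (isIso_restrict_map_iff s U).1 hU⟩
  · rintro ⟨U, hx, hU⟩
    exact ⟨U, (isIso_restrict_map_iff s U).2 hU, hx⟩

theorem isFrame_genLocus (s : Coh.structureModule X ⟶ L) :
    IsFrame L (CohB1.genLocus L s) (val L s _) := by
  refine isFrame_of_locally _ fun x hx => ?_
  obtain ⟨U, hxU, hU⟩ := mem_genLocus_iff.1 hx
  exact ⟨U, fun y hy => mem_genLocus_iff.2 ⟨U, hy, hU⟩, hxU, by rwa [res_val]⟩

theorem isFrame_iff_le_genLocus (s : Coh.structureModule X ⟶ L) (U : X.Opens) :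
    IsFrame L U (val L s U) ↔ U ≤ CohB1.genLocus L s :=
  ⟨fun h x hx => mem_genLocus_iff.2 ⟨U, hx, h⟩, fun h => by
    have := (isFrame_genLocus s).res h
    rwa [res_val] at this⟩

/-- Unit multiples of frames are frames, and conversely. -/
theorem isFrame_smul_iff {U : X.Opens} {e : Γ(L, U)} (he : IsFrame L U e) (c : Γ(X, U)) :
    IsFrame L U (c • e) ↔ IsUnit c := by
  constructor
  · intro h
    obtain ⟨a, ha⟩ := (h U le_rfl).2 e
    refine IsUnit.of_mul_eq_one a ((he U le_rfl).1 ?_)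
    dsimp only at ha ⊢
    rw [res_self] at ha ⊢
    rw [one_smul, mul_comm, mul_smul]
    exact ha
  · intro hc V hV
    have hu : IsUnit (fres hV c) := hc.map _
    have e2 : (fun a : Γ(X, V) => a • res L hV (c • e)) =
        (fun a : Γ(X, V) => a • res L hV e) ∘ fun a => a * fres hV c := by
      funext a
      simp only [Function.comp_apply, res_smul, smul_smul]
    rw [e2]
    exact (he V hV).comp ⟨fun a b h => hu.mul_right_cancel h, fun b =>
      ⟨b * hu.unit.inv, by simp [mul_assoc]⟩⟩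

/-- In a frame the generating locus is the basic open of the coordinate. -/
theorem genLocus_inf_eq_basicOpen (s : Coh.structureModule X ⟶ L) {U : X.Opens} {e : Γ(L, U)}
    (he : IsFrame L U e) {c : Γ(X, U)} (hc : c • e = val L s U) :
    CohB1.genLocus L s ⊓ U = X.basicOpen c := by
  have key : ∀ (V : X.Opens) (hV : V ≤ U), IsFrame L V (val L s V) ↔ IsUnit (fres hV c) := by
    intro V hV
    rw [← res_val L s hV, ← hc, res_smul]
    exact isFrame_smul_iff (he.res hV) _
  apply le_antisymm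
  · intro x hx
    have hV : CohB1.genLocus L s ⊓ U ≤ U := inf_le_right
    have hu := (key _ hV).1 ((isFrame_iff_le_genLocus s _).2 inf_le_left)
    have h2 : X.basicOpen (fres hV c) = CohB1.genLocus L s ⊓ U := X.basicOpen_of_isUnit hu
    have h3 : X.basicOpen (fres hV c) ≤ X.basicOpen c := (X.basicOpen_res c (homOfLE hV).op).le.trans inf_le_right
    exact h3 (h2.ge hx)
  · refine le_inf ((isFrame_iff_le_genLocus s _).1 ((key _ (X.basicOpen_le c)).2 ?_)) (X.basicOpen_le c)
    exact RingedSpace.isUnit_res_basicOpen _ c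

theorem exists_coord (s : Coh.structureModule X ⟶ L) {U : X.Opens} {e : Γ(L, U)}
    (he : IsFrame L U e) : ∃ c : Γ(X, U), c • e = val L s U := by
  obtain ⟨c, hc⟩ := (he U le_rfl).2 (val L s U)
  dsimp only at hc
  rw [res_self] at hc
  exact ⟨c, hc⟩

/-- The generating locus meets framed affines in affines. -/
theorem isAffineOpen_genLocus_inf_of_frame (s : Coh.structureModule X ⟶ L) {U : X.Opens}
    (hU : IsAffineOpen U) {e : Γ(L, U)} (he : IsFrame L U e) : IsAffineOpen (CohB1.genLocus L s ⊓ U) := by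
  obtain ⟨c, hc⟩ := exists_coord s he
  rw [genLocus_inf_eq_basicOpen s he hc]
  exact hU.basicOpen c

theorem isAffineHom_genLocus_ι (hL : PicF.IsInvertible L) (s : Coh.structureModule X ⟶ L) :
    IsAffineHom (CohB1.genLocus L s).ι := by
  refine isAffineHom_of_forall_exists_isAffineOpen _ fun x => ?_
  obtain ⟨W, hxW, -, e, he⟩ := Mero90.exists_affine_frame hL x ⊤ trivial
  refine ⟨W.1, hxW, W.2, ?_⟩
  rw [← Scheme.Hom.isAffineOpen_iff_of_isOpenImmersion (CohB1.genLocus L s).ι,
    Scheme.Hom.image_preimage_eq_opensRange_inf, Scheme.Opens.opensRange_ι]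
  exact isAffineOpen_genLocus_inf_of_frame s W.2 he

theorem isAffineOpen_genLocus_inf (hL : PicF.IsInvertible L) (s : Coh.structureModule X ⟶ L) {U : X.Opens}
    (hU : IsAffineOpen U) : IsAffineOpen (CohB1.genLocus L s ⊓ U) := by
  have := isAffineHom_genLocus_ι hL s
  have h := hU.preimage (CohB1.genLocus L s).ι
  rw [← Scheme.Hom.isAffineOpen_iff_of_isOpenImmersion (CohB1.genLocus L s).ι,
    Scheme.Hom.image_preimage_eq_opensRange_inf, Scheme.Opens.opensRange_ι] at h
  exact h

/-- Isomorphisms transport values, frames and generating loci. -/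
theorem isFrame_app_iff (φ : L ⟶ M) [IsIso φ] {U : X.Opens} (e : Γ(L, U)) :
    IsFrame M U (φ.app U e) ↔ IsFrame L U e := by
  refine forall₂_congr fun V hV => ?_
  have e1 : (fun a : Γ(X, V) => a • res M hV (φ.app U e)) = φ.app V ∘ fun a : Γ(X, V) => a • res L hV e := by
    funext a
    simp only [Function.comp_apply, Scheme.Modules.Hom.app_smul, Mero90.app_res]
  rw [e1]
  exact Function.Bijective.of_comp_iff' (ConcreteCategory.bijective_of_isIso (φ.app V)) _

theorem genLocus_comp_iso (s : Coh.structureModule X ⟶ L) (φ : L ⟶ M) [IsIso φ] :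
    CohB1.genLocus M (s ≫ φ) = CohB1.genLocus L s := by
  have key : ∀ U : X.Opens, IsFrame M U (val M (s ≫ φ) U) ↔ IsFrame L U (val L s U) := fun U =>
    isFrame_app_iff φ _
  ext x
  rw [SetLike.mem_coe, SetLike.mem_coe, mem_genLocus_iff, mem_genLocus_iff]
  simp only [key]

theorem genLocus_iso_comp (s : Coh.structureModule X ⟶ L) (φ : Coh.structureModule X ≅ Coh.structureModule X) :
    CohB1.genLocus L (φ.hom ≫ s) = CohB1.genLocus L s := by
  have key : ∀ U : X.Opens, IsFrame L U (val L (φ.hom ≫ s) U) ↔ IsFrame L U (val L s U) := by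
    intro U
    let one : Γ(Coh.structureModule X, U) := (1 : Γ(X, U))
    let a : Γ(X, U) := φ.hom.app U one
    let b : Γ(X, U) := φ.inv.app U one
    have hab : a * b = 1 := by
      have h1 : φ.inv.app U (a • one) = a • φ.inv.app U one := Scheme.Modules.Hom.app_smul _ _ _
      have h2 : φ.inv.app U (φ.hom.app U one) = one :=
        ConcreteCategory.congr_hom (congrArg (fun f => Scheme.Modules.Hom.app f U) φ.hom_inv_id) one
      have h3 : (a • one : Γ(Coh.structureModule X, U)) = φ.hom.app U one := mul_one a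
      rw [h3, h2] at h1
      exact h1.symm
    have e : val L (φ.hom ≫ s) U = a • val L s U := app_eq_smul_val s U a
    rw [e]
    constructor
    · intro h
      have h2 := (isFrame_smul_iff h b).2 (IsUnit.of_mul_eq_one a (by rw [mul_comm, hab]))
      rwa [smul_smul, mul_comm, hab, one_smul] at h2
    · exact fun h => (isFrame_smul_iff h a).2 (IsUnit.of_mul_eq_one b hab)
  ext x
  rw [SetLike.mem_coe, SetLike.mem_coe, mem_genLocus_iff, mem_genLocus_iff]
  simp only [key]

/-- A morphism taking a frame near every point to a frame is an isomorphism. -/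
theorem isIso_of_frames (φ : L ⟶ M) (h : ∀ x : X, ∃ (U : X.Opens) (e : Γ(L, U)),
    x ∈ U ∧ IsFrame L U e ∧ IsFrame M U (φ.app U e)) : IsIso φ := by
  choose U e hx he hφ using h
  have inj : ∀ (x : X) (V : X.Opens), V ≤ U x → Function.Injective (φ.app V) := fun x V hV m m' hm => by
    obtain ⟨a, rfl⟩ := (he x V hV).2 m
    obtain ⟨b, rfl⟩ := (he x V hV).2 m'
    simp only [Scheme.Modules.Hom.app_smul, Mero90.app_res] at hm
    rw [(hφ x V hV).1 hm]
  rw [Scheme.Modules.Hom.isIso_iff_isIso_app]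
  intro V
  refine (ConcreteCategory.isIso_iff_bijective _).2 ⟨fun m m' hm => ?_, fun z => ?_⟩
  · refine eq_of_locally L _ _ fun y hy => ⟨V ⊓ U y, inf_le_left, ⟨hy, hx y⟩, inj y _ inf_le_right ?_⟩
    rw [Mero90.app_res, Mero90.app_res, hm]
  · have key : ∀ x : V, ∃ m : Γ(L, V ⊓ U x.1), φ.app _ m = res M inf_le_left z := fun x => by
      obtain ⟨a, ha⟩ := (hφ x.1 (V ⊓ U x.1) inf_le_right).2 (res M inf_le_left z)
      refine ⟨a • res L inf_le_right (e x.1), ?_⟩
      rw [Scheme.Modules.Hom.app_smul, Mero90.app_res]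
      exact ha
    choose m hm using key
    have hc : ∀ x y : V, res L (inf_le_left : (V ⊓ U x.1) ⊓ (V ⊓ U y.1) ≤ V ⊓ U x.1) (m x) =
        res L (inf_le_right : (V ⊓ U x.1) ⊓ (V ⊓ U y.1) ≤ V ⊓ U y.1) (m y) := fun x y =>
      inj x.1 _ (inf_le_left.trans inf_le_right) (by
        rw [Mero90.app_res, Mero90.app_res, hm, hm, res_res, res_res])
    obtain ⟨s, hs, -⟩ := TopCat.Sheaf.existsUnique_gluing' ⟨L.presheaf, L.isSheaf⟩ (fun x : V => V ⊓ U x.1) V
      (fun x => homOfLE inf_le_left) (fun y hy => Opens.mem_iSup.2 ⟨⟨y, hy⟩, hy, hx y⟩) m hc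
    refine ⟨s, eq_of_locally M _ _ fun y hy => ⟨V ⊓ U y, inf_le_left, ⟨hy, hx y⟩, ?_⟩⟩
    rw [← Mero90.app_res]
    exact (congrArg (φ.app _) (hs ⟨y, hy⟩)).trans (hm ⟨y, hy⟩)

end Groth.Agent.Amp73
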