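import Groth.Agent.Amp73.Local
import Mathlib.AlgebraicGeometry.QuasiAffine
import Groth.Prelude.Def_Mor2

/-!
Quasi-affine schemes and morphisms in terms of ampleness, and inverse images of ample modules.
-/

universe u

open CategoryTheory CategoryTheory.Limits AlgebraicGeometry Opposite TopologicalSpace

noncomputable section

namespace Groth.Agent.Amp73

open Var76.LineBundle Var76.ZeroScheme

variable {X Y Z : Scheme.{u}} {L : X.Modules}

/-- Invertible modules on quasi-affine schemes are ample. -/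
theorem isAmple_of_isQuasiAffine [X.IsQuasiAffine] (hL : PicF.IsInvertible L) : CohB1.IsAmple L := by
  refine isAmple_of_le_basis hL fun x U hx => ?_
  obtain ⟨D, hxD, hD⟩ := hL x
  obtain ⟨_, ⟨r, -, rfl⟩, hxr, hle⟩ :=
    Opens.isBasis_iff_nbhd.1 (Scheme.IsQuasiAffine.isBasis_basicOpen X) (show x ∈ U ⊓ D from ⟨hx, hxD⟩)
  obtain ⟨i⟩ := EGA73.nonempty_restrict_iso_unit_of_le (hle.trans inf_le_right) hD
  have h1 : CohB1.genLocus _ (i.inv) ∈ GenSet (L.restrict (X.basicOpen r).ι) := mem_genSet_one _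
  have h2 : CohB1.genLocus (L.restrict (X.basicOpen r).ι) i.inv = ⊤ := by
    rw [← Category.id_comp i.inv, genLocus_comp_iso, genLocus_id]
  refine ⟨_, image_mem_genSet hL r _ (Scheme.Opens.opensRange_ι _) h1, ⟨⟨x, hxr⟩, h2.ge trivial, rfl⟩, ?_⟩
  rw [h2, Scheme.Opens.ι_image_top]
  exact hle.trans inf_le_left

theorem isQuasiAffine_of_isAmple (h : CohB1.IsAmple (Coh.structureModule X)) : X.IsQuasiAffine := by
  obtain ⟨-, hc, hs⟩ := h
  refine Scheme.IsQuasiAffine.of_forall_exists_mem_basicOpen X fun x => ?_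
  obtain ⟨n, s, hx, ha⟩ := hs x
  let σ := s ≫ (powUnit X (n + 1)).hom
  let r : Γ(X, ⊤) := val (Coh.structureModule X) σ ⊤
  have e : CohB1.genLocus _ s = X.basicOpen r := by
    rw [← genLocus_inf_eq_basicOpen σ (isFrame_one ⊤) (c := r) (mul_one r), inf_top_eq, genLocus_comp_iso]
  exact ⟨r, e ▸ ha, e ▸ hx⟩

theorem isQuasiAffine_iff_isAmple : X.IsQuasiAffine ↔ CohB1.IsAmple (Coh.structureModule X) :=
  ⟨fun _ => isAmple_of_isQuasiAffine EGA73.isInvertible_structureModule, isQuasiAffine_of_isAmple⟩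

/-- Quasi-affine morphisms are those for which the structure module is relatively ample. -/
theorem isQuasiAffine_iff_isRelAmple (f : X ⟶ Y) :
    Mor2.IsQuasiAffine f ↔ RelAmple.IsRelAmple f (Coh.structureModule X) := by
  refine and_congr_right fun _ => ⟨fun h V => ?_, fun h V hV => ?_⟩
  · exact isAmple_of_iso (Scheme.Modules.restrictUnitIso _).symm (isQuasiAffine_iff_isAmple.1 (h V.1 V.2))
  · exact isQuasiAffine_of_isAmple (isAmple_of_iso (Scheme.Modules.restrictUnitIso _) (h ⟨V, hV⟩))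

theorem isQuasiAffine_of_isAffineHom (f : X ⟶ Y) [IsAffineHom f] : Mor2.IsQuasiAffine f :=
  ⟨inferInstance, fun V hV => by
    have : IsAffine (f ⁻¹ᵁ V : Scheme.{u}) := hV.preimage f
    infer_instance⟩

theorem isQuasiAffine_morphismRestrict {f : X ⟶ Y} (h : Mor2.IsQuasiAffine f) (U : Y.Opens) :
    Mor2.IsQuasiAffine (f ∣_ U) := by
  have := h.1
  have hq : QuasiCompact (f ∣_ U) := IsZariskiLocalAtTarget.restrict ‹_› U
  refine ⟨hq, fun W hW => ?_⟩
  have := compactSpace_preimage (f ∣_ U) hW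
  let a := ((f ∣_ U) ⁻¹ᵁ W).ι ≫ (f ⁻¹ᵁ U).ι
  have hq' : Scheme.IsQuasiAffine (f ⁻¹ᵁ (U.ι ''ᵁ W) : Scheme.{u}) := h.2 _ (hW.image_of_isOpenImmersion U.ι)
  have hr : Set.range a ⊆ Set.range (f ⁻¹ᵁ (U.ι ''ᵁ W)).ι := by
    rintro _ ⟨z, rfl⟩
    rw [Scheme.Opens.range_ι]
    refine ⟨(f ∣_ U) z.1, z.2, ?_⟩
    show ((f ∣_ U) ≫ U.ι) z.1 = _
    rw [morphismRestrict_ι]; rfl
  have : IsImmersion (IsOpenImmersion.lift _ a hr) := by
    have : IsOpenImmersion (IsOpenImmersion.lift _ a hr ≫ (f ⁻¹ᵁ (U.ι ''ᵁ W)).ι) := by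
      rw [IsOpenImmersion.lift_fac]; infer_instance
    have := IsOpenImmersion.of_comp (IsOpenImmersion.lift _ a hr) (f ⁻¹ᵁ (U.ι ''ᵁ W)).ι
    infer_instance
  exact Scheme.IsQuasiAffine.of_isImmersion (IsOpenImmersion.lift _ a hr)

theorem isSeparated_of_isQuasiAffine {f : X ⟶ Y} (h : Mor2.IsQuasiAffine f) : IsSeparated f := by
  refine (IsZariskiLocalAtTarget.iff_of_iSup_eq_top (P := @IsSeparated)
    (fun U : Y.affineOpens => U.1) (iSup_affineOpens_eq_top Y)).mpr fun U => ?_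
  have : Scheme.IsQuasiAffine (f ⁻¹ᵁ U.1).toScheme := h.2 U.1 U.2
  have : IsAffine U.1.toScheme := U.2
  exact IsSeparated.of_comp (f ∣_ U.1) (terminal.from _)

/-- A commutative square with open immersions gives an isomorphism of inverse images. -/
def pullSquareIso {A B P : Scheme.{u}} (a : A ⟶ B) (b : B ⟶ X) [IsOpenImmersion b] (c : A ⟶ P)
    [IsOpenImmersion c] (p : P ⟶ X) (h : a ≫ b = c ≫ p) (L : X.Modules) :
    (Scheme.Modules.pullback a).obj (L.restrict b) ≅ ((Scheme.Modules.pullback p).obj L).restrict c :=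
  (Scheme.Modules.pullback a).mapIso ((Scheme.Modules.restrictFunctorIsoPullback b).app L) ≪≫
    (Scheme.Modules.pullbackComp a b).app L ≪≫ (Scheme.Modules.pullbackCongr h).app L ≪≫
    ((Scheme.Modules.pullbackComp c p).app L).symm ≪≫
    ((Scheme.Modules.restrictFunctorIsoPullback c).app ((Scheme.Modules.pullback p).obj L)).symm

/-- The inverse image of an ample module by a quasi-affine morphism is ample. -/
theorem isAmple_pullback {X' : Scheme.{u}} (g : X' ⟶ X) (hg : Mor2.IsQuasiAffine g) (h : CohB1.IsAmple L) :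
    CohB1.IsAmple ((Scheme.Modules.pullback g).obj L) := by
  have := h.2.1
  have := quasiSeparatedSpace_of_isAmple h
  have := hg.1
  have := isSeparated_of_isQuasiAffine hg
  have : CompactSpace X' := QuasiCompact.compactSpace_of_compactSpace g
  have : QuasiSeparatedSpace X' := quasiSeparatedSpace_of_quasiSeparated g
  have hL' := isInvertible_pullback g h.1
  refine isAmple_iff.2 ⟨hL', inferInstance, fun x => ?_⟩
  obtain ⟨n, s, hx, ha⟩ := h.2.2 (g x)
  let t := pullHom g s ≫ (pullPowIso g h.1 (n + 1)).hom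
  have ht : CohB1.genLocus _ t = g ⁻¹ᵁ CohB1.genLocus _ s :=
    (genLocus_comp_iso _ _).trans (genLocus_pullHom g (EGA73.isInvertible_tensorPow h.1 _) s)
  let G := g ⁻¹ᵁ CohB1.genLocus _ s
  have : Scheme.IsQuasiAffine (G : Scheme.{u}) := hg.2 _ ha
  obtain ⟨_, ⟨r, hr, rfl⟩, hxr, -⟩ :=
    Opens.isBasis_iff_nbhd.1 (Scheme.IsQuasiAffine.isBasis_basicOpen (G : Scheme.{u}))
      (show (⟨x, hx⟩ : G) ∈ (⊤ : (G : Scheme.{u}).Opens) from trivial)
  let r' : Γ(X', CohB1.genLocus _ t) :=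
    fres (by rw [ht, Scheme.Opens.ι_image_top]) ((G.ι.appIso ⊤).inv r)
  have hb : X'.basicOpen r' = G.ι ''ᵁ (G : Scheme.{u}).basicOpen r := by
    refine (Scheme.basicOpen_res _ _ _).trans ?_
    rw [← Scheme.image_basicOpen, inf_eq_right, ht]
    exact (G.ι.image_mono le_top).trans G.ι_image_top.le
  exact ⟨_, basicOpen_mem_genSet hL' t r', hb.ge ⟨_, hxr, rfl⟩, hb ▸ hr.image_of_isOpenImmersion _⟩

/-- The inverse image of an ample module by a quasi-compact embedding is ample. -/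
theorem isAmple_pullback_of_isEmbedding {A : Scheme.{u}} (a : A ⟶ X) [CompactSpace A]
    (ha : Topology.IsEmbedding a.base) (h : CohB1.IsAmple L) :
    CohB1.IsAmple ((Scheme.Modules.pullback a).obj L) := by
  refine isAmple_of_le_basis (isInvertible_pullback a h.1) fun x U hx => ?_
  obtain ⟨O, hO, hOU⟩ := ha.isInducing.isOpen_iff.1 U.2
  obtain ⟨G, hG, hxG, hle, -⟩ := exists_affine_genSet_le h (a x) ⟨O, hO⟩ (hOU.ge hx)
  exact ⟨_, preimage_mem_genSet a h.1 hG, hxG, fun z hz => hOU.le (hle hz)⟩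

theorem isQuasiAffine_of_isEmbedding (f : X ⟶ Y) [QuasiCompact f] (hf : Topology.IsEmbedding f.base) :
    Mor2.IsQuasiAffine f := by
  refine ⟨inferInstance, fun V hV => isQuasiAffine_of_isAmple ?_⟩
  have : IsAffine (V : Scheme.{u}) := hV
  have := compactSpace_preimage f hV
  have he : Topology.IsEmbedding (f ∣_ V).base := by
    refine Topology.IsEmbedding.of_comp (f ∣_ V).continuous V.ι.continuous ?_
    have : V.ι.base ∘ (f ∣_ V).base = f.base ∘ (f ⁻¹ᵁ V).ι.base :=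
      congrArg (fun a : (f ⁻¹ᵁ V : Scheme.{u}) ⟶ Y => (⇑a.base : _ → _)) (morphismRestrict_ι f V)
    show Topology.IsEmbedding (V.ι.base ∘ (f ∣_ V).base)
    rw [this]
    exact hf.comp (f ⁻¹ᵁ V).ι.isOpenEmbedding.isEmbedding
  exact isAmple_of_iso (PicLoc.pullbackStructureIso (f ∣_ V))
    (isAmple_pullback_of_isEmbedding _ he (isAmple_of_isQuasiAffine EGA73.isInvertible_structureModule))

/-- Relative ampleness and quasi-affine morphisms compose. -/
theorem isRelAmple_pullback_comp {X' : Scheme.{u}} {f : X ⟶ Y} (g : X' ⟶ X) (hg : Mor2.IsQuasiAffine g)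
    (h : RelAmple.IsRelAmple f L) : RelAmple.IsRelAmple (g ≫ f) ((Scheme.Modules.pullback g).obj L) := by
  have := h.1
  have := hg.1
  refine ⟨inferInstance, fun V => ?_⟩
  exact isAmple_of_iso (pullSquareIso (g ∣_ f ⁻¹ᵁ V.1) _ (g ⁻¹ᵁ f ⁻¹ᵁ V.1).ι g (morphismRestrict_ι _ _) L)
    (isAmple_pullback _ (isQuasiAffine_morphismRestrict hg _) (h.2 V))

theorem isRelAmple_of_comp (f : X ⟶ Y) (g : Y ⟶ Z) [QuasiCompact f] (h : RelAmple.IsRelAmple (f ≫ g) L) :
    RelAmple.IsRelAmple f L := by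
  refine isRelAmple_of_cover f fun y => ?_
  obtain ⟨W, hW, hyW, -⟩ := exists_isAffineOpen_mem_and_subset (U := (⊤ : Z.Opens)) (x := g y) trivial
  obtain ⟨V, hV, hyV, hle⟩ := exists_isAffineOpen_mem_and_subset (U := g ⁻¹ᵁ W) (x := y) hyW
  have := compactSpace_preimage f hV
  exact ⟨⟨V, hV⟩, hyV, isAmple_preimage h _ hW fun z => hle z.2⟩

/-- Relative ampleness is stable under base change. -/
theorem isRelAmple_baseChange {Y' : Scheme.{u}} (f : X ⟶ Y) (g : Y' ⟶ Y) (h : RelAmple.IsRelAmple f L) :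
    RelAmple.IsRelAmple (pullback.snd f g) ((Scheme.Modules.pullback (pullback.fst f g)).obj L) := by
  have := h.1
  refine isRelAmple_of_cover _ fun y => ?_
  obtain ⟨V, hV, hyV, -⟩ := exists_isAffineOpen_mem_and_subset (U := (⊤ : Y.Opens)) (x := g y) trivial
  obtain ⟨V', hV', hyV', hle⟩ := exists_isAffineOpen_mem_and_subset (U := g ⁻¹ᵁ V) (x := y) hyV
  refine ⟨⟨V', hV'⟩, hyV', ?_⟩
  let q := pullback.snd f g
  let p := pullback.fst f g
  let k : (V' : Scheme.{u}) ⟶ V := g.resLE V V' hle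
  have hk : k ≫ V.ι = V'.ι ≫ g := Scheme.Hom.resLE_comp_ι _ _
  have hz : q ⁻¹ᵁ V' ≤ p ⁻¹ᵁ (f ⁻¹ᵁ V) := fun z hz => by
    show (p ≫ f) z ∈ V
    rw [pullback.condition]
    exact hle hz
  let a : (q ⁻¹ᵁ V' : Scheme.{u}) ⟶ (f ⁻¹ᵁ V : Scheme.{u}) := p.resLE _ _ hz
  have ha : a ≫ (f ⁻¹ᵁ V).ι = (q ⁻¹ᵁ V').ι ≫ p := Scheme.Hom.resLE_comp_ι _ _
  have hcomm : (q ∣_ V') ≫ k = a ≫ (f ∣_ V) := by
    rw [← cancel_mono V.ι, Category.assoc, hk, ← Category.assoc, morphismRestrict_ι, Category.assoc,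
      Category.assoc, morphismRestrict_ι, ← Category.assoc a, ha, Category.assoc, pullback.condition]
  have h1 : IsPullback (q ∣_ V') ((q ⁻¹ᵁ V').ι ≫ p) (V'.ι ≫ g) f :=
    (isPullback_morphismRestrict q V').paste_vert (IsPullback.of_hasPullback f g).flip
  rw [← hk, ← ha] at h1
  have h2 : IsPullback (q ∣_ V') a k (f ∣_ V) :=
    IsPullback.of_bot h1 hcomm (isPullback_morphismRestrict f V)
  have : IsAffine (V : Scheme.{u}) := hV
  have : IsAffine (V' : Scheme.{u}) := hV'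
  have : IsAffineHom a := MorphismProperty.of_isPullback h2 inferInstance
  exact isAmple_of_iso (pullSquareIso a _ (q ⁻¹ᵁ V').ι p ha L)
    (isAmple_pullback a (isQuasiAffine_of_isAffineHom a) (h.2 ⟨V, hV⟩))

theorem isRelAmple_of_iso {f : X ⟶ Y} {M : X.Modules} (e : L ≅ M) (h : RelAmple.IsRelAmple f L) :
    RelAmple.IsRelAmple f M :=
  ⟨h.1, fun V => isAmple_of_iso ((Scheme.Modules.restrictFunctor _).mapIso e) (h.2 V)⟩

theorem isQuasiAffine_comp {f : X ⟶ Y} {g : Y ⟶ Z} (hf : Mor2.IsQuasiAffine f) (hg : Mor2.IsQuasiAffine g) :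
    Mor2.IsQuasiAffine (f ≫ g) :=
  (isQuasiAffine_iff_isRelAmple _).2 (isRelAmple_of_iso (PicLoc.pullbackStructureIso f)
    (isRelAmple_pullback_comp f hf ((isQuasiAffine_iff_isRelAmple g).1 hg)))

end Groth.Agent.Amp73

end
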