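import Groth.Agent.SubMod72.ToModules
import Groth.Agent.SubMod72.Extend
import Groth.Agent.Curves2.IdealFrame
import Groth.Prelude.Def_BlowUp2

/-!
Ideals of finite type equal to the unit ideal on a quasi-compact open and vanishing outside it.
-/

universe u

open CategoryTheory CategoryTheory.Limits AlgebraicGeometry Opposite TopologicalSpace

noncomputable section

namespace Groth.Agent.Amp73

open QC70 SubMod72

variable {X : Scheme.{u}} (U : X.Opens)

/-- A section of the structure module as a function. -/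
abbrev asFun {W : X.Opens} (a : Γ(Coh.structureModule X, W)) : Γ(X, W) := a

/-- Functions vanishing outside `U`. -/
def vanSub : Sub (Coh.structureModule X) where
  carrier W :=
    { carrier := {a : Γ(X, W) | X.basicOpen a ≤ U}
      add_mem' := fun {a b} ha hb x hx => by
        have hxW : x ∈ W := X.basicOpen_le _ hx
        rw [X.mem_basicOpen _ x hxW] at hx
        have hx' : IsUnit (X.presheaf.germ W x hxW (a : Γ(X, W)) + X.presheaf.germ W x hxW (b : Γ(X, W))) :=
          (map_add (X.presheaf.germ W x hxW).hom (a : Γ(X, W)) b) ▸ hx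
        rcases IsLocalRing.isUnit_or_isUnit_of_isUnit_add hx' with h | h
        · exact ha ((X.mem_basicOpen _ x hxW).2 h)
        · exact hb ((X.mem_basicOpen _ x hxW).2 h)
      zero_mem' := show X.basicOpen (0 : Γ(X, W)) ≤ U by rw [Scheme.basicOpen_zero]; exact bot_le
      smul_mem' := fun c a ha => show X.basicOpen (HMul.hMul (α := Γ(X, W)) c (asFun a)) ≤ U by
        rw [Scheme.basicOpen_mul]; exact inf_le_right.trans ha }
  res_mem := fun {V W} h {a} ha => show X.basicOpen (X.presheaf.map (homOfLE h).op (a : Γ(X, W))) ≤ U by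
    rw [Scheme.basicOpen_res]; exact inf_le_right.trans ha
  local_mem := fun {W} a h x hx => by
    obtain ⟨V, hV, hxV, hVa⟩ := h x (X.basicOpen_le (U := W) (a : Γ(X, W)) hx)
    exact hVa ((X.basicOpen_res (a : Γ(X, W)) (homOfLE hV).op).ge ⟨hxV, hx⟩)

theorem isLocAt_toMod_vanSub {D : X.Opens} (hD : IsAffineOpen D) : IsLocAt (toMod (vanSub U)) D where
  exists_of g s := by
    obtain ⟨k, a, ha⟩ := (QC70.isLocAt_unit hD).exists_of g ((toModι (vanSub U)).app _ s)
    have hs : (toModι (vanSub U)).app _ s ∈ (vanSub U).carrier (X.basicOpen g) :=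
      (mem_iff_exists _ _).mpr ⟨s, rfl⟩
    have hmem : g • (a : Γ(Coh.structureModule X, D)) ∈ (vanSub U).carrier D := by
      show X.basicOpen (g * asFun a) ≤ U
      rw [Scheme.basicOpen_mul]
      refine le_trans (le_of_eq (X.basicOpen_res (a : Γ(X, D)) (homOfLE (X.basicOpen_le g)).op).symm) ?_
      rw [show X.presheaf.map (homOfLE (X.basicOpen_le g)).op (a : Γ(X, D)) = _ from ha]
      exact ((vanSub U).carrier (X.basicOpen g)).smul_mem _ hs
    obtain ⟨w, hw⟩ := (mem_iff_exists (vanSub U) _).mp hmem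
    refine ⟨k + 1, w, app_injective_of_mono (toModι (vanSub U)) _ ?_⟩
    rw [coe_res, hw, Scheme.Modules.Hom.app_smul, pow_succ', mul_smul, ← ha]
    exact QC70.res_smul _ g a
  eq_zero_of g t ht := by
    obtain ⟨n, hn⟩ := (QC70.isLocAt_unit hD).eq_zero_of g ((toModι (vanSub U)).app D t) (by
      refine (coe_res (vanSub U) _ t).symm.trans ?_
      rw [ht, map_zero])
    refine ⟨n, app_injective_of_mono (toModι (vanSub U)) _ ?_⟩
    rw [Scheme.Modules.Hom.app_smul, map_zero]
    exact hn

/-- The ideal of functions vanishing outside `U`. -/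
theorem exists_ideal_qcoh : ∃ I : X.IdealSheafData,
    (∀ (W : X.affineOpens) (a : Γ(X, W.1)), a ∈ I.ideal W → X.basicOpen a ≤ U) ∧
      ∀ W : X.affineOpens, W.1 ≤ U → (1 : Γ(X, W.1)) ∈ I.ideal W := by
  let J := toMod (vanSub U)
  let i : J ⟶ Coh.structureModule X := toModι (vanSub U)
  let ideal : ∀ W : X.affineOpens, Ideal Γ(X, W.1) := fun W => LinearMap.range (appLinear i W.1)
  let I : X.IdealSheafData :=
    { ideal := ideal
      map_ideal_basicOpen := fun W g => by
        refine le_antisymm (Ideal.map_le_iff_le_comap.2 ?_) ?_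
        · rintro _ ⟨w, rfl⟩
          exact ⟨QC70.res J (X.basicOpen_le g) w, QC70.app_res i (X.basicOpen_le g) w⟩
        · rintro _ ⟨z, rfl⟩
          obtain ⟨k, w, hw⟩ := (isLocAt_toMod_vanSub U W.2).exists_of g z
          have hr : IsUnit (QC70.resO X (X.basicOpen_le g) g) := RingedSpace.isUnit_res_basicOpen _ g
          obtain ⟨v, hv⟩ := (hr.pow k).exists_left_inv
          have hz : appLinear i _ z = (v : Γ(X, X.basicOpen g)) *
              X.presheaf.map (homOfLE (X.basicOpen_le g)).op (appLinear i W.1 w : Γ(X, W.1)) := by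
            have h1 := congrArg (i.app (X.basicOpen g)) hw
            rw [QC70.app_res, Scheme.Modules.Hom.app_smul] at h1
            refine Eq.trans ?_ (congrArg (v * ·) h1.symm)
            show _ = v * (QC70.resO X (X.basicOpen_le g) g ^ k * _)
            rw [← mul_assoc, hv, one_mul]
            rfl
          refine (congrArg (fun q : Γ(X, X.basicOpen g) =>
            q ∈ Ideal.map (X.presheaf.map (homOfLE (X.basicOpen_le g)).op).hom (ideal W)) hz).mpr ?_
          exact Ideal.mul_mem_left _ v (Ideal.mem_map_of_mem _ ⟨w, rfl⟩) }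
  refine ⟨I, ?_, fun W hW => ?_⟩
  · rintro W _ ⟨z, rfl⟩
    exact (z : (vanSub U).carrier W.1).2
  · exact ⟨(⟨((1 : Γ(X, W.1)) : Γ(Coh.structureModule X, W.1)), (X.basicOpen_le (1 : Γ(X, W.1))).trans hW⟩ :
      (vanSub U).carrier W.1), rfl⟩

/-- The whole module, as a subsheaf. -/
def topSub (F : X.Modules) : Sub F where
  carrier _ := ⊤
  res_mem := fun {_ _} _ {_} _ => Submodule.mem_top
  local_mem := fun _ _ => Submodule.mem_top

/-- An ideal of finite type, trivial on `U` and vanishing outside `U`. -/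
theorem exists_ideal_nhd [CompactSpace X] [QuasiSeparatedSpace X] (hU : IsCompact (U : Set X)) :
    ∃ I : X.IdealSheafData, BlowUp.IsFiniteTypeIdeal I ∧
      (∀ (W : X.affineOpens) (a : Γ(X, W.1)), a ∈ I.ideal W → X.basicOpen a ≤ U) ∧
      ∀ W : X.affineOpens, W.1 ≤ U → (1 : Γ(X, W.1)) ∈ I.ideal W := by
  let F0 := toMod (vanSub U)
  have hF0 : F0.IsQuasicoherent :=
    isQuasicoherent_of_forall_isLocAt _ fun _ hD => isLocAt_toMod_vanSub U hD
  let one : Γ(F0, U) := (⟨((1 : Γ(X, U)) : Γ(Coh.structureModule X, U)), X.basicOpen_le (1 : Γ(X, U))⟩ : (vanSub U).carrier U)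
  have hFG : FG U (topSub F0) := fun p hp => ⟨U, {one}, le_rfl, hp, Set.finite_singleton _, fun W hW => by
    refine le_antisymm (fun x _ => mem_locSpan hW ?_) le_top
    have e : x = asFun ((toModι (vanSub U)).app W x) • QC70.res F0 hW one := by
      refine app_injective_of_mono (toModι (vanSub U)) _ ?_
      rw [Scheme.Modules.Hom.app_smul, coe_res]
      show _ = asFun ((toModι (vanSub U)).app W x) * X.presheaf.map (homOfLE hW).op (1 : Γ(X, U))
      rw [map_one, mul_one]
    rw [e]
    exact Submodule.smul_mem _ _ (Submodule.subset_span ⟨one, rfl, rfl⟩)⟩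
  obtain ⟨Q, hQ, hQU⟩ := exists_extension_qcqs hU hFG
  let J := toMod Q
  obtain ⟨hJ, hJft⟩ := isQuasicoherent_isFiniteType_toMod hQ
  let i : J ⟶ Coh.structureModule X := toModι Q ≫ toModι (vanSub U)
  let ideal : ∀ W : X.affineOpens, Ideal Γ(X, W.1) := fun W => LinearMap.range (appLinear i W.1)
  let I : X.IdealSheafData :=
    { ideal := ideal
      map_ideal_basicOpen := fun W g => by
        refine le_antisymm (Ideal.map_le_iff_le_comap.2 ?_) ?_
        · rintro _ ⟨w, rfl⟩
          exact ⟨QC70.res J (X.basicOpen_le g) w, QC70.app_res i (X.basicOpen_le g) w⟩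
        · rintro _ ⟨z, rfl⟩
          obtain ⟨k, w, hw⟩ := (isLocAt_of_isQuasicoherent J W.2).exists_of g z
          have hr : IsUnit (QC70.resO X (X.basicOpen_le g) g) := RingedSpace.isUnit_res_basicOpen _ g
          obtain ⟨v, hv⟩ := (hr.pow k).exists_left_inv
          have hz : appLinear i _ z = (v : Γ(X, X.basicOpen g)) *
              X.presheaf.map (homOfLE (X.basicOpen_le g)).op (appLinear i W.1 w : Γ(X, W.1)) := by
            have h1 := congrArg (i.app (X.basicOpen g)) hw
            rw [QC70.app_res, Scheme.Modules.Hom.app_smul] at h1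
            refine Eq.trans ?_ (congrArg (v * ·) h1.symm)
            show _ = v * (QC70.resO X (X.basicOpen_le g) g ^ k * _)
            rw [← mul_assoc, hv, one_mul]
            rfl
          refine (congrArg (fun q : Γ(X, X.basicOpen g) =>
            q ∈ Ideal.map (X.presheaf.map (homOfLE (X.basicOpen_le g)).op).hom (ideal W)) hz).mpr ?_
          exact Ideal.mul_mem_left _ v (Ideal.mem_map_of_mem _ ⟨w, rfl⟩) }
  refine ⟨I, fun W => ?_, ?_, ?_⟩
  · have := finite_sections_of_isFiniteType J W.2
    show (LinearMap.range (appLinear i W.1)).FG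
    rw [← Submodule.map_top]
    exact Module.Finite.fg_top.map _
  · rintro W _ ⟨z, rfl⟩
    exact ((toModι Q).app W.1 z : (vanSub U).carrier W.1).2
  · intro W hW
    have h1 : QC70.res F0 hW one ∈ Q.carrier W.1 := by rw [hQU W.1 hW]; trivial
    obtain ⟨z, hz⟩ := (mem_iff_exists Q _).mp h1
    refine ⟨z, ?_⟩
    show (toModι (vanSub U)).app W.1 ((toModι Q).app W.1 z) = _
    rw [hz, coe_res]
    exact map_one (X.presheaf.map (homOfLE hW).op).hom

theorem isFiniteType_idealMod {I : X.IdealSheafData} (hI : BlowUp.IsFiniteTypeIdeal I) :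
    (ClSub.idealMod I).IsFiniteType := by
  have : (ClSub.idealMod I).IsQuasicoherent := Omega57.isQuasicoherent_idealMod I
  refine isFiniteType_of_finite_sections _ (fun W : X.affineOpens => W.1) (IsOpenCover.mk (iSup_affineOpens_eq_top X))
    (fun W => W.2) fun W => ⟨?_⟩
  refine Submodule.fg_of_fg_map_injective (appLinear (ClSub.idealModι I) W.1)
    (fun a b h => OmegaSh.idealModι_app_injective (W := W.1) I h) ?_
  rw [Submodule.map_top]
  refine (congrArg Submodule.FG (Submodule.ext fun r => ⟨?_, ?_⟩)).mpr (hI W)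
  · rintro ⟨m, rfl⟩
    exact Curves2.idealSect_mem_ideal I W m
  · intro hr
    obtain ⟨m, hm⟩ := Curves2.exists_idealSect_of_mem I W hr
    exact ⟨m, hm⟩

end Groth.Agent.Amp73

end
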