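import Groth.Agent.Amp73.CounitEpi
import Groth.Agent.Amp73.IdealNhd

/-!
Ampleness from generation of twisted ideals (EGA II 4.5.5, 4.6.8).
-/

universe u

open CategoryTheory CategoryTheory.Limits AlgebraicGeometry Opposite TopologicalSpace

noncomputable section

namespace Groth.Agent.Amp73

open Var76.LineBundle Var76.ZeroScheme

variable {X Y : Scheme.{u}} {L : X.Modules}

/-- Multiplication `I ⊗ M → M`. -/
def idealPairing (I : X.IdealSheafData) (M : X.Modules) : Mero90.Pairing (ClSub.idealMod I) M M where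
  b U m l := OmegaSh.idealSect I U m • l
  add_left U m m' l := by rw [map_add, add_smul]
  add_right U m l l' := smul_add _ _ _
  smul_left U a m l := by rw [Omega57.idealSect_smul, mul_smul]
  smul_right U a m l := smul_comm _ _ _
  nat U V h m l := by
    rw [res_smul]
    congr 1
    exact Curves2.idealSect_res I h m

/-- Frames among the images of `I ⊗ M` lie where `I` does not vanish. -/
theorem le_of_isFrame_lift {U : X.Opens} {I : X.IdealSheafData}
    (hI : ∀ (W : X.affineOpens) (a : Γ(X, W.1)), a ∈ I.ideal W → X.basicOpen a ≤ U)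
    {M : X.Modules} (hM : PicF.IsInvertible M) {V : X.Opens}
    (τ : Γ(CohB1.tensorMod (ClSub.idealMod I) M, V))
    (h : IsFrame M V ((idealPairing I M).lift.app V τ)) : V ≤ U := by
  intro z hz
  obtain ⟨W, hzW, hW, e, he⟩ := Mero90.exists_affine_frame hM z V hz
  obtain ⟨m, hm⟩ := exists_eq_tm_frame he le_rfl (res _ hW τ)
  rw [res_self] at hm
  have h1 := h.res hW
  rw [← Mero90.app_res, ← hm, show (idealPairing I M).lift.app W.1 (tm _ M m e) = _ from
    (idealPairing I M).lift_tmul W.1 m e] at h1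
  have h2 : IsUnit (OmegaSh.idealSect I W.1 m) := (isFrame_smul_iff he _).1 h1
  exact hI W _ (Curves2.idealSect_mem_ideal I W m) ((X.basicOpen_of_isUnit h2).ge hzW)

/-- The evaluation at `x` of `I ⊗ M → M` is nonzero where `I` is trivial. -/
theorem lift_comp_toFibre_ne_zero {U : X.Opens} {I : X.IdealSheafData}
    (hI : ∀ W : X.affineOpens, W.1 ≤ U → (1 : Γ(X, W.1)) ∈ I.ideal W)
    {M : X.Modules} (hM : PicF.IsInvertible M) {x : X} (hx : x ∈ U) :
    (idealPairing I M).lift ≫ toFibre x M ≠ 0 := by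
  intro h0
  obtain ⟨W, hxW, hW, e, he⟩ := Mero90.exists_affine_frame hM x U hx
  obtain ⟨m, hm⟩ := Curves2.exists_idealSect_of_mem I W (hI W hW)
  refine toFibre_ne_zero_of_isFrame hM hxW he ?_
  have h1 : (idealPairing I M).lift.app W.1 (tm _ M m e) = e :=
    ((idealPairing I M).lift_tmul W.1 m e).trans (by show OmegaSh.idealSect I W.1 m • e = e; rw [hm, one_smul])
  conv_lhs => rw [← h1]
  exact ConcreteCategory.congr_hom (congrArg (fun φ => Scheme.Modules.Hom.app φ W.1) h0) _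

theorem isCoh_idealMod {I : X.IdealSheafData} (hI : BlowUp.IsFiniteTypeIdeal I) : Coh.IsCoh (ClSub.idealMod I) :=
  ⟨Omega57.isQuasicoherent_idealMod I, isFiniteType_idealMod hI⟩

/-- EGA II 4.5.5 (converse): ampleness from generation of twisted ideals. -/
theorem isAmple_of_ideals [CompactSpace X] [QuasiSeparatedSpace X] (hL : PicF.IsInvertible L)
    (h : ∀ I : X.IdealSheafData, BlowUp.IsFiniteTypeIdeal I → ∃ n : ℕ,
      ∀ (T : X.Modules) (q : CohB1.tensorMod (ClSub.idealMod I) (CohB1.tensorPow L (n + 1)) ⟶ T), q ≠ 0 →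
        ∃ t, q.app ⊤ t ≠ 0) : CohB1.IsAmple L := by
  refine isAmple_iff.2 ⟨hL, inferInstance, fun x => ?_⟩
  obtain ⟨U, hU, hxU, -⟩ := exists_isAffineOpen_mem_and_subset (U := (⊤ : X.Opens)) (x := x) trivial
  obtain ⟨I, hIft, hIle, hI1⟩ := exists_ideal_nhd U hU.isCompact
  obtain ⟨n, hn⟩ := h I hIft
  let M := CohB1.tensorPow L (n + 1)
  have hM : PicF.IsInvertible M := EGA73.isInvertible_tensorPow hL _
  obtain ⟨t, ht⟩ := hn _ _ (lift_comp_toFibre_ne_zero hI1 hM hxU)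
  obtain ⟨V, hV, hxV, hfr⟩ := exists_isFrame_of_toFibre_ne_zero hM (x := x) (O := ⊤)
    (t := (idealPairing I M).lift.app ⊤ t) trivial ht
  let σ := Var76.Frames.ofSection M ((idealPairing I M).lift.app ⊤ t)
  have hval : ∀ W, val M σ W = res M le_top ((idealPairing I M).lift.app ⊤ t) := fun W =>
    Var76.Frames.val_ofSection _ _ W
  have hxG : x ∈ CohB1.genLocus M σ := (isFrame_iff_le_genLocus σ V).1 (by rw [hval]; exact hfr) hxV
  have hle : CohB1.genLocus M σ ≤ U := by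
    refine le_of_isFrame_lift hIle hM (res _ le_top t) ?_
    rw [Mero90.app_res, ← hval]
    exact isFrame_genLocus σ
  refine ⟨_, ⟨n, σ, rfl⟩, hxG, ?_⟩
  rw [← inf_eq_left.2 hle]
  exact isAffineOpen_genLocus_inf hM σ hU

/-- Sections over preimages of opens of the base, giving generating sets over an affine open of the base. -/
theorem exists_genSet_of_counit (f : X ⟶ Y) [QuasiCompact f] (hL : PicF.IsInvertible L)
    {V : Y.Opens} (hV : IsAffineOpen V) [QuasiSeparatedSpace (f ⁻¹ᵁ V : Scheme.{u})]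
    {V' : Y.Opens} {n : ℕ} (t : Γ(CohB1.tensorPow L (n + 1), f ⁻¹ᵁ V')) (x : (f ⁻¹ᵁ V : Scheme.{u}))
    (hxV : f x.1 ∈ V') (ht : (toFibre x.1 (CohB1.tensorPow L (n + 1))).app _ t ≠ 0) :
    ∃ G ∈ GenSet (L.restrict (f ⁻¹ᵁ V).ι), x ∈ G ∧
      ∀ z ∈ G, ∃ (W : X.Opens) (hW : W ≤ f ⁻¹ᵁ V'), (f ⁻¹ᵁ V).ι z ∈ W ∧
        IsFrame (CohB1.tensorPow L (n + 1)) W (res _ hW t) := by
  let a := (f ⁻¹ᵁ V).ι
  obtain ⟨r, hrle, hxr⟩ := hV.exists_basicOpen_le (V := V') ⟨f x.1, hxV⟩ x.2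
  have := compactSpace_preimage f hV
  let g : Γ((f ⁻¹ᵁ V : Scheme.{u}), ⊤) :=
    fres (U := a ⁻¹ᵁ (f ⁻¹ᵁ V)) (Scheme.Opens.ι_preimage_self _).ge (a.app _ (f.app V r))
  have hg : (f ⁻¹ᵁ V : Scheme.{u}).basicOpen g = a ⁻¹ᵁ (f ⁻¹ᵁ Y.basicOpen r) := by
    refine (Scheme.basicOpen_res _ _ _).trans ?_
    rw [top_inf_eq, ← Scheme.preimage_basicOpen, ← Scheme.preimage_basicOpen]
  have hO : a ''ᵁ (f ⁻¹ᵁ V : Scheme.{u}).basicOpen g ≤ f ⁻¹ᵁ V' := by
    rw [hg]
    exact (a.image_preimage_le _).trans (f.preimage_mono hrle)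
  obtain ⟨G, hG, hmem⟩ := exists_genSet_of_section a (EGA73.isInvertible_restrict hL a) g t hO
  obtain ⟨W, hW, hxW, hfr⟩ := exists_isFrame_of_toFibre_ne_zero (EGA73.isInvertible_tensorPow hL _)
    (x := x.1) (O := f ⁻¹ᵁ V') hxV ht
  exact ⟨G, hG, (hmem x).2 ⟨hg.ge hxr, W, hW, hxW, hfr⟩, fun z hz => ((hmem z).1 hz).2⟩

/-- EGA II 4.6.8: relative ampleness from the counit on twisted ideals. -/
theorem isRelAmple_of_ideals (f : X ⟶ Y) [QuasiCompact f] [QuasiSeparated f] (hL : PicF.IsInvertible L)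
    (h : ∀ U : X.Opens, IsAffineOpen U → ∃ (I : X.IdealSheafData) (n : ℕ),
      (∀ (W : X.affineOpens) (a : Γ(X, W.1)), a ∈ I.ideal W → X.basicOpen a ≤ U) ∧
      (∀ W : X.affineOpens, W.1 ≤ U → (1 : Γ(X, W.1)) ∈ I.ideal W) ∧
      Epi ((Scheme.Modules.pullbackPushforwardAdjunction f).counit.app
        (CohB1.tensorMod (ClSub.idealMod I) (CohB1.tensorPow L (n + 1))))) :
    RelAmple.IsRelAmple f L := by
  refine isRelAmple_of_cover f fun y => ?_
  obtain ⟨V, hV, hyV, -⟩ := exists_isAffineOpen_mem_and_subset (U := (⊤ : Y.Opens)) (x := y) trivial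
  refine ⟨⟨V, hV⟩, hyV, ?_⟩
  let a := (f ⁻¹ᵁ V).ι
  have := compactSpace_preimage f hV
  have hLa := EGA73.isInvertible_restrict hL a
  have : IsAffine (V : Scheme.{u}) := hV
  have : QuasiSeparated (f ∣_ V) := IsZariskiLocalAtTarget.restrict ‹_› V
  have : QuasiSeparatedSpace (f ⁻¹ᵁ V : Scheme.{u}) := quasiSeparatedSpace_of_quasiSeparated (f ∣_ V)
  refine isAmple_iff.2 ⟨hLa, inferInstance, fun x => ?_⟩
  obtain ⟨U, hU, hxU, hUle⟩ := exists_isAffineOpen_mem_and_subset (U := f ⁻¹ᵁ V) (x := x.1) x.2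
  obtain ⟨I, n, hIle, hI1, hn⟩ := h U hU
  let M := CohB1.tensorPow L (n + 1)
  have hM : PicF.IsInvertible M := EGA73.isInvertible_tensorPow hL _
  obtain ⟨V', hxV', t, ht⟩ := exists_app_ne_zero f hn ((idealPairing I M).lift ≫ toFibre x.1 M) x.1
    (fun W hW => subsingleton_fibre x.1 M W hW) (lift_comp_toFibre_ne_zero hI1 hM hxU)
  obtain ⟨G, hG, hxG, hGle⟩ := exists_genSet_of_counit f hL hV
    ((idealPairing I M).lift.app _ t) x hxV' ht
  refine ⟨G, hG, hxG, ?_⟩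
  have hle : G ≤ a ⁻¹ᵁ U := fun z hz => by
    obtain ⟨W, hW, hzW, hfr⟩ := hGle z hz
    rw [← Mero90.app_res] at hfr
    exact le_of_isFrame_lift hIle hM _ hfr hzW
  rw [← inf_eq_left.2 hle]
  exact isAffineOpen_inf_of_mem_genSet hLa hG (hU.preimage_of_isOpenImmersion _
    (by rw [Scheme.Opens.opensRange_ι]; exact hUle))

/-- EGA II 4.6.8 (iv). -/
theorem isRelAmple_tensor_of_counit (f : X ⟶ Y) [QuasiCompact f] {L' : X.Modules}
    (hL : RelAmple.IsRelAmple f L) (hL' : PicF.IsInvertible L') {n : ℕ}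
    (hepi : Epi ((Scheme.Modules.pullbackPushforwardAdjunction f).counit.app (CohB1.tensorPow L' (n + 1)))) :
    RelAmple.IsRelAmple f (CohB1.tensorMod L L') := by
  refine ⟨inferInstance, fun V => ?_⟩
  let a := (f ⁻¹ᵁ V.1).ι
  have hA := hL.2 V
  have := quasiSeparatedSpace_of_isAmple hA
  have hL'a := EGA73.isInvertible_restrict hL' a
  refine isAmple_of_iso (EGA73.tensorRestrictIso a L L') (isAmple_tensor hA hL'a fun x => ?_)
  have hM : PicF.IsInvertible (CohB1.tensorPow L' (n + 1)) := EGA73.isInvertible_tensorPow hL' _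
  have hq : toFibre x.1 (CohB1.tensorPow L' (n + 1)) ≠ 0 := fun h0 => by
    obtain ⟨W, hxW, -, e, he⟩ := Mero90.exists_affine_frame hM x.1 ⊤ trivial
    refine toFibre_ne_zero_of_isFrame hM hxW he ?_
    rw [h0]
    rfl
  obtain ⟨V', hxV', t, ht⟩ := exists_app_ne_zero f hepi _ x.1
    (fun W hW => subsingleton_fibre x.1 _ W hW) hq
  obtain ⟨G, hG, hxG, -⟩ := exists_genSet_of_counit f hL' V.2 t x hxV' ht
  exact ⟨G, hG, hxG⟩

end Groth.Agent.Amp73

end
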