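import Groth.Agent.Amp73.TensorFrame
import Groth.Agent.Amp73.QA
import Groth.Agent.QCTens72.Basic
import Groth.Agent.QC70.FiniteType
import Groth.Prelude.Def_Curv2
import Groth.Prelude.Def_FlatMod2

/-!
Generation by global sections, twists by powers of ample modules.
-/

universe u v

open CategoryTheory CategoryTheory.Limits AlgebraicGeometry Opposite TopologicalSpace

noncomputable section

namespace Groth.Agent.Amp73

open Var76.LineBundle Var76.ZeroScheme

variable {X : Scheme.{u}} {F G L M : X.Modules}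

/-- Restrictions of the global sections span the sections over `U`. -/
def SpanAt (F : X.Modules) (U : X.Opens) : Prop :=
  Submodule.span Γ(X, U) (Set.range fun t : Γ(F, ⊤) => res F (le_top : U ≤ ⊤) t) = ⊤

/-- An isomorphism preserves spanning families of sections. -/
theorem span_image_iso (φ : F ⟶ G) [IsIso φ] {U : X.Opens} {T : Set Γ(F, U)}
    (hT : Submodule.span Γ(X, U) T = ⊤) : Submodule.span Γ(X, U) (φ.app U '' T) = ⊤ := by
  let l : Γ(F, U) →ₗ[Γ(X, U)] Γ(G, U) :=
    { toFun := φ.app U, map_add' := map_add _, map_smul' := fun a m => Scheme.Modules.Hom.app_smul φ a m }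
  show Submodule.span Γ(X, U) (l '' T) = ⊤
  rw [Submodule.span_image, hT, Submodule.map_top, LinearMap.range_eq_top]
  exact (ConcreteCategory.bijective_of_isIso (φ.app U)).2

theorem spanAt_of_iso (φ : F ⟶ G) [IsIso φ] {U : X.Opens} (h : SpanAt F U) : SpanAt G U := by
  refine eq_top_iff.2 ((span_image_iso φ h).ge.trans (Submodule.span_mono ?_))
  rintro _ ⟨_, ⟨t, rfl⟩, rfl⟩
  exact ⟨φ.app ⊤ t, (Mero90.app_res φ _ t).symm⟩

/-- Tensoring with a frame preserves spanning families of sections. -/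
theorem span_image_tm {U : X.Opens} {e : Γ(M, U)} (he : IsFrame M U e) {T : Set Γ(F, U)}
    (hT : Submodule.span Γ(X, U) T = ⊤) :
    Submodule.span Γ(X, U) ((fun u => tm F M u e) '' T) = ⊤ := by
  let l : Γ(F, U) →ₗ[Γ(X, U)] Γ(CohB1.tensorMod F M, U) :=
    { toFun := fun u => tm F M u e, map_add' := fun a b => tm_add_left a b e,
      map_smul' := fun a m => tm_smul_left a m e }
  show Submodule.span Γ(X, U) (l '' T) = ⊤
  rw [Submodule.span_image, hT, Submodule.map_top, LinearMap.range_eq_top]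
  intro z
  obtain ⟨m, hm⟩ := exists_eq_tm_frame he le_rfl z
  rw [res_self] at hm
  exact ⟨m, hm⟩

/-- Sections whose restrictions span over affines define an epimorphism from a free module. -/
theorem epi_desc_of_span (hF : Coh.IsQCoh F) {ι : Type v} [HasCoproduct fun _ : ι => Coh.structureModule X]
    (t : ι → Γ(F, ⊤)) (h : ∀ x : X, ∃ U : X.Opens, x ∈ U ∧ IsAffineOpen U ∧
      Submodule.span Γ(X, U) (Set.range fun i => res F (le_top : U ≤ ⊤) (t i)) = ⊤) :
    Epi (Sigma.desc fun i => EGA73.unitHom F (t i)) := by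
  refine QC70.epi_of_locally_surjective _ fun W s p hp => ?_
  obtain ⟨U, hpU, hU, hsp⟩ := h p
  obtain ⟨r, hrW, hpr⟩ := hU.exists_basicOpen_le ⟨p, hp⟩ hpU
  obtain ⟨n, u, hu⟩ := (isLocAt hF hU).exists_of r (res F hrW s)
  have hr : IsUnit (fres (X.basicOpen_le r) r) := RingedSpace.isUnit_res_basicOpen _ r
  obtain ⟨v, hv⟩ := (hr.pow n).exists_left_inv
  obtain ⟨c, hc⟩ := (Finsupp.mem_span_range_iff_exists_finsupp
    (R := Γ(X, U)) (v := fun i => res F (le_top : U ≤ ⊤) (t i))).1 (hsp.ge (Submodule.mem_top (x := u)))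
  let D := X.basicOpen r
  refine ⟨D, hrW, c.sum fun i a => (Sigma.ι (fun _ : ι => Coh.structureModule X) i).app D
    ((v * fres (X.basicOpen_le r) a : Γ(X, D)) : Γ(Coh.structureModule X, D)), hpr, ?_⟩
  have h1 : ∀ i (a : Γ(X, D)), (Sigma.desc fun i => EGA73.unitHom F (t i)).app D
      ((Sigma.ι (fun _ : ι => Coh.structureModule X) i).app D (a : Γ(Coh.structureModule X, D))) =
      a • res F le_top (t i) := fun i a => by
    refine (ConcreteCategory.congr_hom (congrArg (fun φ => Scheme.Modules.Hom.app φ D)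
      (Sigma.ι_desc (fun i => EGA73.unitHom F (t i)) i)) _).trans ?_
    exact EGA73.unitHom_app F (t i) D a
  rw [Finsupp.sum, map_sum]
  simp only [h1, mul_smul]
  rw [← Finset.smul_sum]
  have h2 : res F (X.basicOpen_le r) u = ∑ i ∈ c.support, fres (X.basicOpen_le r) (c i) • res F le_top (t i) := by
    rw [← hc, Finsupp.sum]
    refine (map_sum (F.presheaf.map _).hom _ _).trans (Finset.sum_congr rfl fun i _ => ?_)
    show res F _ (c i • res F _ (t i)) = _
    rw [res_smul, res_res]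
  rw [← h2, show res F (X.basicOpen_le r) u = _ from hu, smul_smul]
  exact (congrArg (· • _) hv).trans (one_smul _ _)

theorem isGloballyGenerated_of_spanAt (hF : Coh.IsQCoh F)
    (h : ∀ x : X, ∃ U : X.Opens, x ∈ U ∧ IsAffineOpen U ∧ SpanAt F U) : Curv2.IsGloballyGenerated F :=
  ⟨Γ(F, ⊤), _, epi_desc_of_span hF (fun t => t) h⟩

theorem exists_epi_freeMod [CompactSpace X] (hF : Coh.IsQCoh F) (hFT : F.IsFiniteType)
    (h : ∀ x : X, ∃ U : X.Opens, x ∈ U ∧ IsAffineOpen U ∧ SpanAt F U) :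
    ∃ (k : ℕ) (p : FlatMod.freeMod X k ⟶ F), Epi p := by
  classical
  have : F.IsQuasicoherent := hF
  choose U hxU hU hsp using h
  have hex : ∀ x, ∃ T : Finset Γ(F, ⊤),
      Submodule.span Γ(X, U x) ((fun t => res F (le_top : U x ≤ ⊤) t) '' (T : Set Γ(F, ⊤))) = ⊤ := by
    intro x
    obtain ⟨T, hT, hTs⟩ := (Submodule.fg_span_iff_fg_span_finset_subset _).1
      ((hsp x).symm ▸ (QC70.finite_sections_of_isFiniteType F (hU x)).fg_top)
    obtain ⟨T', hT'⟩ := Finset.subset_set_image_iff.1 (by rwa [← Set.image_univ] at hT)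
    refine ⟨T', ?_⟩
    rw [← (hsp x), hTs, ← hT'.2, Finset.coe_image]
  choose T hT using hex
  obtain ⟨S, hS⟩ := isCompact_univ.elim_finite_subcover (fun x => (U x : Set X)) (fun x => (U x).2)
    (fun x _ => Set.mem_iUnion.2 ⟨x, hxU x⟩)
  let A := S.biUnion T
  refine ⟨A.card, _, epi_desc_of_span hF (fun i => (A.equivFin.symm i).1) fun x => ?_⟩
  obtain ⟨y, hy, hxy⟩ := Set.mem_iUnion₂.1 (hS (Set.mem_univ x))
  refine ⟨U y, hxy, hU y, eq_top_iff.2 ((hT y).ge.trans (Submodule.span_mono ?_))⟩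
  rintro _ ⟨t, ht, rfl⟩
  exact ⟨A.equivFin ⟨t, Finset.mem_biUnion.2 ⟨y, hy, ht⟩⟩, by simp⟩

theorem isFiniteType_of_isInvertible (hL : PicF.IsInvertible L) : L.IsFiniteType := by
  have : L.IsQuasicoherent := Mero90.isQCoh_of_isInvertible hL
  choose W hxW _ e he using fun x => Mero90.exists_affine_frame hL x ⊤ trivial
  refine QC70.isFiniteType_of_finite_sections L (fun x => (W x).1)
    (IsOpenCover.mk (top_le_iff.mp fun x _ => Opens.mem_iSup.mpr ⟨x, hxW x⟩)) (fun x => (W x).2) fun x => ?_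
  refine ⟨⟨{e x}, ?_⟩⟩
  rw [Finset.coe_singleton, eq_top_iff]
  intro z _
  obtain ⟨a, ha⟩ := (he x (W x).1 le_rfl).2 z
  dsimp only at ha
  rw [res_self] at ha
  exact ha ▸ Submodule.smul_mem _ a (Submodule.mem_span_singleton_self _)

theorem isCoh_tensorMod (hF : Coh.IsCoh F) (hG : Coh.IsCoh G) : Coh.IsCoh (CohB1.tensorMod F G) :=
  have := hF.1; have := hF.2; have := hG.1; have := hG.2
  ⟨QCTens72.isQuasicoherent_tensorMod F G, QCTens72.isFiniteType_tensorMod F G⟩

theorem isCoh_of_isInvertible (hL : PicF.IsInvertible L) : Coh.IsCoh L :=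
  ⟨Mero90.isQCoh_of_isInvertible hL, isFiniteType_of_isInvertible hL⟩

theorem isQCoh_tensorMod (hF : Coh.IsQCoh F) (hG : Coh.IsQCoh G) : Coh.IsQCoh (CohB1.tensorMod F G) :=
  have : F.IsQuasicoherent := hF
  have : G.IsQuasicoherent := hG
  QCTens72.isQuasicoherent_tensorMod F G

/-- High twists of a finite type quasi-coherent module by an ample module are generated near a point. -/
theorem exists_spanAt_twist (hL : CohB1.IsAmple L) (hF : Coh.IsCoh F) (x : X) :
    ∃ (U : X.Opens) (N₀ : ℕ), x ∈ U ∧ IsAffineOpen U ∧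
      ∀ N, N₀ ≤ N → SpanAt (CohB1.tensorMod F (CohB1.tensorPow L N)) U := by
  classical
  have := hL.2.1
  have := quasiSeparatedSpace_of_isAmple hL
  obtain ⟨W, hxW, -, e, he⟩ := Mero90.exists_affine_frame hL.1 x ⊤ trivial
  obtain ⟨_, ⟨n, s, rfl⟩, hxG, hle, hU⟩ := exists_affine_genSet_le hL x W.1 hxW
  set U := CohB1.genLocus _ s
  have heU := he.res hle
  have : F.IsQuasicoherent := hF.1
  have : F.IsFiniteType := hF.2
  obtain ⟨T, hT⟩ := (QC70.finite_sections_of_isFiniteType F hU).fg_top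
  let M := CohB1.tensorPow L (n + 1)
  have hM : PicF.IsInvertible M := EGA73.isInvertible_tensorPow hL.1 _
  let P : ℕ → X.Modules := fun r => CohB1.tensorMod F (CohB1.tensorPow L r)
  have hP : ∀ r, Coh.IsQCoh (P r) := fun r =>
    isQCoh_tensorMod hF.1 (Mero90.isQCoh_of_isInvertible (EGA73.isInvertible_tensorPow hL.1 r))
  choose K hK using fun (r : Fin (n + 1)) (u : T) =>
    exists_tw_extend hM s (hP r) (tm F (CohB1.tensorPow L r) u.1 (epow (res L hle e) r))
  let K₀ := ∑ r, ∑ u, K r u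
  refine ⟨U, (n + 1) * (K₀ + 1), hxG, hU, fun N hN => ?_⟩
  let r : Fin (n + 1) := ⟨N % (n + 1), Nat.mod_lt _ (Nat.succ_pos n)⟩
  let k := N / (n + 1)
  have hk : ∀ u, K r u ≤ k := fun u => by
    have h1 : K r u ≤ K₀ := (Finset.single_le_sum (f := K r) (fun _ _ => Nat.zero_le _) (Finset.mem_univ u)).trans
      (Finset.single_le_sum (f := fun r => ∑ u, K r u) (fun _ _ => Nat.zero_le _) (Finset.mem_univ r))
    have h2 : K₀ + 1 ≤ k := (Nat.le_div_iff_mul_le (Nat.succ_pos n)).2 (by rw [Nat.mul_comm]; exact hN)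
    omega
  have hN' : (r : ℕ) + (n + 1) * k = N := Nat.mod_add_div N (n + 1)
  let φ : CohB1.tensorMod (P r) (CohB1.tensorPow M k) ⟶ CohB1.tensorMod F (CohB1.tensorPow L N) :=
    (EGA73.tensAssoc' F (CohB1.tensorPow L r) (CohB1.tensorPow M k) ≪≫
      EGA73.tensIso (Iso.refl F) (EGA73.tensIso (Iso.refl _) (powMul L (n + 1) k) ≪≫
        powAdd L r ((n + 1) * k) ≪≫ eqToIso (congrArg _ hN'))).hom
  have : IsIso φ := Iso.isIso_hom _
  refine spanAt_of_iso φ ?_
  have hT' := span_image_tm (isFrame_epow (isFrame_genLocus s) k)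
    (span_image_tm (isFrame_epow heU r) hT)
  refine eq_top_iff.2 (hT'.ge.trans (Submodule.span_mono ?_))
  rintro _ ⟨_, ⟨u, hu, rfl⟩, rfl⟩
  obtain ⟨t', ht'⟩ := hK r ⟨u, hu⟩ k (hk _)
  exact ⟨t', ht'⟩

/-- EGA II 4.5.5: high twists by an ample module are generated by global sections. -/
theorem eventually_spanAt_twist (hL : CohB1.IsAmple L) (hF : Coh.IsCoh F) :
    ∃ n₀ : ℕ, ∀ n, n₀ ≤ n →
      ∀ x : X, ∃ U : X.Opens, x ∈ U ∧ IsAffineOpen U ∧ SpanAt (CohB1.tensorMod F (CohB1.tensorPow L n)) U := by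
  have := hL.2.1
  choose U N hxU hU h using exists_spanAt_twist hL hF
  obtain ⟨S, hS⟩ := isCompact_univ.elim_finite_subcover (fun x => (U x : Set X)) (fun x => (U x).2)
    (fun x _ => Set.mem_iUnion.2 ⟨x, hxU x⟩)
  refine ⟨S.sup N, fun n hn x => ?_⟩
  obtain ⟨y, hy, hxy⟩ := Set.mem_iUnion₂.1 (hS (Set.mem_univ x))
  exact ⟨U y, hxy, hU y, h y n ((Finset.le_sup hy).trans hn)⟩

/-- Contraction `F ⊗ O^k → F`. -/
def contractPairing (F : X.Modules) (k : ℕ) :
    Mero90.Pairing F (CohB1.tensorPow (Coh.structureModule X) k) F where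
  b U m c := HSMul.hSMul (α := Γ(X, U)) ((powUnit X k).hom.app U c) m
  add_left U m m' c := smul_add _ _ _
  add_right U m c c' := by
    refine Eq.trans ?_ (add_smul _ _ _)
    exact congrArg (fun a : Γ(X, U) => a • m) (map_add ((powUnit X k).hom.app U).hom c c')
  smul_left U a m c := smul_comm _ _ _
  smul_right U a m c := by
    refine Eq.trans ?_ (mul_smul _ _ _)
    exact congrArg (fun a : Γ(X, U) => a • m) (Scheme.Modules.Hom.app_smul (powUnit X k).hom a c)
  nat U V h m c := by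
    rw [res_smul, Mero90.app_res]
    rfl

/-- Quasi-coherent modules on quasi-affine schemes are generated by global sections. -/
theorem spanAt_of_isQuasiAffine [X.IsQuasiAffine] (hF : Coh.IsQCoh F) (x : X) :
    ∃ U : X.Opens, x ∈ U ∧ IsAffineOpen U ∧ SpanAt F U := by
  obtain ⟨_, ⟨g, hg, rfl⟩, hxg, -⟩ := Opens.isBasis_iff_nbhd.1 (Scheme.IsQuasiAffine.isBasis_basicOpen X)
    (show x ∈ (⊤ : X.Opens) from trivial)
  let σ := Var76.Frames.ofSection (Coh.structureModule X) (g : Γ(Coh.structureModule X, ⊤))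
  have hσ : CohB1.genLocus _ σ = X.basicOpen g := by
    rw [← genLocus_inf_eq_basicOpen σ (isFrame_one ⊤) (c := g), inf_top_eq]
    rw [Var76.Frames.val_ofSection, res_self]
    exact mul_one g
  let U := CohB1.genLocus _ σ
  refine ⟨U, hσ.ge hxg, by rw [show U = _ from hσ]; exact hg, eq_top_iff.2 fun u _ => ?_⟩
  obtain ⟨k, _, t', ht'⟩ := exists_tw_extend_pos EGA73.isInvertible_structureModule σ hF u
  let Φ := (contractPairing F k).lift
  let c : Γ(X, U) := (powUnit X k).hom.app U (epow (val _ σ U) k)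
  have h1 : res F (le_top : U ≤ ⊤) (Φ.app ⊤ t') = c • u := by
    rw [← Mero90.app_res, ht']
    exact (contractPairing F k).lift_tmul U u (epow (val _ σ U) k)
  have hc : IsUnit c := by
    refine (isFrame_smul_iff (isFrame_one U) c).1 ?_
    let one : Γ(Coh.structureModule X, U) := (1 : Γ(X, U))
    have e : c • one = (powUnit X k).hom.app U (epow (val _ σ U) k) := mul_one c
    exact (congrArg (IsFrame _ U) e).mpr ((isFrame_app_iff (powUnit X k).hom _).2
      (isFrame_epow (isFrame_genLocus σ) k))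
  obtain ⟨v, hv⟩ := hc.exists_left_inv
  rw [← one_smul Γ(X, U) u, ← hv, mul_smul, ← h1]
  exact Submodule.smul_mem _ v (Submodule.subset_span ⟨_, rfl⟩)

/-- `y ↦ t ⊗ y` for a global section `t`. -/
def tmLeft (t : Γ(G, ⊤)) (N : X.Modules) : N ⟶ CohB1.tensorMod G N :=
  ⟨PresheafOfModules.homMk (M₁ := N.val) (M₂ := (CohB1.tensorMod G N).val)
    { app := fun U => AddCommGrpCat.ofHom
        { toFun := fun (y : Γ(N, U.unop)) => tm G N (res G (le_top : U.unop ≤ ⊤) t) y
          map_zero' := by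
            have h := tm_smul_right (L := G) (M := N) (0 : Γ(X, U.unop)) (res G (le_top : U.unop ≤ ⊤) t) 0
            rwa [zero_smul, zero_smul] at h
          map_add' := fun y y' => tm_add_right _ y y' }
      naturality := fun U V i => by
        ext y
        show tm G N (res G (le_top : V.unop ≤ ⊤) t) (res N i.unop.le y) =
          res (CohB1.tensorMod G N) i.unop.le (tm G N (res G (le_top : U.unop ≤ ⊤) t) y)
        rw [res_tm, res_res] }
    (fun _ r y => tm_smul_right r _ y)⟩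

theorem tmLeft_app (t : Γ(G, ⊤)) (N : X.Modules) (U : X.Opens) (y : Γ(N, U)) :
    (tmLeft t N).app U y = tm G N (res G le_top t) y := rfl

/-- Maps whose images span over affines define an epimorphism. -/
theorem epi_desc_of_span_maps (hF : Coh.IsQCoh F) {ι : Type v} (N : ι → X.Modules) [HasCoproduct N]
    (φ : ∀ i, N i ⟶ F) (h : ∀ x : X, ∃ (U : X.Opens) (y : ∀ i, Γ(N i, U)), x ∈ U ∧ IsAffineOpen U ∧
      Submodule.span Γ(X, U) (Set.range fun i => (φ i).app U (y i)) = ⊤) : Epi (Sigma.desc φ) := by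
  refine QC70.epi_of_locally_surjective _ fun W s p hp => ?_
  obtain ⟨U, y, hpU, hU, hsp⟩ := h p
  obtain ⟨r, hrW, hpr⟩ := hU.exists_basicOpen_le ⟨p, hp⟩ hpU
  obtain ⟨n, u, hu⟩ := (isLocAt hF hU).exists_of r (res F hrW s)
  have hr : IsUnit (fres (X.basicOpen_le r) r) := RingedSpace.isUnit_res_basicOpen _ r
  obtain ⟨v, hv⟩ := (hr.pow n).exists_left_inv
  obtain ⟨c, hc⟩ := (Finsupp.mem_span_range_iff_exists_finsupp
    (R := Γ(X, U)) (v := fun i => (φ i).app U (y i))).1 (hsp.ge (Submodule.mem_top (x := u)))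
  refine ⟨X.basicOpen r, hrW, v • res _ (X.basicOpen_le r)
    (c.sum fun i a => a • (Sigma.ι N i).app U (y i)), hpr, ?_⟩
  have h1 : ∀ i, (Sigma.desc φ).app U ((Sigma.ι N i).app U (y i)) = (φ i).app U (y i) := fun i =>
    ConcreteCategory.congr_hom (congrArg (fun ψ => Scheme.Modules.Hom.app ψ U) (Sigma.ι_desc φ i)) _
  have h2 : (Sigma.desc φ).app U (c.sum fun i a => a • (Sigma.ι N i).app U (y i)) = u := by
    rw [← hc, Finsupp.sum, Finsupp.sum, map_sum]
    exact Finset.sum_congr rfl fun i _ => by rw [Scheme.Modules.Hom.app_smul, h1]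
  rw [Scheme.Modules.Hom.app_smul, Mero90.app_res, h2, show res F (X.basicOpen_le r) u = _ from hu, smul_smul]
  exact (congrArg (· • _) hv).trans (one_smul _ _)

/-- A spanned invertible module has a section generating at each point. -/
theorem exists_genLocus_of_spanAt (hL : PicF.IsInvertible L) {U : X.Opens} (hU : IsAffineOpen U)
    (h : SpanAt L U) {x : X} (hx : x ∈ U) :
    ∃ t : Γ(L, ⊤), x ∈ CohB1.genLocus L (Var76.Frames.ofSection L t) := by
  classical
  obtain ⟨W, hxW, -, e, he⟩ := Mero90.exists_affine_frame hL x ⊤ trivial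
  obtain ⟨r, hrW, hxr⟩ := hU.exists_basicOpen_le ⟨x, hxW⟩ hx
  obtain ⟨n, u, hu⟩ := (isLocAt (Mero90.isQCoh_of_isInvertible hL) hU).exists_of r (res L hrW e)
  obtain ⟨c, hc⟩ := (Finsupp.mem_span_range_iff_exists_finsupp
    (R := Γ(X, U)) (v := fun t : Γ(L, ⊤) => res L (le_top : U ≤ ⊤) t)).1 (h.ge (Submodule.mem_top (x := u)))
  let D := X.basicOpen r
  have heD := he.res hrW
  choose d hd using fun t : Γ(L, ⊤) => exists_coord (Var76.Frames.ofSection L t) heD
  by_contra hcon
  push Not at hcon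
  have h2 : fres (X.basicOpen_le r) r ^ n = ∑ t ∈ c.support, fres (X.basicOpen_le r) (c t) * d t := by
    refine (heD D le_rfl).1 ?_
    show _ • res L le_rfl (res L hrW e) = _ • res L le_rfl (res L hrW e)
    rw [res_self, Finset.sum_smul]
    refine hu.symm.trans ?_
    rw [← hc, Finsupp.sum]
    refine (map_sum (L.presheaf.map _).hom _ _).trans (Finset.sum_congr rfl fun t _ => ?_)
    show res L _ (c t • res L _ t) = _
    rw [res_smul, res_res, mul_smul, hd, Var76.Frames.val_ofSection]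
  have h3 : IsUnit (X.presheaf.germ D x hxr (fres (X.basicOpen_le r) r ^ n)) := by
    have hr : IsUnit (fres (X.basicOpen_le r) r) := RingedSpace.isUnit_res_basicOpen _ r
    exact (hr.pow n).map _
  rw [h2, map_sum] at h3
  refine (show ¬ IsUnit _ from ?_) h3
  refine Ideal.sum_mem (IsLocalRing.maximalIdeal (X.presheaf.stalk x)) fun t _ => ?_
  rw [map_mul]
  refine Ideal.mul_mem_left _ _ fun hu' => hcon t ?_
  exact ((genLocus_inf_eq_basicOpen (Var76.Frames.ofSection L t) heD (hd t)).ge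
    ((X.mem_basicOpen (d t) x hxr).2 hu')).1

/-- An invertible module is spanned near the points where some section generates. -/
theorem spanAt_of_le_genLocus (s : Coh.structureModule X ⟶ L) {U : X.Opens} (h : U ≤ CohB1.genLocus L s) :
    SpanAt L U := by
  refine eq_top_iff.2 fun z _ => ?_
  obtain ⟨a, ha⟩ := ((isFrame_iff_le_genLocus s U).2 h U le_rfl).2 z
  dsimp only at ha
  rw [res_self] at ha
  rw [← ha, ← res_val L s (le_top : U ≤ ⊤)]
  exact Submodule.smul_mem _ a (Submodule.subset_span ⟨_, rfl⟩)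

end Groth.Agent.Amp73

end
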