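import Groth.Agent.Amp73.Tensor

/-!
Tensoring with a frame is bijective on sections.
-/

universe u

open CategoryTheory CategoryTheory.Limits AlgebraicGeometry Opposite TopologicalSpace

noncomputable section

namespace Groth.Agent.Amp73

open Var76.LineBundle Var76.ZeroScheme

variable {X : Scheme.{u}} {L M : X.Modules}

theorem exists_eq_tq {U : X.Opens} {e' : Γ(M, U)} (he' : IsFrame M U e') {V : X.Opens} (h : V ≤ U)
    (z : (CohB1.tensorPre L M).obj (op V)) : ∃ m : Γ(L, V), z = Mero90.tq m (res M h e') := by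
  induction z using TensorProduct.induction_on with
  | zero => exact ⟨0, (TensorProduct.zero_tmul _ _).symm⟩
  | tmul m n =>
    obtain ⟨c, rfl⟩ := (he' V h).2 n
    refine ⟨c • m, ?_⟩
    refine (Mod48.tp_smul_right (O := X.sheaf) (M := CohB1.toPMod L) (N := CohB1.toPMod M) (X := op V) c m _).trans ?_
    exact (Mod48.tp_smul_left (O := X.sheaf) (M := CohB1.toPMod L) (N := CohB1.toPMod M) (X := op V) c m _).symm
  | add z z' hz hz' =>
    obtain ⟨m, hm⟩ := hz
    obtain ⟨m', hm'⟩ := hz'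
    exact ⟨m + m', (congrArg₂ (· + ·) hm hm').trans
      (Mod48.tp_add_left (O := X.sheaf) (M := CohB1.toPMod L) (N := CohB1.toPMod M) (X := op V) m m' _).symm⟩

theorem tq_injective {U : X.Opens} {e' : Γ(M, U)} (he' : IsFrame M U e') {V : X.Opens} (h : V ≤ U)
    (m m' : Γ(L, V)) (he : Mero90.tq m (res M h e') = Mero90.tq m' (res M h e')) : m = m' := by
  let cM : Γ(M, V) ≃ₗ[Γ(X, V)] Γ(X, V) :=
    (LinearEquiv.ofBijective (LinearMap.toSpanSingleton Γ(X, V) Γ(M, V) (res M h e')) (he' V h)).symm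
  have hM1 : cM (res M h e') = 1 := by
    rw [LinearEquiv.symm_apply_eq]; exact (one_smul _ _).symm
  let β : (CohB1.tensorPre L M).obj (op V) →ₗ[X.sheaf.obj.obj (op V)] ((CohB1.toPMod L).obj (op V) : Type u) :=
    (TensorProduct.rid _ _).toLinearMap.comp (TensorProduct.map (LinearMap.id (M := (CohB1.toPMod L).obj (op V))) cM.toLinearMap)
  have hval : ∀ k : Γ(L, V), β (Mero90.tq k (res M h e')) = k := fun k => by
    show (cM (res M h e') : Γ(X, V)) • k = k
    rw [hM1, one_smul]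
  have h1 := congrArg β he
  rwa [hval, hval] at h1

theorem res_tm_of_le {U : X.Opens} (e' : Γ(M, U)) {V W : X.Opens} (h : V ≤ U) (hW : W ≤ V) (m : Γ(L, V)) :
    res (CohB1.tensorMod L M) hW (tm L M m (res M h e')) = tm L M (res L hW m) (res M (hW.trans h) e') := by
  rw [res_tm, res_res]

/-- Tensoring with a frame is injective. -/
theorem tm_frame_injective {U : X.Opens} {e' : Γ(M, U)} (he' : IsFrame M U e') {V : X.Opens} (h : V ≤ U)
    (m m' : Γ(L, V)) (he : tm L M m (res M h e') = tm L M m' (res M h e')) : m = m' := by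
  have hloc := (Mod48.isIso_shf_map_iff_isLocalIso (O := X.sheaf) (Mod48.shfU (CohB1.tensorPre L M))).mp
    inferInstance
  rw [tm_eq, tm_eq] at he
  refine eq_of_locally L _ _ fun x hx => ?_
  obtain ⟨W, i, hW, hxW⟩ := hloc.inj.equalizerSieve_mem _ _ he x hx
  replace hW : (CohB1.tensorPre L M).map i.op (Mero90.tq m (res M h e')) =
      (CohB1.tensorPre L M).map i.op (Mero90.tq m' (res M h e')) := hW
  refine ⟨W, i.le, hxW, tq_injective he' (i.le.trans h) _ _ ?_⟩
  have hmap : ∀ k : Γ(L, V), (CohB1.tensorPre L M).map i.op (Mero90.tq k (res M h e')) =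
      Mero90.tq (res L i.le k) (res M (i.le.trans h) e') := by
    intro k
    refine (Mod48.map_tp (O := X.sheaf) (M := CohB1.toPMod L) (N := CohB1.toPMod M) i.op _ _).trans ?_
    show Mero90.tq (res L i.le k) (res M i.le (res M h e')) = _
    rw [res_res]
  rw [← hmap, ← hmap]
  exact hW

/-- Tensoring with a frame is surjective. -/
theorem exists_eq_tm_frame {U : X.Opens} {e' : Γ(M, U)} (he' : IsFrame M U e') {V : X.Opens} (h : V ≤ U)
    (z : Γ(CohB1.tensorMod L M, V)) : ∃ m : Γ(L, V), tm L M m (res M h e') = z := by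
  have hloc := (Mod48.isIso_shf_map_iff_isLocalIso (O := X.sheaf) (Mod48.shfU (CohB1.tensorPre L M))).mp
    inferInstance
  have key : ∀ x : V, ∃ (W : X.Opens) (hW : W ≤ V) (m : Γ(L, W)), x.1 ∈ W ∧
      tm L M m (res M (hW.trans h) e') = res (CohB1.tensorMod L M) hW z := by
    intro x
    obtain ⟨W, i, ⟨q, hq⟩, hxW⟩ := hloc.surj.imageSieve_mem z x.1 x.2
    obtain ⟨m, rfl⟩ := exists_eq_tq he' (i.le.trans h) q
    exact ⟨W, i.le, m, hxW, by rw [tm_eq]; exact hq⟩
  choose W hW m hxW hm using key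
  have compat : ∀ x y : V, res L (inf_le_left : W x ⊓ W y ≤ W x) (m x) =
      res L (inf_le_right : W x ⊓ W y ≤ W y) (m y) := fun x y => by
    refine tm_frame_injective he' ((inf_le_left.trans (hW x)).trans h) _ _ ?_
    rw [← res_tm_of_le e' ((hW x).trans h) inf_le_left, hm, res_res]
    refine Eq.trans ?_ (res_tm_of_le e' ((hW y).trans h) inf_le_right (m y))
    rw [hm, res_res]
  obtain ⟨a, ha, -⟩ := TopCat.Sheaf.existsUnique_gluing' ⟨L.presheaf, L.isSheaf⟩ W V
    (fun x => homOfLE (hW x)) (fun y hy => Opens.mem_iSup.2 ⟨⟨y, hy⟩, hxW ⟨y, hy⟩⟩) m compat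
  refine ⟨a, eq_of_locally _ _ _ fun y hy => ⟨W ⟨y, hy⟩, hW _, hxW _, ?_⟩⟩
  rw [res_tm_of_le, ← hm ⟨y, hy⟩]
  exact congrArg (fun k => tm L M k (res M ((hW ⟨y, hy⟩).trans h) e')) (ha ⟨y, hy⟩)

end Groth.Agent.Amp73

end
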