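import Groth.Agent.Amp73.Gen
import Groth.Prelude.Def_PicLoc

/-!
Generating loci under inverse image and restriction.
-/

universe u

open CategoryTheory CategoryTheory.Limits AlgebraicGeometry Opposite TopologicalSpace

noncomputable section

namespace Groth.Agent.Amp73

open Var76.LineBundle Var76.ZeroScheme

variable {X Y : Scheme.{u}} (f : X ⟶ Y)

/-- Inverse image of sections. -/
def pullS (M : Y.Modules) (U : Y.Opens) (m : Γ(M, U)) : Γ((Scheme.Modules.pullback f).obj M, f ⁻¹ᵁ U) :=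
  ((Scheme.Modules.pullbackPushforwardAdjunction f).unit.app M).app U m

theorem pullS_smul (M : Y.Modules) (U : Y.Opens) (a : Γ(Y, U)) (m : Γ(M, U)) :
    pullS f M U (a • m) = f.app U a • pullS f M U m :=
  Scheme.Modules.Hom.app_smul ((Scheme.Modules.pullbackPushforwardAdjunction f).unit.app M) a m

theorem res_pullS (M : Y.Modules) {U V : Y.Opens} (h : V ≤ U) (m : Γ(M, U)) :
    res ((Scheme.Modules.pullback f).obj M) (f.preimage_mono h) (pullS f M U m) = pullS f M V (res M h m) :=
  (Mero90.app_res ((Scheme.Modules.pullbackPushforwardAdjunction f).unit.app M) h m).symm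

theorem map_app_pullS {M N : Y.Modules} (φ : M ⟶ N) (U : Y.Opens) (m : Γ(M, U)) :
    ((Scheme.Modules.pullback f).map φ).app (f ⁻¹ᵁ U) (pullS f M U m) = pullS f N U (φ.app U m) :=
  (ConcreteCategory.congr_hom (congrArg (fun g => Scheme.Modules.Hom.app g U)
    ((Scheme.Modules.pullbackPushforwardAdjunction f).unit.naturality φ)) m).symm

theorem pullbackStructureIso_pullS (U : Y.Opens) :
    (PicLoc.pullbackStructureIso f).hom.app (f ⁻¹ᵁ U)
        (pullS f (Coh.structureModule Y) U ((1 : Γ(Y, U)) : Γ(Coh.structureModule Y, U))) =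
      ((1 : Γ(X, f ⁻¹ᵁ U)) : Γ(Coh.structureModule X, f ⁻¹ᵁ U)) := by
  have h : (Scheme.Modules.pullbackPushforwardAdjunction f).homEquiv _ _ (PicLoc.pullbackStructureIso f).hom =
      SheafOfModules.unitToPushforwardObjUnit f.toRingCatSheafHom :=
    Equiv.apply_symm_apply _ _
  rw [Adjunction.homEquiv_unit] at h
  refine (ConcreteCategory.congr_hom (congrArg (fun g => Scheme.Modules.Hom.app g U) h)
    ((1 : Γ(Y, U)) : Γ(Coh.structureModule Y, U))).trans ?_
  exact map_one (f.app U).hom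

/-- The inverse image of a global section. -/
def pullHom {L : Y.Modules} (s : Coh.structureModule Y ⟶ L) :
    Coh.structureModule X ⟶ (Scheme.Modules.pullback f).obj L :=
  (PicLoc.pullbackStructureIso f).inv ≫ (Scheme.Modules.pullback f).map s

theorem val_pullHom {L : Y.Modules} (s : Coh.structureModule Y ⟶ L) (U : Y.Opens) :
    val _ (pullHom f s) (f ⁻¹ᵁ U) = pullS f L U (val L s U) := by
  let one : Γ(Coh.structureModule Y, U) := (1 : Γ(Y, U))
  have h2 : (PicLoc.pullbackStructureIso f).inv.app (f ⁻¹ᵁ U)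
      ((1 : Γ(X, f ⁻¹ᵁ U)) : Γ(Coh.structureModule X, f ⁻¹ᵁ U)) = pullS f _ U one := by
    rw [← pullbackStructureIso_pullS f U]
    exact ConcreteCategory.congr_hom
      (congrArg (fun g => Scheme.Modules.Hom.app g (f ⁻¹ᵁ U)) (PicLoc.pullbackStructureIso f).hom_inv_id) _
  show ((Scheme.Modules.pullback f).map s).app (f ⁻¹ᵁ U)
    ((PicLoc.pullbackStructureIso f).inv.app (f ⁻¹ᵁ U) _) = _
  exact (congrArg (((Scheme.Modules.pullback f).map s).app (f ⁻¹ᵁ U)) h2).trans (map_app_pullS f s U one)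

theorem le_genLocus_map {L : Y.Modules} (s : Coh.structureModule Y ⟶ L) :
    f ⁻¹ᵁ CohB1.genLocus L s ≤ CohB1.genLocus _ (pullHom f s) := by
  set U := CohB1.genLocus L s
  have hs : IsIso ((Scheme.Modules.restrictFunctor U.ι).map s) :=
    (isIso_restrict_map_iff s U).2 (isFrame_genLocus s)
  have h1 : IsIso ((Scheme.Modules.pullback U.ι).map s) :=
    (NatIso.isIso_map_iff (Scheme.Modules.restrictFunctorIsoPullback U.ι) s).1 hs
  have h2 : IsIso ((Scheme.Modules.pullback U.ι ⋙ Scheme.Modules.pullback (f ∣_ U)).map s) :=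
    (inferInstance : IsIso ((Scheme.Modules.pullback (f ∣_ U)).map ((Scheme.Modules.pullback U.ι).map s)))
  have h3 : IsIso ((Scheme.Modules.pullback f ⋙ Scheme.Modules.restrictFunctor (f ⁻¹ᵁ U).ι).map s) :=
    (NatIso.isIso_map_iff (Scheme.Modules.pullbackComp (f ∣_ U) U.ι ≪≫
      Scheme.Modules.pullbackCongr (morphismRestrict_ι f U) ≪≫
      (Scheme.Modules.pullbackComp (f ⁻¹ᵁ U).ι f).symm ≪≫
      Functor.isoWhiskerLeft (Scheme.Modules.pullback f)
        (Scheme.Modules.restrictFunctorIsoPullback (f ⁻¹ᵁ U).ι).symm) s).1 h2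
  refine (isFrame_iff_le_genLocus _ _).1 ((isIso_restrict_map_iff _ _).1 ?_)
  rw [pullHom, Functor.map_comp]
  have h4 : IsIso ((Scheme.Modules.restrictFunctor (f ⁻¹ᵁ U).ι).map ((Scheme.Modules.pullback f).map s)) := h3
  infer_instance

theorem genLocus_pullHom {L : Y.Modules} (hL : PicF.IsInvertible L) (s : Coh.structureModule Y ⟶ L) :
    CohB1.genLocus _ (pullHom f s) = f ⁻¹ᵁ CohB1.genLocus L s := by
  refine le_antisymm (fun x hx => ?_) (le_genLocus_map f s)
  obtain ⟨W, hxW, -, e, he⟩ := Mero90.exists_affine_frame hL (f x) ⊤ trivial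
  obtain ⟨c, hc⟩ := exists_coord s he
  let V := CohB1.genLocus _ (pullHom f s) ⊓ f ⁻¹ᵁ W.1
  have hV : V ≤ f ⁻¹ᵁ W.1 := inf_le_right
  let e' := res _ hV (pullS f L W.1 e)
  let c' : Γ(X, V) := fres hV (f.app W.1 c)
  have hfr := (isFrame_iff_le_genLocus (pullHom f s) V).2 inf_le_left
  have hval : val _ (pullHom f s) V = c' • e' := by
    rw [← res_val _ (pullHom f s) hV, val_pullHom, ← hc, pullS_smul, res_smul]
  have hu : IsUnit c' := by
    obtain ⟨a, ha⟩ := (hfr V le_rfl).2 e'
    dsimp only at ha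
    rw [res_self] at ha
    refine IsUnit.of_mul_eq_one a ((hfr V le_rfl).1 ?_)
    dsimp only
    rw [res_self, one_smul, mul_smul, ha]
    exact hval.symm
  have h2 : X.basicOpen c' = V := X.basicOpen_of_isUnit hu
  have hx' : x ∈ X.basicOpen c' := h2.ge ⟨hx, hxW⟩
  have h3 : x ∈ X.basicOpen (f.app W.1 c) := ((X.basicOpen_res _ (homOfLE hV).op).le hx').2
  rw [← Scheme.preimage_basicOpen] at h3
  exact ((genLocus_inf_eq_basicOpen s he hc).ge h3).1

theorem genLocus_iso_comp_map {L : Y.Modules} (hL : PicF.IsInvertible L) (s : Coh.structureModule Y ⟶ L)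
    (e : Coh.structureModule X ≅ (Scheme.Modules.pullback f).obj (Coh.structureModule Y)) :
    CohB1.genLocus _ (e.hom ≫ (Scheme.Modules.pullback f).map s) = f ⁻¹ᵁ CohB1.genLocus L s := by
  have h : e.hom ≫ (Scheme.Modules.pullback f).map s =
      (e ≪≫ PicLoc.pullbackStructureIso f).hom ≫ pullHom f s := by
    simp [pullHom]
  rw [h, genLocus_iso_comp, genLocus_pullHom f hL]

end Groth.Agent.Amp73
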