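import Groth.Agent.Amp73.Tensor
import Groth.Agent.Amp73.Pullback

/-!
Powers: identifications of tensor powers, powers of frames, restriction to opens.
-/

universe u

open CategoryTheory CategoryTheory.Limits AlgebraicGeometry Opposite TopologicalSpace

noncomputable section

namespace Groth.Agent.Amp73

open Var76.LineBundle Var76.ZeroScheme

variable {X : Scheme.{u}} {L M : X.Modules}

/-- `L^1 = L`. -/
def powOne (L : X.Modules) : CohB1.tensorPow L 1 ≅ L := EGA73.tensUnitLeft L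

/-- `L^m ⊗ L^n = L^(m+n)`. -/
def powAdd (L : X.Modules) (m : ℕ) : (n : ℕ) →
    (CohB1.tensorMod (CohB1.tensorPow L m) (CohB1.tensorPow L n) ≅ CohB1.tensorPow L (m + n))
  | 0 => EGA73.tensUnitRight _
  | n + 1 => (EGA73.tensAssoc' _ _ _).symm ≪≫ EGA73.tensIso (powAdd L m n) (Iso.refl L)

/-- `(L^m)^n = L^(m n)`. -/
def powMul (L : X.Modules) (m : ℕ) : (n : ℕ) →
    (CohB1.tensorPow (CohB1.tensorPow L m) n ≅ CohB1.tensorPow L (m * n))
  | 0 => Iso.refl _
  | n + 1 => EGA73.tensIso (powMul L m n) (Iso.refl _) ≪≫ powAdd L (m * n) m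

/-- Tensor powers of isomorphic modules. -/
def powIso (φ : L ≅ M) : (n : ℕ) → (CohB1.tensorPow L n ≅ CohB1.tensorPow M n)
  | 0 => Iso.refl _
  | n + 1 => EGA73.tensIso (powIso φ n) φ

/-- `(L ⊗ M) ⊗ (L' ⊗ M') = (L ⊗ L') ⊗ (M ⊗ M')`. -/
def tensMiddle (L M L' M' : X.Modules) :
    CohB1.tensorMod (CohB1.tensorMod L M) (CohB1.tensorMod L' M') ≅
      CohB1.tensorMod (CohB1.tensorMod L L') (CohB1.tensorMod M M') :=
  EGA73.tensAssoc' L M _ ≪≫
    EGA73.tensIso (Iso.refl L) ((EGA73.tensAssoc' M L' M').symm ≪≫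
      EGA73.tensIso (EGA73.tensComm M L') (Iso.refl M') ≪≫ EGA73.tensAssoc' L' M M') ≪≫
    (EGA73.tensAssoc' L L' _).symm

/-- `(L ⊗ M)^n = L^n ⊗ M^n`. -/
def powTens (L M : X.Modules) : (n : ℕ) →
    (CohB1.tensorPow (CohB1.tensorMod L M) n ≅ CohB1.tensorMod (CohB1.tensorPow L n) (CohB1.tensorPow M n))
  | 0 => (EGA73.tensUnitLeft _).symm
  | n + 1 => EGA73.tensIso (powTens L M n) (Iso.refl _) ≪≫ tensMiddle _ _ L M

/-- The power of a section over an open. -/
def epow {U : X.Opens} (e : Γ(L, U)) : (n : ℕ) → Γ(CohB1.tensorPow L n, U)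
  | 0 => ((1 : Γ(X, U)) : Γ(Coh.structureModule X, U))
  | n + 1 => tm (CohB1.tensorPow L n) L (epow e n) e

theorem res_epow {U V : X.Opens} (h : V ≤ U) (e : Γ(L, U)) : ∀ n, res _ h (epow e n) = epow (res L h e) n
  | 0 => map_one (X.presheaf.map (homOfLE h).op).hom
  | n + 1 => by
    show res _ h (tm _ L (epow e n) e) = tm _ L (epow (res L h e) n) (res L h e)
    rw [res_tm, res_epow h e n]

theorem epow_smul {U : X.Opens} (a : Γ(X, U)) (e : Γ(L, U)) : ∀ n, epow (a • e) n = a ^ n • epow e n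
  | 0 => by
    show _ = a ^ 0 • epow e 0
    rw [pow_zero, one_smul]
    rfl
  | n + 1 => by
    show tm _ L (epow (a • e) n) (a • e) = a ^ (n + 1) • tm _ L (epow e n) e
    rw [epow_smul a e n, tm_smul, pow_succ]

theorem isFrame_epow {U : X.Opens} {e : Γ(L, U)} (he : IsFrame L U e) :
    ∀ n, IsFrame (CohB1.tensorPow L n) U (epow e n)
  | 0 => fun V hV => by
    have h1 : res (Coh.structureModule X) hV (epow e 0) = ((1 : Γ(X, V)) : Γ(Coh.structureModule X, V)) :=
      map_one (X.presheaf.map (homOfLE hV).op).hom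
    show Function.Bijective fun a : Γ(X, V) => a • res (Coh.structureModule X) hV (epow e 0)
    rw [h1]
    exact ⟨fun (a b : Γ(X, V)) h => ((mul_one a).symm.trans h).trans (mul_one b),
      fun (c : Γ(X, V)) => ⟨c, mul_one c⟩⟩
  | n + 1 => isFrame_tm (isFrame_epow he n) he

theorem pow_eq_epow (s : Coh.structureModule X ⟶ L) (U : X.Opens) :
    ∀ n, (SecTwist.pow s n U : Γ(CohB1.tensorPow L n, U)) = epow (val L s U) n
  | 0 => rfl
  | n + 1 => congrArg (fun q => tm (CohB1.tensorPow L n) L q (val L s U)) (pow_eq_epow s U n)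

theorem val_powHom (s : Coh.structureModule X ⟶ L) (n : ℕ) (U : X.Opens) :
    val _ (SecTwist.powHom s n) U = epow (val L s U) n :=
  (SecTwist.val_powHom s n U).trans (pow_eq_epow s U n)

/-- Restriction to an open commutes with tensor powers. -/
def powRestrict {Y : Scheme.{u}} (f : Y ⟶ X) [IsOpenImmersion f] (L : X.Modules) : (n : ℕ) →
    (CohB1.tensorPow (L.restrict f) n ≅ (CohB1.tensorPow L n).restrict f)
  | 0 => (Scheme.Modules.restrictUnitIso f).symm
  | n + 1 => EGA73.tensIso (powRestrict f L n) (Iso.refl _) ≪≫ EGA73.tensorRestrictIso f _ _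

/-- The restriction of a global section. -/
def restrHom {Y : Scheme.{u}} (f : Y ⟶ X) [IsOpenImmersion f] (s : Coh.structureModule X ⟶ L) :
    Coh.structureModule Y ⟶ L.restrict f :=
  (Scheme.Modules.restrictUnitIso f).inv ≫ (Scheme.Modules.restrictFunctor f).map s

theorem genLocus_restrHom {Y : Scheme.{u}} (f : Y ⟶ X) [IsOpenImmersion f] (hL : PicF.IsInvertible L)
    (s : Coh.structureModule X ⟶ L) :
    CohB1.genLocus _ (restrHom f s) = f ⁻¹ᵁ CohB1.genLocus L s := by
  let η := Scheme.Modules.restrictFunctorIsoPullback f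
  let e : Coh.structureModule Y ≅ (Scheme.Modules.pullback f).obj (Coh.structureModule X) :=
    (Scheme.Modules.restrictUnitIso f).symm ≪≫ η.app _
  have h : restrHom f s = (e.hom ≫ (Scheme.Modules.pullback f).map s) ≫ (η.app L).inv := by
    simp [restrHom, e]
  rw [h, genLocus_comp_iso, genLocus_iso_comp_map f hL]

end Groth.Agent.Amp73
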