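import Groth.Agent.Amp73.Gen

/-!
Tensor products of frames, and generating loci of tensor products and powers of sections.
-/

universe u

open CategoryTheory CategoryTheory.Limits AlgebraicGeometry Opposite TopologicalSpace

noncomputable section

namespace Groth.Agent.Amp73

open Var76.LineBundle Var76.ZeroScheme

variable {X : Scheme.{u}} {L M : X.Modules}

/-- A section of the tensor product, typed as a section. -/
abbrev tm (L M : X.Modules) {U : X.Opens} (m : Γ(L, U)) (n : Γ(M, U)) : Γ(CohB1.tensorMod L M, U) :=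
  SecTwist.tmul L M U m n

theorem tm_eq {U : X.Opens} (m : Γ(L, U)) (n : Γ(M, U)) :
    tm L M m n = (Mod48.shfU (O := X.sheaf) (CohB1.tensorPre L M)).app (op U) (Mero90.tq m n) := rfl

theorem res_tm {U V : X.Opens} (h : V ≤ U) (m : Γ(L, U)) (n : Γ(M, U)) :
    res (CohB1.tensorMod L M) h (tm L M m n) = tm L M (res L h m) (res M h n) :=
  SecTwist.map_tmul L M (homOfLE h) m n

theorem tm_smul {U : X.Opens} (a c : Γ(X, U)) (m : Γ(L, U)) (n : Γ(M, U)) :
    tm L M (a • m) (c • n) = (a * c) • tm L M m n := by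
  rw [tm_eq, tm_eq]
  refine (congrArg _ (Mero90.tq_smul a c m n)).trans ?_
  exact ((Mod48.shfU (O := X.sheaf) (CohB1.tensorPre L M)).app (op U)).hom.map_smul _ _

theorem tm_smul_left {U : X.Opens} (a : Γ(X, U)) (m : Γ(L, U)) (n : Γ(M, U)) :
    tm L M (a • m) n = a • tm L M m n := by
  have := tm_smul a 1 m n
  rwa [one_smul, mul_one] at this

theorem tm_smul_right {U : X.Opens} (c : Γ(X, U)) (m : Γ(L, U)) (n : Γ(M, U)) :
    tm L M m (c • n) = c • tm L M m n := by
  have := tm_smul 1 c m n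
  rwa [one_smul, one_mul] at this

theorem tm_zero_left {U : X.Opens} (n : Γ(M, U)) : tm L M (0 : Γ(L, U)) n = 0 := by
  have := tm_smul_left (0 : Γ(X, U)) (0 : Γ(L, U)) n
  rwa [zero_smul, zero_smul] at this

theorem tm_add_left {U : X.Opens} (m m' : Γ(L, U)) (n : Γ(M, U)) :
    tm L M (m + m') n = tm L M m n + tm L M m' n :=
  (congrArg _ (Mod48.tp_add_left (O := X.sheaf) (M := CohB1.toPMod L) (N := CohB1.toPMod M) (X := op U) m m' n)).trans
    (map_add ((Mod48.shfU (O := X.sheaf) (CohB1.tensorPre L M)).app (op U)).hom _ _)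

theorem tm_add_right {U : X.Opens} (m : Γ(L, U)) (n n' : Γ(M, U)) :
    tm L M m (n + n') = tm L M m n + tm L M m n' :=
  (congrArg _ (Mod48.tp_add_right (O := X.sheaf) (M := CohB1.toPMod L) (N := CohB1.toPMod M) (X := op U) m n n')).trans
    (map_add ((Mod48.shfU (O := X.sheaf) (CohB1.tensorPre L M)).app (op U)).hom _ _)

theorem tm_sub_left {U : X.Opens} (m m' : Γ(L, U)) (n : Γ(M, U)) :
    tm L M (m - m') n = tm L M m n - tm L M m' n :=
  eq_sub_of_add_eq (by rw [← tm_add_left, sub_add_cancel])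

/-- Every section of `L ⊗ M` is locally a multiple of the tensor of frames, uniquely. -/
theorem isFrame_tm {U : X.Opens} {e : Γ(L, U)} {e' : Γ(M, U)} (he : IsFrame L U e) (he' : IsFrame M U e') :
    IsFrame (CohB1.tensorMod L M) U (tm L M e e') := by
  have hloc := (Mod48.isIso_shf_map_iff_isLocalIso (O := X.sheaf) (Mod48.shfU (CohB1.tensorPre L M))).mp
    inferInstance
  -- coefficients on the presheaf tensor product
  have coord : ∀ (V : X.Opens) (hV : V ≤ U) (a b : Γ(X, V)),
      Mero90.osmul a (Mero90.tq (res L hV e) (res M hV e')) =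
        Mero90.osmul b (Mero90.tq (res L hV e) (res M hV e')) → a = b := by
    intro V hV a b hab
    let cL : Γ(L, V) ≃ₗ[Γ(X, V)] Γ(X, V) :=
      (LinearEquiv.ofBijective (LinearMap.toSpanSingleton Γ(X, V) Γ(L, V) (res L hV e)) (he V hV)).symm
    let cM : Γ(M, V) ≃ₗ[Γ(X, V)] Γ(X, V) :=
      (LinearEquiv.ofBijective (LinearMap.toSpanSingleton Γ(X, V) Γ(M, V) (res M hV e')) (he' V hV)).symm
    have hL1 : cL (res L hV e) = 1 := by
      rw [LinearEquiv.symm_apply_eq]; exact (one_smul _ _).symm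
    have hM1 : cM (res M hV e') = 1 := by
      rw [LinearEquiv.symm_apply_eq]; exact (one_smul _ _).symm
    let β : (CohB1.tensorPre L M).obj (op V) →ₗ[X.sheaf.obj.obj (op V)] (X.sheaf.obj.obj (op V) : Type u) :=
      (TensorProduct.lid _ _).toLinearMap.comp (TensorProduct.map cL.toLinearMap cM.toLinearMap)
    have hval : β (Mero90.tq (res L hV e) (res M hV e')) = 1 := by
      show (cL (res L hV e) : Γ(X, V)) • (cM (res M hV e') : Γ(X, V)) = 1
      rw [hL1, hM1, one_smul]
    have h1 := congrArg β hab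
    rw [map_smul, map_smul, hval] at h1
    exact (mul_one a).symm.trans (h1.trans (mul_one b))
  have hexp : ∀ (V : X.Opens) (hV : V ≤ U) (a : Γ(X, V)),
      a • res (CohB1.tensorMod L M) hV (tm L M e e') =
        (Mod48.shfU (O := X.sheaf) (CohB1.tensorPre L M)).app (op V)
          (Mero90.osmul a (Mero90.tq (res L hV e) (res M hV e'))) := fun V hV a => by
    rw [res_tm, tm_eq]
    exact (((Mod48.shfU (O := X.sheaf) (CohB1.tensorPre L M)).app (op V)).hom.map_smul a _).symm
  have hinj : ∀ (O : X.Opens) (hO : O ≤ U),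
      Function.Injective (fun a : Γ(X, O) => a • res (CohB1.tensorMod L M) hO (tm L M e e')) := by
    intro O hO a b hab
    dsimp only at hab
    rw [hexp, hexp] at hab
    refine TopCat.Presheaf.section_ext X.sheaf _ _ _ fun x hx => ?_
    obtain ⟨W, i, hW, hxW⟩ := hloc.inj.equalizerSieve_mem _ _ hab x hx
    replace hW : (CohB1.tensorPre L M).map i.op (Mero90.osmul a (Mero90.tq (res L hO e) (res M hO e'))) =
        (CohB1.tensorPre L M).map i.op (Mero90.osmul b (Mero90.tq (res L hO e) (res M hO e'))) := hW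
    have hWU : W ≤ U := i.le.trans hO
    have hmap : ∀ c : Γ(X, O), (CohB1.tensorPre L M).map i.op (Mero90.osmul c (Mero90.tq (res L hO e) (res M hO e'))) =
        Mero90.osmul (fres i.le c) (Mero90.tq (res L hWU e) (res M hWU e')) := by
      intro c
      refine ((CohB1.tensorPre L M).map_smul i.op c _).trans (congrArg (Mero90.osmul (fres i.le c)) ?_)
      refine (Mod48.map_tp (O := X.sheaf) (M := CohB1.toPMod L) (N := CohB1.toPMod M) i.op _ _).trans ?_
      show Mero90.tq (res L i.le (res L hO e)) (res M i.le (res M hO e')) = _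
      rw [res_res, res_res]
    rw [hmap, hmap] at hW
    have h2 := congrArg (X.presheaf.germ W x hxW) (coord W hWU _ _ hW)
    rw [TopCat.Presheaf.germ_res_apply, TopCat.Presheaf.germ_res_apply] at h2
    exact h2
  intro V hV
  constructor
  · exact hinj V hV
  · intro m
    have key : ∀ x : V, ∃ (W : X.Opens) (hW : W ≤ V) (c : Γ(X, W)), x.1 ∈ W ∧
        c • res (CohB1.tensorMod L M) (hW.trans hV) (tm L M e e') = res (CohB1.tensorMod L M) hW m := by
      intro x
      obtain ⟨W, i, ⟨z, hz⟩, hxW⟩ := hloc.surj.imageSieve_mem m x.1 x.2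
      obtain ⟨c, hc⟩ := Mero90.exists_eq_smul_tp he he' (i.le.trans hV) z
      exact ⟨W, i.le, c, hxW, by rw [hexp, ← hc]; exact hz⟩
    choose W hW c hxW hc using key
    have compat : TopCat.Presheaf.IsCompatible X.presheaf W c := by
      intro x y
      refine hinj (W x ⊓ W y) ((inf_le_left.trans (hW x)).trans hV) ?_
      dsimp only
      have h1 := congrArg (res (CohB1.tensorMod L M) (inf_le_left : W x ⊓ W y ≤ W x)) (hc x)
      have h2 := congrArg (res (CohB1.tensorMod L M) (inf_le_right : W x ⊓ W y ≤ W y)) (hc y)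
      rw [res_smul, res_res, res_res] at h1 h2
      exact h1.trans h2.symm
    obtain ⟨a, ha, -⟩ := X.sheaf.existsUnique_gluing' W V
      (fun x => homOfLE (hW x)) (fun y hy => Opens.mem_iSup.2 ⟨⟨y, hy⟩, hxW ⟨y, hy⟩⟩) c compat
    refine ⟨a, eq_of_locally _ _ _ fun y hy => ⟨W ⟨y, hy⟩, hW _, hxW _, ?_⟩⟩
    rw [res_smul, res_res, ← hc ⟨y, hy⟩]
    congr 1
    exact ha ⟨y, hy⟩

theorem val_tmulHom (a : Coh.structureModule X ⟶ L) (b : Coh.structureModule X ⟶ M) (U : X.Opens) :
    val (CohB1.tensorMod L M) (SecTwist.tmulHom a b) U = tm L M (val L a U) (val M b U) :=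
  SecTwist.val_tmulHom a b U

/-- The generating locus of `a ⊗ b` is the intersection of the generating loci. -/
theorem genLocus_tmulHom (hL : PicF.IsInvertible L) (hM : PicF.IsInvertible M)
    (a : Coh.structureModule X ⟶ L) (b : Coh.structureModule X ⟶ M) :
    CohB1.genLocus _ (SecTwist.tmulHom a b) = CohB1.genLocus L a ⊓ CohB1.genLocus M b := by
  apply le_antisymm
  · intro x hx
    obtain ⟨U, hxU, -, e, he⟩ := Mero90.exists_affine_frame hL x ⊤ trivial
    obtain ⟨U', hxU', hle, e', he'⟩ := Mero90.exists_affine_frame hM x U.1 hxU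
    have he1 := he.res hle
    obtain ⟨c, hc⟩ := exists_coord a he1
    obtain ⟨c', hc'⟩ := exists_coord b he'
    have ht : (c * c') • tm L M (res L hle e) e' = val _ (SecTwist.tmulHom a b) U'.1 := by
      rw [val_tmulHom, ← hc, ← hc', tm_smul]
    have h := (genLocus_inf_eq_basicOpen _ (isFrame_tm he1 he') ht).le ⟨hx, hxU'⟩
    rw [X.basicOpen_mul] at h
    exact ⟨((genLocus_inf_eq_basicOpen a he1 hc).ge h.1).1, ((genLocus_inf_eq_basicOpen b he' hc').ge h.2).1⟩
  · refine (isFrame_iff_le_genLocus _ _).1 ?_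
    rw [val_tmulHom]
    exact isFrame_tm ((isFrame_iff_le_genLocus a _).2 inf_le_left) ((isFrame_iff_le_genLocus b _).2 inf_le_right)

theorem genLocus_id : CohB1.genLocus (Coh.structureModule X) (𝟙 _) = ⊤ := by
  rw [eq_top_iff, ← isFrame_iff_le_genLocus]
  intro V hV
  rw [res_val]
  exact ⟨fun (a b : Γ(X, V)) h => ((mul_one a).symm.trans h).trans (mul_one b), fun (c : Γ(X, V)) => ⟨c, mul_one c⟩⟩

theorem genLocus_powHom (hL : PicF.IsInvertible L) (s : Coh.structureModule X ⟶ L) :
    ∀ n : ℕ, 0 < n → CohB1.genLocus _ (SecTwist.powHom s n) = CohB1.genLocus L s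
  | 0, h => absurd h (lt_irrefl 0)
  | n + 1, _ => by
    show CohB1.genLocus _ (SecTwist.tmulHom (SecTwist.powHom s n) s) = _
    rw [genLocus_tmulHom (EGA73.isInvertible_tensorPow hL n) hL]
    rcases Nat.eq_zero_or_pos n with rfl | hn
    · show CohB1.genLocus (Coh.structureModule X) (𝟙 _) ⊓ _ = _
      rw [genLocus_id, top_inf_eq]
    · rw [genLocus_powHom hL s n hn, inf_idem]

end Groth.Agent.Amp73
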