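import Groth.Agent.Amp73.Ample
import Mathlib.AlgebraicGeometry.Morphisms.Affine

/-!
Sums of sections: generating loci containing finitely many prescribed points.
-/

universe u

open CategoryTheory CategoryTheory.Limits AlgebraicGeometry Opposite TopologicalSpace

noncomputable section

namespace Groth.Agent.Amp73

open Var76.LineBundle Var76.ZeroScheme

variable {X : Scheme.{u}} {L M : X.Modules}

theorem val_sum {ι : Type*} [Fintype ι] (σ : ι → (Coh.structureModule X ⟶ M)) (W : X.Opens) :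
    val M (Var76.Frames.ofSection M (∑ i, val M (σ i) ⊤)) W = ∑ i, val M (σ i) W := by
  rw [Var76.Frames.val_ofSection]
  show (M.presheaf.map (homOfLE le_top).op) _ = _
  rw [map_sum]
  exact Finset.sum_congr rfl fun i _ => res_val M (σ i) le_top

theorem exists_coord_sum {ι : Type*} [Fintype ι] (σ : ι → (Coh.structureModule X ⟶ M)) {W : X.Opens}
    {e : Γ(M, W)} (he : IsFrame M W e) (c : ι → Γ(X, W)) (hc : ∀ i, c i • e = val M (σ i) W) :
    (∑ i, c i) • e = val M (Var76.Frames.ofSection M (∑ i, val M (σ i) ⊤)) W := by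
  rw [val_sum, Finset.sum_smul]
  exact Finset.sum_congr rfl fun i _ => hc i

/-- If exactly one summand generates at a point, so does the sum. -/
theorem mem_genLocus_sum (hM : PicF.IsInvertible M) {ι : Type*} [Fintype ι]
    (σ : ι → (Coh.structureModule X ⟶ M)) {x : X} {j : ι} (hj : x ∈ CohB1.genLocus M (σ j))
    (hne : ∀ i, i ≠ j → x ∉ CohB1.genLocus M (σ i)) :
    x ∈ CohB1.genLocus M (Var76.Frames.ofSection M (∑ i, val M (σ i) ⊤)) := by
  classical
  obtain ⟨W, hxW, -, e, he⟩ := Mero90.exists_affine_frame hM x ⊤ trivial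
  choose c hc using fun i => exists_coord (σ i) he
  have hu : ∀ i, (x ∈ CohB1.genLocus M (σ i) ↔ IsUnit (X.presheaf.germ W.1 x hxW (c i))) := fun i => by
    rw [← X.mem_basicOpen (c i) x hxW, ← genLocus_inf_eq_basicOpen (σ i) he (hc i)]
    exact ⟨fun h => ⟨h, hxW⟩, fun h => h.1⟩
  refine ((genLocus_inf_eq_basicOpen _ he (exists_coord_sum σ he c hc)).ge ?_).1
  rw [X.mem_basicOpen _ x hxW, map_sum, ← Finset.add_sum_erase _ _ (Finset.mem_univ j)]
  set r := ∑ i ∈ Finset.univ.erase j, X.presheaf.germ W.1 x hxW (c i) with hr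
  have hrm : r ∈ IsLocalRing.maximalIdeal (X.presheaf.stalk x) :=
    Ideal.sum_mem _ fun i hi h => hne i (Finset.ne_of_mem_erase hi) ((hu i).2 h)
  by_contra hcon
  have h1 : X.presheaf.germ W.1 x hxW (c j) + r ∈ IsLocalRing.maximalIdeal (X.presheaf.stalk x) := hcon
  have h2 := Ideal.sub_mem _ h1 hrm
  rw [add_sub_cancel_right] at h2
  exact h2 ((hu j).1 hj)

theorem genLocus_sum_le (hM : PicF.IsInvertible M) {ι : Type*} [Fintype ι]
    (σ : ι → (Coh.structureModule X ⟶ M)) :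
    CohB1.genLocus M (Var76.Frames.ofSection M (∑ i, val M (σ i) ⊤)) ≤ ⨆ i, CohB1.genLocus M (σ i) := by
  intro x hx
  by_contra h
  obtain ⟨W, hxW, -, e, he⟩ := Mero90.exists_affine_frame hM x ⊤ trivial
  choose c hc using fun i => exists_coord (σ i) he
  have h1 := (genLocus_inf_eq_basicOpen _ he (exists_coord_sum σ he c hc)).le ⟨hx, hxW⟩
  rw [X.mem_basicOpen _ x hxW, map_sum] at h1
  refine (show ¬ IsUnit _ from ?_) h1
  exact Ideal.sum_mem (IsLocalRing.maximalIdeal (X.presheaf.stalk x)) fun i _ hi => h (Opens.mem_iSup.2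
    ⟨i, ((genLocus_inf_eq_basicOpen (σ i) he (hc i)).ge ((X.mem_basicOpen (c i) x hxW).2 hi)).1⟩)

theorem isAffineOpen_genLocus_sum (hM : PicF.IsInvertible M) {ι : Type*} [Fintype ι]
    (σ : ι → (Coh.structureModule X ⟶ M)) (ha : ∀ i, IsAffineOpen (CohB1.genLocus M (σ i))) :
    IsAffineOpen (CohB1.genLocus M (Var76.Frames.ofSection M (∑ i, val M (σ i) ⊤))) := by
  classical
  set s := Var76.Frames.ofSection M (∑ i, val M (σ i) ⊤)
  have he := isFrame_genLocus s
  choose c hc using fun i => exists_coord (σ i) he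
  have hsum : ∑ i, c i = 1 := by
    have h := exists_coord_sum σ he c hc
    refine (he _ le_rfl).1 ?_
    dsimp only
    rw [res_self, one_smul]
    exact h
  refine isAffineOpen_of_isAffineOpen_basicOpen _ (Set.range c) ((Ideal.eq_top_iff_one _).2 ?_) ?_
  · rw [← hsum]
    exact Ideal.sum_mem _ fun i _ => Ideal.subset_span ⟨i, rfl⟩
  · rintro _ ⟨i, rfl⟩
    rw [← genLocus_inf_eq_basicOpen (σ i) he (hc i), inf_comm]
    exact isAffineOpen_genLocus_inf hM s (ha i)

/-- Sections in a common exponent. -/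
theorem exists_common_exponent (hL : PicF.IsInvertible L) {ι : Type*} [Fintype ι] (n : ι → ℕ)
    (s : ∀ i, Coh.structureModule X ⟶ CohB1.tensorPow L (n i + 1)) :
    ∃ (m : ℕ) (σ : ι → (Coh.structureModule X ⟶ CohB1.tensorPow L (m + 1))),
      ∀ i, CohB1.genLocus _ (σ i) = CohB1.genLocus _ (s i) := by
  classical
  let P := ∏ i, (n i + 1)
  have hP : 0 < P := Finset.prod_pos fun i _ => Nat.succ_pos _
  have hex : ∀ i, ∃ σ : Coh.structureModule X ⟶ CohB1.tensorPow L ((P - 1) + 1),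
      CohB1.genLocus _ σ = CohB1.genLocus _ (s i) := by
    intro i
    obtain ⟨t, ht⟩ := exists_genLocus_pow hL (s i)
      (N := ∏ j ∈ Finset.univ.erase i, (n j + 1)) (Finset.prod_pos fun j _ => Nat.succ_pos _)
    have e : (n i + 1) * ∏ j ∈ Finset.univ.erase i, (n j + 1) = (P - 1) + 1 := by
      rw [Finset.mul_prod_erase _ (fun j => n j + 1) (Finset.mem_univ i), Nat.sub_add_cancel hP]
    exact ⟨t ≫ eqToHom (congrArg _ e), (genLocus_comp_iso _ _).trans ht⟩
  choose σ hσ using hex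
  exact ⟨P - 1, σ, hσ⟩

/-- An affine `X_s` containing given finitely many points and contained in a given open. -/
theorem exists_affine_genSet_of_finite (h : CohB1.IsAmple L) {Z : Set X} (hZ : Z.Finite) {U : X.Opens}
    (hZU : Z ⊆ U) : ∃ G ∈ GenSet L, Z ⊆ G ∧ G ≤ U ∧ IsAffineOpen G := by
  classical
  let Z₀ : Set X := {z ∈ Z | ∀ z' ∈ Z, z ⤳ z' → z' ⤳ z}
  have hdom : ∀ x ∈ Z, ∃ z ∈ Z₀, x ⤳ z := by
    intro x hx
    obtain ⟨z, ⟨hz, hxz⟩, hmin⟩ := (hZ.subset (fun z hz => hz.1 : {z ∈ Z | x ⤳ z} ⊆ Z)).exists_minimalFor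
      (fun z => closure ({z} : Set X)) _ ⟨x, hx, specializes_refl x⟩
    refine ⟨z, ⟨hz, fun z' hz' hzz' => ?_⟩, hxz⟩
    exact specializes_iff_closure_subset.2 (hmin ⟨hz', hxz.trans hzz'⟩ (specializes_iff_closure_subset.1 hzz'))
  have hZ₀ : Z₀.Finite := hZ.subset fun z hz => hz.1
  have := hZ₀.fintype
  have hsec : ∀ z : Z₀, ∃ (n : ℕ) (s : Coh.structureModule X ⟶ CohB1.tensorPow L (n + 1)),
      z.1 ∈ CohB1.genLocus _ s ∧ (∀ z' : Z₀, z' ≠ z → z'.1 ∉ CohB1.genLocus _ s) ∧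
        CohB1.genLocus _ s ≤ U ∧ IsAffineOpen (CohB1.genLocus _ s) := by
    intro z
    let C : Set X := ⋃ z' ∈ {z' : Z₀ | z' ≠ z}, closure {z'.1}
    have hC : IsClosed C := (Set.toFinite _).isClosed_biUnion fun _ _ => isClosed_closure
    have hzC : z.1 ∈ (⟨Cᶜ, hC.isOpen_compl⟩ : X.Opens) ⊓ U := by
      refine ⟨fun hz => ?_, hZU z.2.1⟩
      obtain ⟨z', hne, hz'⟩ := Set.mem_iUnion₂.1 hz
      have h1 : z'.1 ⤳ z.1 := specializes_iff_mem_closure.2 hz'
      exact hne (Subtype.ext ((h1.antisymm (z'.2.2 z.1 z.2.1 h1)).eq))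
    obtain ⟨_, ⟨n, s, rfl⟩, hzG, hle, ha⟩ := exists_affine_genSet_le h z.1 _ hzC
    refine ⟨n, s, hzG, fun z' hne hz' => ?_, hle.trans inf_le_right, ha⟩
    exact (hle hz').1 (Set.mem_iUnion₂.2 ⟨z', hne, subset_closure rfl⟩)
  choose n s hs hne hle ha using hsec
  obtain ⟨m, σ, hσ⟩ := exists_common_exponent h.1 n s
  have hM := EGA73.isInvertible_tensorPow h.1 (m + 1)
  refine ⟨_, ⟨m, Var76.Frames.ofSection _ (∑ i, val _ (σ i) ⊤), rfl⟩, fun x hx => ?_,
    (genLocus_sum_le hM σ).trans (iSup_le fun i => (hσ i).le.trans (hle i)),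
    isAffineOpen_genLocus_sum hM σ fun i => (hσ i).symm ▸ ha i⟩
  obtain ⟨z, hz, hxz⟩ := hdom x hx
  refine hxz.mem_open (Opens.isOpen _) (mem_genLocus_sum hM σ (j := ⟨z, hz⟩) ?_ fun i hi => ?_)
  · rw [hσ]; exact hs _
  · rw [hσ]; exact hne i ⟨z, hz⟩ (Ne.symm hi)

end Groth.Agent.Amp73
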