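import Groth.Agent.Amp73.Gen
import Groth.Agent.QC70.Hom

/-!
Morphisms out of a module with frames, given on the frames.
-/

set_option autoImplicit false
set_option backward.isDefEq.respectTransparency.types false

noncomputable section

universe u

open CategoryTheory CategoryTheory.Limits AlgebraicGeometry Opposite TopologicalSpace

namespace Groth.Agent.Amp73

open Var76.LineBundle Var76.ZeroScheme

variable {X : Scheme.{u}} {L M : X.Modules}

/-- A morphism prescribed on frames, the prescription being compatible with changes of frame. -/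
theorem exists_hom_of_frames {ι : Type u} (U : ι → X.Opens) (hU : ⨆ i, U i = ⊤)
    (e : ∀ i, Γ(L, U i)) (he : ∀ i, IsFrame L (U i) (e i)) (σ : ∀ i, Γ(M, U i))
    (hσ : ∀ (i j : ι) (V : X.Opens) (hi : V ≤ U i) (hj : V ≤ U j) (c : Γ(X, V)),
      res L hj (e j) = c • res L hi (e i) → res M hj (σ j) = c • res M hi (σ i)) :
    ∃ φ : L ⟶ M, ∀ i, φ.app (U i) (e i) = σ i := by
  let coef : ∀ i (W : X.Opens), W ≤ U i → Γ(X, W) ≃ₗ[Γ(X, W)] Γ(L, W) := fun i W hW =>
    LinearEquiv.ofBijective (LinearMap.toSpanSingleton Γ(X, W) Γ(L, W) (res L hW (e i))) (he i W hW)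
  let ψ : ∀ i, QC70.HomOn L M (U i) := fun i =>
    { app := fun W hW =>
        (LinearMap.toSpanSingleton Γ(X, W) Γ(M, W) (res M hW (σ i))).comp (coef i W hW).symm.toLinearMap
      app_res := fun {W W'} hW h s => by
        obtain ⟨a, rfl⟩ := (coef i W hW).surjective s
        have h1 : QC70.res L h ((coef i W hW) a) = coef i W' (h.trans hW) (fres h a) := by
          show res L h (a • res L hW (e i)) = fres h a • res L (h.trans hW) (e i)
          rw [res_smul, res_res]
        simp only [LinearMap.comp_apply, LinearEquiv.coe_coe, h1, LinearEquiv.symm_apply_apply,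
          LinearMap.toSpanSingleton_apply]
        show fres h a • res M (h.trans hW) (σ i) = res M h (a • res M hW (σ i))
        rw [res_smul, res_res]
         }
  have hc : QC70.HomOn.Compatible ψ := by
    intro i j V hi hj s
    obtain ⟨b, rfl⟩ := (coef j V hj).surjective s
    obtain ⟨c, hc⟩ := (coef i V hi).surjective (res L hj (e j))
    have h1 : coef j V hj b = coef i V hi (b * c) := by
      show b • res L hj (e j) = (b * c) • res L hi (e i)
      rw [mul_smul, ← hc]
      rfl
    simp only [ψ, LinearMap.comp_apply, LinearEquiv.coe_coe]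
    rw [LinearEquiv.symm_apply_apply, h1, LinearEquiv.symm_apply_apply]
    simp only [LinearMap.toSpanSingleton_apply]
    rw [hσ i j V hi hj c hc.symm, mul_smul]
  refine ⟨(QC70.HomOn.glue hc hU.ge).toHom, fun i => ?_⟩
  rw [QC70.HomOn.toHom_app, QC70.HomOn.glue_app hc hU.ge _ i le_rfl]
  have h1 : coef i (U i) le_rfl 1 = e i := by
    show (1 : Γ(X, U i)) • res L le_rfl (e i) = e i
    rw [one_smul, res_self]
  show ((coef i (U i) le_rfl).symm (e i)) • res M le_rfl (σ i) = σ i
  rw [show (coef i (U i) le_rfl).symm (e i) = 1 from (LinearEquiv.symm_apply_eq _).2 h1.symm, one_smul,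
    res_self]

end Groth.Agent.Amp73
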