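import Groth.Agent.Amp73.Criteria
import Groth.Agent.QCPull72.Sections
import Groth.Agent.QC70.CohOps

/-!
Counit criteria for quasi-affine morphisms and relative ampleness.
-/

universe u v

open CategoryTheory CategoryTheory.Limits AlgebraicGeometry Opposite TopologicalSpace

noncomputable section

namespace Groth.Agent.Amp73

open Var76.LineBundle Var76.ZeroScheme

variable {X Y : Scheme.{u}} {F L : X.Modules}

/-- Spanning transfers from the restriction to an open. -/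
theorem span_of_spanAt_restrict {P : X.Modules} (W : X.Opens) {U : (W : Scheme.{u}).Opens}
    (h : SpanAt (P.restrict W.ι) U) :
    Submodule.span Γ(X, W.ι ''ᵁ U) (Set.range fun t : Γ(P, W) =>
      res P ((W.ι.image_mono (le_top : U ≤ ⊤)).trans W.ι_image_top.le) t) = ⊤ := by
  refine eq_top_iff.2 fun z _ => ?_
  let T := Submodule.span Γ(X, W.ι ''ᵁ U) (Set.range fun t : Γ(P, W) =>
      res P ((W.ι.image_mono (le_top : U ≤ ⊤)).trans W.ι_image_top.le) t)
  let S' : Submodule Γ(W, U) Γ(P.restrict W.ι, U) :=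
    { carrier := {y | (y : Γ(P, W.ι ''ᵁ U)) ∈ T}
      add_mem' := fun ha hb => T.add_mem ha hb
      zero_mem' := T.zero_mem
      smul_mem' := fun a b hb => T.smul_mem ((W.ι.appIso U).inv a) (show (show Γ(P, W.ι ''ᵁ U) from b) ∈ T from hb) }
  refine (Submodule.span_le (p := S')).2 ?_ (h.ge (Submodule.mem_top (R := Γ(W, U)) (M := Γ(P.restrict W.ι, U)) (x := z)))
  rintro _ ⟨t, rfl⟩
  refine Submodule.subset_span (R := Γ(X, W.ι ''ᵁ U)) (M := Γ(P, W.ι ''ᵁ U))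
    ⟨res P W.ι_image_top.ge (t : Γ(P, W.ι ''ᵁ ⊤)), ?_⟩
  exact res_res P _ _ _

theorem epi_counit_of_spanAt_restrict (f : X ⟶ Y) (hF : Coh.IsQCoh F)
    (h : ∀ (V : Y.affineOpens) (x : (f ⁻¹ᵁ V.1 : Scheme.{u})), ∃ U : (f ⁻¹ᵁ V.1 : Scheme.{u}).Opens,
      x ∈ U ∧ IsAffineOpen U ∧ SpanAt (F.restrict (f ⁻¹ᵁ V.1).ι) U) :
    Epi ((Scheme.Modules.pullbackPushforwardAdjunction f).counit.app F) := by
  refine epi_counit_of_span f hF fun x => ?_
  obtain ⟨V, hV, hxV, -⟩ := exists_isAffineOpen_mem_and_subset (U := (⊤ : Y.Opens)) (x := f x) trivial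
  obtain ⟨U, hxU, hU, hsp⟩ := h ⟨V, hV⟩ ⟨x, hxV⟩
  exact ⟨V, (f ⁻¹ᵁ V).ι ''ᵁ U, _, ⟨_, hxU, rfl⟩, hU.image_of_isOpenImmersion _, span_of_spanAt_restrict _ hsp⟩

theorem isQCoh_restrict (hF : Coh.IsQCoh F) (W : X.Opens) : Coh.IsQCoh (F.restrict W.ι) :=
  have : F.IsQuasicoherent := hF
  QC70.isQuasicoherent_of_iso ((Scheme.Modules.restrictFunctorIsoPullback W.ι).app F).symm
    (QCPull72.isQuasicoherent_pullback W.ι F)

theorem isCoh_restrict (hF : Coh.IsCoh F) (W : X.Opens) : Coh.IsCoh (F.restrict W.ι) :=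
  have : F.IsQuasicoherent := hF.1
  have : F.IsFiniteType := hF.2
  QC70.isCoh_of_iso ((Scheme.Modules.restrictFunctorIsoPullback W.ι).app F).symm
    ⟨QCPull72.isQuasicoherent_pullback W.ι F, QCPull72.isFiniteType_pullback W.ι F⟩

theorem epi_counit_of_isQuasiAffine (f : X ⟶ Y) (hf : Mor2.IsQuasiAffine f) (hF : Coh.IsQCoh F) :
    Epi ((Scheme.Modules.pullbackPushforwardAdjunction f).counit.app F) :=
  epi_counit_of_spanAt_restrict f hF fun V x => by
    have := hf.2 V.1 V.2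
    exact spanAt_of_isQuasiAffine (isQCoh_restrict hF _) x

theorem eventually_epi_counit (f : X ⟶ Y) [CompactSpace X] (h : RelAmple.IsRelAmple f L) (hF : Coh.IsCoh F) :
    ∃ n₀ : ℕ, 0 < n₀ ∧ ∀ n : ℕ, n₀ ≤ n →
      Epi ((Scheme.Modules.pullbackPushforwardAdjunction f).counit.app (CohB1.tensorMod F (CohB1.tensorPow L n))) := by
  classical
  choose V hV hxV _ using fun x : X =>
    exists_isAffineOpen_mem_and_subset (U := (⊤ : Y.Opens)) (x := f x) trivial
  obtain ⟨S, hS⟩ := isCompact_univ.elim_finite_subcover (fun x => ((f ⁻¹ᵁ V x : X.Opens) : Set X))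
    (fun x => (f ⁻¹ᵁ V x).2) (fun x _ => Set.mem_iUnion.2 ⟨x, hxV x⟩)
  have hres : ∀ x, Coh.IsCoh (F.restrict (f ⁻¹ᵁ V x).ι) := fun x => isCoh_restrict hF _
  choose N hN using fun x => eventually_spanAt_twist (h.2 ⟨V x, hV x⟩) (hres x)
  refine ⟨S.sup N + 1, Nat.succ_pos _, fun n hn => epi_counit_of_span f
    (isQCoh_tensorMod hF.1 (Mero90.isQCoh_of_isInvertible
      (EGA73.isInvertible_tensorPow (isInvertible_of_isRelAmple h) n))) fun x => ?_⟩
  obtain ⟨y, hy, hxy⟩ := Set.mem_iUnion₂.1 (hS (Set.mem_univ x))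
  obtain ⟨U, hxU, hU, hsp⟩ := hN y n (((Finset.le_sup hy).trans (Nat.le_succ _)).trans hn) ⟨x, hxy⟩
  refine ⟨V y, (f ⁻¹ᵁ V y).ι ''ᵁ U, _, ⟨_, hxU, rfl⟩, hU.image_of_isOpenImmersion _,
    span_of_spanAt_restrict _ (spanAt_of_iso (EGA73.tensIso (Iso.refl _) (powRestrict (f ⁻¹ᵁ V y).ι L n) ≪≫
      EGA73.tensorRestrictIso (f ⁻¹ᵁ V y).ι F (CohB1.tensorPow L n)).hom hsp)⟩

/-- A nonzero morphism out of a quotient of a free module is nonzero on some global section. -/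
theorem exists_app_ne_zero_of_epi_free {G T : X.Modules} {ι : Type v}
    [HasCoproduct fun _ : ι => Coh.structureModule X] (p : (∐ fun _ : ι => Coh.structureModule X) ⟶ G) [Epi p]
    (q : G ⟶ T) (hq : q ≠ 0) : ∃ t : Γ(G, ⊤), q.app ⊤ t ≠ 0 := by
  by_contra hcon
  push Not at hcon
  refine hq ?_
  rw [← cancel_epi p, comp_zero]
  refine Sigma.hom_ext _ _ fun i => ?_
  rw [comp_zero, ← Category.assoc]
  set ψ := Sigma.ι (fun _ : ι => Coh.structureModule X) i ≫ p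
  have h0 : ∀ W, val T (ψ ≫ q) W = 0 := fun W => by
    rw [← res_val T (ψ ≫ q) (le_top : W ≤ ⊤), show val T (ψ ≫ q) ⊤ = 0 from hcon (val G ψ ⊤), res_zero']
  refine Scheme.Modules.hom_ext _ _ fun W => ?_
  ext a
  refine (app_eq_smul_val (ψ ≫ q) W a).trans ?_
  rw [h0, smul_zero]
  rfl

end Groth.Agent.Amp73

end
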