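import Groth.Agent.Amp73.QA

/-!
External tensor products of relatively ample modules (EGA II 4.6.13 (iv)).
-/

universe u

open CategoryTheory CategoryTheory.Limits AlgebraicGeometry Opposite TopologicalSpace

noncomputable section

namespace Groth.Agent.Amp73

open Var76.LineBundle Var76.ZeroScheme

theorem isAffineOpen_inf_preimage {X₁ X₂ S : Scheme.{u}} (g₁ : X₁ ⟶ S) (g₂ : X₂ ⟶ S)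
    {U₁ : X₁.Opens} {U₂ : X₂.Opens} {W : S.Opens} (hU₁ : IsAffineOpen U₁) (hU₂ : IsAffineOpen U₂)
    (hW : IsAffineOpen W) (h₁ : U₁ ≤ g₁ ⁻¹ᵁ W) (h₂ : U₂ ≤ g₂ ⁻¹ᵁ W) :
    IsAffineOpen (pullback.fst g₁ g₂ ⁻¹ᵁ U₁ ⊓ pullback.snd g₁ g₂ ⁻¹ᵁ U₂) := by
  have : IsAffine (U₁ : Scheme.{u}) := hU₁
  have : IsAffine (U₂ : Scheme.{u}) := hU₂
  have : IsAffine (W : Scheme.{u}) := hW
  let m := pullback.map (g₁.resLE W U₁ h₁) (g₂.resLE W U₂ h₂) g₁ g₂ U₁.ι U₂.ι W.ι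
    (Scheme.Hom.resLE_comp_ι _ _) (Scheme.Hom.resLE_comp_ι _ _)
  have : IsOpenImmersion m := inferInstance
  have e : pullback.fst g₁ g₂ ⁻¹ᵁ U₁ ⊓ pullback.snd g₁ g₂ ⁻¹ᵁ U₂ = m.opensRange := by
    ext1
    refine Eq.trans ?_ (Scheme.Pullback.range_map _ _ _ _ _ _ _ _ _).symm
    rw [Scheme.Opens.range_ι, Scheme.Opens.range_ι]
    rfl
  rw [e]
  exact isAffineOpen_opensRange m

theorem isRelAmple_externalTensor {X₁ X₂ Y₁ Y₂ S : Scheme.{u}} (a₁ : Y₁ ⟶ S) (a₂ : Y₂ ⟶ S)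
    (f₁ : X₁ ⟶ Y₁) (f₂ : X₂ ⟶ Y₂) [QuasiCompact f₁] [QuasiCompact f₂] (L₁ : X₁.Modules) (L₂ : X₂.Modules)
    (hL₁ : RelAmple.IsRelAmple f₁ L₁) (hL₂ : RelAmple.IsRelAmple f₂ L₂) :
    RelAmple.IsRelAmple
      (pullback.map (f₁ ≫ a₁) (f₂ ≫ a₂) a₁ a₂ f₁ f₂ (𝟙 S) (Category.comp_id (f₁ ≫ a₁)) (Category.comp_id (f₂ ≫ a₂)))
      (CohB1.tensorMod ((Scheme.Modules.pullback (pullback.fst (f₁ ≫ a₁) (f₂ ≫ a₂))).obj L₁)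
        ((Scheme.Modules.pullback (pullback.snd (f₁ ≫ a₁) (f₂ ≫ a₂))).obj L₂)) := by
  set m := pullback.map (f₁ ≫ a₁) (f₂ ≫ a₂) a₁ a₂ f₁ f₂ (𝟙 S) (Category.comp_id (f₁ ≫ a₁))
    (Category.comp_id (f₂ ≫ a₂))
  have : QuasiCompact m := MorphismProperty.pullbackMap (P := @QuasiCompact) ‹QuasiCompact f₁› ‹QuasiCompact f₂› rfl rfl
  refine isRelAmple_of_cover m fun y => ?_
  let p := pullback.fst (f₁ ≫ a₁) (f₂ ≫ a₂)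
  let q := pullback.snd (f₁ ≫ a₁) (f₂ ≫ a₂)
  obtain ⟨W, hW, hyW, -⟩ := exists_isAffineOpen_mem_and_subset (U := (⊤ : S.Opens))
    (x := a₁ (pullback.fst a₁ a₂ y)) trivial
  obtain ⟨V₁, hV₁, hyV₁, hle₁⟩ := exists_isAffineOpen_mem_and_subset (U := a₁ ⁻¹ᵁ W)
    (x := pullback.fst a₁ a₂ y) hyW
  obtain ⟨V₂, hV₂, hyV₂, hle₂⟩ := exists_isAffineOpen_mem_and_subset (U := a₂ ⁻¹ᵁ W)
    (x := pullback.snd a₁ a₂ y) (by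
      show (pullback.snd a₁ a₂ ≫ a₂) y ∈ W
      rw [← pullback.condition]; exact hyW)
  let V := pullback.fst a₁ a₂ ⁻¹ᵁ V₁ ⊓ pullback.snd a₁ a₂ ⁻¹ᵁ V₂
  have hV : IsAffineOpen V := isAffineOpen_inf_preimage a₁ a₂ hV₁ hV₂ hW hle₁ hle₂
  refine ⟨⟨V, hV⟩, ⟨hyV₁, hyV₂⟩, ?_⟩
  let A := m ⁻¹ᵁ V
  have := compactSpace_preimage m hV
  have hp : m ≫ pullback.fst a₁ a₂ = p ≫ f₁ := pullback.lift_fst _ _ _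
  have hq : m ≫ pullback.snd a₁ a₂ = q ≫ f₂ := pullback.lift_snd _ _ _
  have hA : A = p ⁻¹ᵁ (f₁ ⁻¹ᵁ V₁) ⊓ q ⁻¹ᵁ (f₂ ⁻¹ᵁ V₂) := by
    rw [← Scheme.Hom.comp_preimage, ← Scheme.Hom.comp_preimage, ← hp, ← hq, Scheme.Hom.comp_preimage,
      Scheme.Hom.comp_preimage]
    rfl
  let a := A.ι
  let π₁ : (A : Scheme.{u}) ⟶ (f₁ ⁻¹ᵁ V₁ : Scheme.{u}) := p.resLE _ _ (hA.le.trans inf_le_left)
  let π₂ : (A : Scheme.{u}) ⟶ (f₂ ⁻¹ᵁ V₂ : Scheme.{u}) := q.resLE _ _ (hA.le.trans inf_le_right)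
  let A₁ := (f₁ ⁻¹ᵁ V₁).ι
  let A₂ := (f₂ ⁻¹ᵁ V₂).ι
  have hπ₁ : π₁ ≫ A₁ = a ≫ p := Scheme.Hom.resLE_comp_ι _ _
  have hπ₂ : π₂ ≫ A₂ = a ≫ q := Scheme.Hom.resLE_comp_ι _ _
  have h1 := hL₁.2 ⟨V₁, hV₁⟩
  have h2 := hL₂.2 ⟨V₂, hV₂⟩
  refine isAmple_of_iso (EGA73.tensIso (pullSquareIso π₁ A₁ a p hπ₁ L₁) (pullSquareIso π₂ A₂ a q hπ₂ L₂) ≪≫
    EGA73.tensorRestrictIso a _ _) (isAmple_iff.2 ⟨EGA73.isInvertible_tensorMod (isInvertible_pullback π₁ h1.1)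
      (isInvertible_pullback π₂ h2.1), inferInstance, fun x => ?_⟩)
  obtain ⟨G₁, hG₁, hx₁, hG₁a⟩ := (isAmple_iff.1 h1).2.2 (π₁ x)
  obtain ⟨G₂, hG₂, hx₂, hG₂a⟩ := (isAmple_iff.1 h2).2.2 (π₂ x)
  refine ⟨π₁ ⁻¹ᵁ G₁ ⊓ π₂ ⁻¹ᵁ G₂, inf_mem_genSet_tensor (isInvertible_pullback π₁ h1.1) (isInvertible_pullback π₂ h2.1)
    (preimage_mem_genSet π₁ h1.1 hG₁) (preimage_mem_genSet π₂ h2.1 hG₂), ⟨hx₁, hx₂⟩, ?_⟩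
  rw [← Scheme.Hom.isAffineOpen_iff_of_isOpenImmersion a]
  have hU₁ : A₁ ''ᵁ G₁ ≤ f₁ ⁻¹ᵁ V₁ := (A₁.image_mono le_top).trans (f₁ ⁻¹ᵁ V₁).ι_image_top.le
  have hU₂ : A₂ ''ᵁ G₂ ≤ f₂ ⁻¹ᵁ V₂ := (A₂.image_mono le_top).trans (f₂ ⁻¹ᵁ V₂).ι_image_top.le
  have e : a ''ᵁ (π₁ ⁻¹ᵁ G₁ ⊓ π₂ ⁻¹ᵁ G₂) = p ⁻¹ᵁ (A₁ ''ᵁ G₁) ⊓ q ⁻¹ᵁ (A₂ ''ᵁ G₂) := by
    ext z
    constructor
    · rintro ⟨w, ⟨hw₁, hw₂⟩, rfl⟩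
      exact ⟨⟨π₁ w, hw₁, congrArg (fun φ : (A : Scheme.{u}) ⟶ X₁ => φ w) hπ₁⟩,
        ⟨π₂ w, hw₂, congrArg (fun φ : (A : Scheme.{u}) ⟶ X₂ => φ w) hπ₂⟩⟩
    · rintro ⟨hz₁, hz₂⟩
      have hzA : z ∈ A := hA.ge ⟨hU₁ hz₁, hU₂ hz₂⟩
      obtain ⟨w₁, hw₁, e₁⟩ := hz₁
      obtain ⟨w₂, hw₂, e₂⟩ := hz₂
      refine ⟨⟨z, hzA⟩, ⟨?_, ?_⟩, rfl⟩
      · show π₁ ⟨z, hzA⟩ ∈ G₁
        rw [show π₁ ⟨z, hzA⟩ = w₁ from A₁.isOpenEmbedding.injective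
          ((congrArg (fun φ : (A : Scheme.{u}) ⟶ X₁ => φ ⟨z, hzA⟩) hπ₁).trans e₁.symm)]
        exact hw₁
      · show π₂ ⟨z, hzA⟩ ∈ G₂
        rw [show π₂ ⟨z, hzA⟩ = w₂ from A₂.isOpenEmbedding.injective
          ((congrArg (fun φ : (A : Scheme.{u}) ⟶ X₂ => φ ⟨z, hzA⟩) hπ₂).trans e₂.symm)]
        exact hw₂
  rw [e]
  exact isAffineOpen_inf_preimage _ _ (hG₁a.image_of_isOpenImmersion _) (hG₂a.image_of_isOpenImmersion _) hW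
    (hU₁.trans (f₁.preimage_mono hle₁)) (hU₂.trans (f₂.preimage_mono hle₂))

end Groth.Agent.Amp73

end
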