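import Groth.Agent.Amp73.QA

/-!
Relative ampleness on disjoint unions.
-/

universe u

open CategoryTheory CategoryTheory.Limits AlgebraicGeometry Opposite TopologicalSpace

noncomputable section

namespace Groth.Agent.Amp73

open Var76.LineBundle Var76.ZeroScheme

variable {X X' Y : Scheme.{u}}

/-- A clopen is the basic open of an idempotent. -/
theorem exists_basicOpen_eq {W : Scheme.{u}} (A B : W.Opens) (h₁ : ⊤ ≤ A ⊔ B) (h₂ : A ⊓ B = ⊥) :
    ∃ g : Γ(W, ⊤), W.basicOpen g = A := by
  obtain ⟨g, hg, -⟩ := W.sheaf.existsUnique_gluing' (fun b : Bool => if b then A else B) ⊤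
    (fun b => homOfLE le_top)
    (h₁.trans (sup_le (le_iSup (fun b : Bool => if b then A else B) true)
      (le_iSup (fun b : Bool => if b then A else B) false)))
    (fun b => if b then 1 else 0) (fun b b' => by
      rcases eq_or_ne b b' with rfl | hb
      · rfl
      · have he : (if b then A else B) ⊓ (if b' then A else B) = ⊥ := by
          cases b <;> cases b' <;> simp_all [inf_comm]
        refine @Subsingleton.elim _ ?_ _ _
        show Subsingleton Γ(W, (if b then A else B) ⊓ (if b' then A else B))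
        rw [he]
        exact CommRingCat.subsingleton_of_isTerminal W.sheaf.isTerminalOfEmpty)
  have hA : fres (le_top : A ≤ ⊤) g = 1 := hg true
  have hB : fres (le_top : B ≤ ⊤) g = 0 := hg false
  refine ⟨g, le_antisymm (fun x hx => ?_) fun x hx => ?_⟩
  · rcases h₁ (trivial : x ∈ (⊤ : W.Opens)) with h | h
    · exact h
    · have h' : x ∈ W.basicOpen (fres (le_top : B ≤ ⊤) g) := (Scheme.basicOpen_res _ _ _).ge ⟨h, hx⟩
      rw [hB, Scheme.basicOpen_zero] at h'
      exact h'.elim
  · have h' : x ∈ W.basicOpen (fres (le_top : A ≤ ⊤) g) := by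
      rw [hA, Scheme.basicOpen_of_isUnit _ isUnit_one]; exact hx
    exact ((Scheme.basicOpen_res _ _ _).le h').2

theorem quasiCompact_coprodDesc (f : X ⟶ Y) (f' : X' ⟶ Y) [QuasiCompact f] [QuasiCompact f'] :
    QuasiCompact (coprod.desc f f') := by
  refine (quasiCompact_iff _).2 fun U hU hUc => ?_
  have e : (coprod.desc f f').base ⁻¹' U =
      (coprod.inl : X ⟶ X ⨿ X').base '' (f.base ⁻¹' U) ∪ (coprod.inr : X' ⟶ X ⨿ X').base '' (f'.base ⁻¹' U) := by
    ext z
    constructor
    · intro hz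
      rcases (isCompl_range_inl_inr X X').codisjoint.top_le (Set.mem_univ z) with ⟨a, rfl⟩ | ⟨a, rfl⟩
      · refine Or.inl ⟨a, ?_, rfl⟩
        have : (coprod.inl ≫ coprod.desc f f') a ∈ U := hz
        rwa [coprod.inl_desc] at this
      · refine Or.inr ⟨a, ?_, rfl⟩
        have : (coprod.inr ≫ coprod.desc f f') a ∈ U := hz
        rwa [coprod.inr_desc] at this
    · rintro (⟨a, ha, rfl⟩ | ⟨a, ha, rfl⟩)
      · show (coprod.inl ≫ coprod.desc f f') a ∈ U
        rwa [coprod.inl_desc]
      · show (coprod.inr ≫ coprod.desc f f') a ∈ U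
        rwa [coprod.inr_desc]
  show IsCompact ((coprod.desc f f').base ⁻¹' U)
  rw [e]
  exact ((QuasiCompact.isCompact_preimage (f := f) U hU hUc).image (coprod.inl : X ⟶ X ⨿ X').continuous).union
    ((QuasiCompact.isCompact_preimage (f := f') U hU hUc).image (coprod.inr : X' ⟶ X ⨿ X').continuous)

theorem isRelAmple_pullback_of_clopen {L : X'.Modules} {f : X' ⟶ Y} (j : X ⟶ X') [IsOpenImmersion j]
    (hj : IsClosed (Set.range j)) (h : RelAmple.IsRelAmple f L) :
    RelAmple.IsRelAmple (j ≫ f) ((Scheme.Modules.pullback j).obj L) := by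
  have : QuasiCompact j := by
    refine (quasiCompact_iff _).2 fun U hU hUc => ?_
    rw [j.isOpenEmbedding.isInducing.isCompact_iff, Set.image_preimage_eq_inter_range]
    exact hUc.inter_right hj
  exact isRelAmple_pullback_comp j (isQuasiAffine_of_isEmbedding j j.isOpenEmbedding.isEmbedding) h

theorem isRelAmple_coprod_iff (f : X ⟶ Y) (f' : X' ⟶ Y) [QuasiCompact f] [QuasiCompact f']
    (L : (X ⨿ X').Modules) :
    RelAmple.IsRelAmple (coprod.desc f f') L ↔
      RelAmple.IsRelAmple f ((Scheme.Modules.pullback (coprod.inl : X ⟶ X ⨿ X')).obj L) ∧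
        RelAmple.IsRelAmple f' ((Scheme.Modules.pullback (coprod.inr : X' ⟶ X ⨿ X')).obj L) := by
  have hc := isCompl_range_inl_inr X X'
  have hcl : ∀ {S T : Set ↥(X ⨿ X')}, IsCompl S T → IsOpen T → IsClosed S := fun h hT => by
    rw [h.eq_compl]; exact hT.isClosed_compl
  have hl : IsClosed (Set.range (coprod.inl : X ⟶ X ⨿ X')) := hcl hc (coprod.inr : X' ⟶ X ⨿ X').isOpenEmbedding.isOpen_range
  have hr : IsClosed (Set.range (coprod.inr : X' ⟶ X ⨿ X')) :=
    hcl hc.symm (coprod.inl : X ⟶ X ⨿ X').isOpenEmbedding.isOpen_range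
  constructor
  · intro h
    have h1 := isRelAmple_pullback_of_clopen coprod.inl hl h
    have h2 := isRelAmple_pullback_of_clopen coprod.inr hr h
    rw [coprod.inl_desc] at h1
    rw [coprod.inr_desc] at h2
    exact ⟨h1, h2⟩
  · rintro ⟨h1, h2⟩
    have := quasiCompact_coprodDesc f f'
    refine isRelAmple_of_cover _ fun y => ?_
    obtain ⟨V, hV, hyV, -⟩ := exists_isAffineOpen_mem_and_subset (U := (⊤ : Y.Opens)) (x := y) trivial
    refine ⟨⟨V, hV⟩, hyV, ?_⟩
    let w := ((coprod.desc f f') ⁻¹ᵁ V).ι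
    have := compactSpace_preimage (coprod.desc f f') hV
    let A := w ⁻¹ᵁ (coprod.inl : X ⟶ X ⨿ X').opensRange
    let B := w ⁻¹ᵁ (coprod.inr : X' ⟶ X ⨿ X').opensRange
    have hAB : ⊤ ≤ A ⊔ B := fun z _ => hc.codisjoint.top_le (Set.mem_univ (w z))
    have hAB' : A ⊓ B = ⊥ := eq_bot_iff.2 fun z hz => (hc.disjoint.le_bot hz).elim
    -- the piece over one summand
    have key : ∀ {Z : Scheme.{u}} (i : Z ⟶ X ⨿ X') [IsOpenImmersion i] (φ : Z ⟶ Y)
        (_ : i ≫ coprod.desc f f' = φ) (_ : IsClosed (Set.range i))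
        (_ : RelAmple.IsRelAmple φ ((Scheme.Modules.pullback i).obj L))
        (C : ((coprod.desc f f') ⁻¹ᵁ V : Scheme.{u}).Opens) (_ : (C : Set _) = w.base ⁻¹' Set.range i),
        CohB1.IsAmple ((L.restrict w).restrict C.ι) := by
      intro Z i _ φ hφ hi hamp C hC
      have : CompactSpace (C : Scheme.{u}) :=
        isCompact_iff_compactSpace.1 (hC ▸ (hi.preimage w.continuous).isCompact)
      refine isAmple_of_iso ((Scheme.Modules.restrictFunctorComp C.ι w).app L)
        (isAmple_restrict_mono (C.ι ≫ w) ((φ ⁻¹ᵁ V).ι ≫ i) ?_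
          (isAmple_of_iso ((Scheme.Modules.restrictFunctor _).mapIso
            ((Scheme.Modules.restrictFunctorIsoPullback i).app L).symm ≪≫
            ((Scheme.Modules.restrictFunctorComp _ _).app L).symm) (hamp.2 ⟨V, hV⟩)))
      rintro _ ⟨z, rfl⟩
      obtain ⟨a, ha⟩ := hC.le z.2
      refine ⟨⟨a, ?_⟩, ha⟩
      show φ a ∈ V
      rw [← hφ]
      show coprod.desc f f' (i a) ∈ V
      rw [ha]
      exact z.1.2
    refine isAmple_of_basicOpen_cover fun z => ?_
    rcases hAB (trivial : z ∈ (⊤ : ((coprod.desc f f') ⁻¹ᵁ V : Scheme.{u}).Opens)) with hz | hz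
    · obtain ⟨g, hg⟩ := exists_basicOpen_eq A B hAB hAB'
      exact ⟨g, hg ▸ hz, key coprod.inl f (coprod.inl_desc f f') hl h1 _ (by rw [hg]; rfl)⟩
    · obtain ⟨g, hg⟩ := exists_basicOpen_eq B A (sup_comm A B ▸ hAB) (inf_comm A B ▸ hAB')
      exact ⟨g, hg ▸ hz, key coprod.inr f' (coprod.inr_desc f f') hr h2 _ (by rw [hg]; rfl)⟩

end Groth.Agent.Amp73

end
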