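import Groth.Agent.Amp73.GlobGen

/-!
Epimorphic counits `f^*f_*G → G` and sections not vanishing at a point.
-/

universe u

open CategoryTheory CategoryTheory.Limits AlgebraicGeometry Opposite TopologicalSpace

noncomputable section

namespace Groth.Agent.Amp73

open Var76.LineBundle Var76.ZeroScheme

variable {X Y : Scheme.{u}} (f : X ⟶ Y) {G : X.Modules}

theorem counit_app_pullS (G : X.Modules) (V : Y.Opens) (t : Γ(G, f ⁻¹ᵁ V)) :
    ((Scheme.Modules.pullbackPushforwardAdjunction f).counit.app G).app (f ⁻¹ᵁ V)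
      (pullS f ((Scheme.Modules.pushforward f).obj G) V t) = t :=
  ConcreteCategory.congr_hom (congrArg (fun φ => Scheme.Modules.Hom.app φ V)
    ((Scheme.Modules.pullbackPushforwardAdjunction f).right_triangle_components G)) t

/-- The counit is epi if sections over preimages of opens of the base span locally. -/
theorem epi_counit_of_span (hG : Coh.IsQCoh G) (h : ∀ x : X, ∃ (V : Y.Opens) (U : X.Opens) (hUV : U ≤ f ⁻¹ᵁ V),
      x ∈ U ∧ IsAffineOpen U ∧ Submodule.span Γ(X, U) (Set.range fun t : Γ(G, f ⁻¹ᵁ V) => res G hUV t) = ⊤) :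
    Epi ((Scheme.Modules.pullbackPushforwardAdjunction f).counit.app G) := by
  refine QC70.epi_of_locally_surjective _ fun W s p hp => ?_
  obtain ⟨V, U, hUV, hpU, hU, hsp⟩ := h p
  obtain ⟨r, hrW, hpr⟩ := hU.exists_basicOpen_le ⟨p, hp⟩ hpU
  obtain ⟨n, u, hu⟩ := (isLocAt hG hU).exists_of r (res G hrW s)
  have hr : IsUnit (fres (X.basicOpen_le r) r) := RingedSpace.isUnit_res_basicOpen _ r
  obtain ⟨v, hv⟩ := (hr.pow n).exists_left_inv
  obtain ⟨c, hc⟩ := (Finsupp.mem_span_range_iff_exists_finsupp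
    (R := Γ(X, U)) (v := fun t : Γ(G, f ⁻¹ᵁ V) => res G hUV t)).1 (hsp.ge (Submodule.mem_top (x := u)))
  refine ⟨X.basicOpen r, hrW, v • res _ (X.basicOpen_le r)
    (c.sum fun t a => a • res _ hUV (pullS f ((Scheme.Modules.pushforward f).obj G) V t)), hpr, ?_⟩
  have h2 : ((Scheme.Modules.pullbackPushforwardAdjunction f).counit.app G).app U
      (c.sum fun t a => a • res _ hUV (pullS f ((Scheme.Modules.pushforward f).obj G) V t)) = u := by
    rw [← hc, Finsupp.sum, Finsupp.sum, map_sum]
    refine Finset.sum_congr rfl fun t _ => ?_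
    rw [Scheme.Modules.Hom.app_smul]
    refine congrArg _ ((Mero90.app_res _ hUV _).trans ?_)
    exact congrArg (res G hUV) (counit_app_pullS f G V t)
  rw [Scheme.Modules.Hom.app_smul]
  refine (congrArg (v • ·) ((Mero90.app_res _ _ _).trans (congrArg (res G (X.basicOpen_le r)) h2))).trans ?_
  refine (congrArg (v • ·) hu).trans ?_
  refine (smul_smul _ _ _).trans ?_
  exact (congrArg (· • _) hv).trans (one_smul _ _)

/-- If the counit is epi, a nonzero map to a module concentrated at `x` is nonzero on a section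
over the preimage of a neighbourhood of `f x`. -/
theorem exists_app_ne_zero (hepi : Epi ((Scheme.Modules.pullbackPushforwardAdjunction f).counit.app G))
    {T : X.Modules} (q : G ⟶ T) (x : X) (hT : ∀ W : X.Opens, x ∉ W → Subsingleton Γ(T, W)) (hq : q ≠ 0) :
    ∃ V : Y.Opens, f x ∈ V ∧ ∃ t : Γ(G, f ⁻¹ᵁ V), q.app _ t ≠ 0 := by
  by_contra hcon
  push Not at hcon
  refine hq ?_
  have h0 : (Scheme.Modules.pushforward f).map q = 0 := by
    refine Scheme.Modules.hom_ext _ _ fun V => ?_
    ext t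
    show q.app (f ⁻¹ᵁ V) t = 0
    by_cases hx : f x ∈ V
    · exact hcon V hx t
    · exact (hT (f ⁻¹ᵁ V) hx).elim _ _
  rw [← cancel_epi ((Scheme.Modules.pullbackPushforwardAdjunction f).counit.app G), comp_zero]
  have h1 := (Scheme.Modules.pullbackPushforwardAdjunction f).counit.naturality q
  simp only [Functor.comp_map, Functor.id_map, h0, Functor.map_zero, zero_comp] at h1
  exact h1.symm

/-- The fibre at `x`, as a module on `X`. -/
def fibre (x : X) (M : X.Modules) : X.Modules :=
  (Scheme.Modules.pushforward (X.fromSpecResidueField x)).obj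
    ((Scheme.Modules.pullback (X.fromSpecResidueField x)).obj M)

/-- The map to the fibre. -/
def toFibre (x : X) (M : X.Modules) : M ⟶ fibre x M :=
  (Scheme.Modules.pullbackPushforwardAdjunction (X.fromSpecResidueField x)).unit.app M

theorem toFibre_app (x : X) (M : X.Modules) (W : X.Opens) (m : Γ(M, W)) :
    (toFibre x M).app W m = pullS (X.fromSpecResidueField x) M W m := rfl

theorem preimage_fromSpecResidueField_eq_bot {x : X} {W : X.Opens} (hx : x ∉ W) :
    X.fromSpecResidueField x ⁻¹ᵁ W = ⊥ :=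
  eq_bot_iff.2 fun z hz => (hx (Scheme.fromSpecResidueField_apply x z ▸ hz)).elim

theorem subsingleton_fibre (x : X) (M : X.Modules) (W : X.Opens) (hx : x ∉ W) :
    Subsingleton Γ(fibre x M, W) := by
  have h : Subsingleton Γ(Spec (X.residueField x), X.fromSpecResidueField x ⁻¹ᵁ W) := by
    rw [preimage_fromSpecResidueField_eq_bot hx]
    exact CommRingCat.subsingleton_of_isTerminal (Spec (X.residueField x)).sheaf.isTerminalOfEmpty
  exact Module.subsingleton Γ(Spec (X.residueField x), X.fromSpecResidueField x ⁻¹ᵁ W)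
    Γ((Scheme.Modules.pullback (X.fromSpecResidueField x)).obj M, X.fromSpecResidueField x ⁻¹ᵁ W)

theorem fromSpecResidueField_preimage_eq_top {x : X} {W : X.Opens} (hx : x ∈ W) :
    X.fromSpecResidueField x ⁻¹ᵁ W = ⊤ :=
  eq_top_iff.2 fun z _ => show X.fromSpecResidueField x z ∈ W from (Scheme.fromSpecResidueField_apply x z).symm ▸ hx

theorem toFibre_ne_zero_of_isFrame {M : X.Modules} (hM : PicF.IsInvertible M) {x : X} {W : X.Opens}
    (hx : x ∈ W) {e : Γ(M, W)} (he : IsFrame M W e) : (toFibre x M).app W e ≠ 0 := by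
  intro h
  rw [toFibre_app] at h
  have hfr := isFrame_pullS (X.fromSpecResidueField x) hM he
  rw [show pullS _ M W e = 0 from h] at hfr
  have hnt : Nontrivial Γ(Spec (X.residueField x), X.fromSpecResidueField x ⁻¹ᵁ W) := by
    rw [fromSpecResidueField_preimage_eq_top hx]
    exact (Scheme.ΓSpecIso (X.residueField x)).commRingCatIsoToRingEquiv.toEquiv.nontrivial
  refine zero_ne_one ((hfr _ le_rfl).1 (a₁ := 0) (a₂ := 1) ?_)
  dsimp only
  rw [res_zero', smul_zero, smul_zero]

theorem exists_isFrame_of_toFibre_ne_zero {M : X.Modules} (hM : PicF.IsInvertible M) {x : X} {O : X.Opens}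
    (hx : x ∈ O) {t : Γ(M, O)} (h : (toFibre x M).app O t ≠ 0) :
    ∃ (V : X.Opens) (hV : V ≤ O), x ∈ V ∧ IsFrame M V (res M hV t) := by
  obtain ⟨W, hxW, hW, e, he⟩ := Mero90.exists_affine_frame hM x O hx
  obtain ⟨c, hc⟩ := (he W.1 le_rfl).2 (res M hW t)
  dsimp only at hc
  rw [res_self] at hc
  by_cases hxc : x ∈ X.basicOpen c
  · refine ⟨X.basicOpen c, (X.basicOpen_le c).trans hW, hxc, ?_⟩
    rw [← res_res M hW (X.basicOpen_le c), ← hc, res_smul, isFrame_smul_iff (he.res (X.basicOpen_le c))]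
    exact RingedSpace.isUnit_res_basicOpen _ c
  · refine absurd ?_ h
    let i := X.fromSpecResidueField x
    have hc0 : i.app W.1 c = 0 := by
      rw [← basicOpen_eq_bot_iff, ← Scheme.preimage_basicOpen]
      exact preimage_fromSpecResidueField_eq_bot hxc
    have hW0 : pullS i M W.1 (res M hW t) = 0 := by rw [← hc, pullS_smul, hc0, zero_smul]
    rw [toFibre_app]
    show pullS i M O t = (0 : Γ((Scheme.Modules.pullback i).obj M, i ⁻¹ᵁ O))
    refine eq_of_locally ((Scheme.Modules.pullback i).obj M) _ _ fun z _ =>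
      ⟨i ⁻¹ᵁ W.1, i.preimage_mono hW, show i z ∈ W.1 from (Scheme.fromSpecResidueField_apply x z).symm ▸ hxW, ?_⟩
    rw [res_zero', res_pullS]
    exact hW0

/-- A section of a power of `L` over an open containing `a(D(g))` gives an element of the generating sets
of `L` restricted along `a`. -/
theorem exists_genSet_of_section {A : Scheme.{u}} [CompactSpace A] [QuasiSeparatedSpace A] {L : X.Modules}
    (a : A ⟶ X) [IsOpenImmersion a] (hL : PicF.IsInvertible (L.restrict a)) (g : Γ(A, ⊤)) {n : ℕ} {O : X.Opens}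
    (t : Γ(CohB1.tensorPow L (n + 1), O)) (hO : a ''ᵁ A.basicOpen g ≤ O) :
    ∃ G ∈ GenSet (L.restrict a), ∀ z, z ∈ G ↔
      z ∈ A.basicOpen g ∧ ∃ (V : X.Opens) (hV : V ≤ O), a z ∈ V ∧ IsFrame _ V (res _ hV t) := by
  let j := (A.basicOpen g).ι
  let b := j ≫ a
  let M := CohB1.tensorPow L (n + 1)
  have hb : b ''ᵁ ⊤ ≤ O := by
    rintro _ ⟨w, -, rfl⟩
    exact hO ⟨w.1, w.2, rfl⟩
  let t' : Γ(M.restrict b, ⊤) := res M hb t
  let σ := Var76.Frames.ofSection (M.restrict b) t'
  have hval : ∀ V, val (M.restrict b) σ V = res M ((b.image_mono le_top).trans hb) t := fun V => by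
    rw [Var76.Frames.val_ofSection]
    exact res_res M hb (b.image_mono le_top) t
  have hG : CohB1.genLocus _ σ ∈ GenSet ((L.restrict a).restrict j) :=
    mem_genSet_of_iso ((Scheme.Modules.restrictFunctorComp j a).app L).hom
      ⟨n, σ ≫ (powRestrict b L (n + 1)).inv, genLocus_comp_iso _ _⟩
  refine ⟨_, image_mem_genSet hL g j (Scheme.Opens.opensRange_ι _) hG, fun z => ⟨?_, ?_⟩⟩
  · rintro ⟨w, hw, rfl⟩
    refine ⟨w.2, b ''ᵁ CohB1.genLocus _ σ, (b.image_mono le_top).trans hb, ⟨w, hw, rfl⟩, ?_⟩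
    have h := isFrame_genLocus σ
    rw [isFrame_restrict_iff, hval] at h
    exact h
  · rintro ⟨hzg, V, hV, hzV, hfr⟩
    refine ⟨⟨z, hzg⟩, (isFrame_iff_le_genLocus σ (b ⁻¹ᵁ V)).1 ?_ hzV, rfl⟩
    rw [isFrame_restrict_iff, hval]
    have h := hfr.res (b.image_preimage_le V)
    rw [res_res] at h
    exact h

end Groth.Agent.Amp73

end
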