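import Groth.Agent.Amp73.Powers
import Groth.Agent.QC70.Loc

/-!
Sections of `F ⊗ L^n` and sections of `F` on the generating locus of a section of `L`.
-/

universe u

open CategoryTheory CategoryTheory.Limits AlgebraicGeometry Opposite TopologicalSpace

noncomputable section

namespace Groth.Agent.Amp73

open Var76.LineBundle Var76.ZeroScheme

variable {X : Scheme.{u}} {L F : X.Modules}

theorem res_zero' (M : X.Modules) {U V : X.Opens} (h : V ≤ U) : res M h 0 = 0 := map_zero _

theorem res_sub' (M : X.Modules) {U V : X.Opens} (h : V ≤ U) (a b : Γ(M, U)) :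
    res M h (a - b) = res M h a - res M h b := map_sub _ _ _

theorem fres_pow {U V : X.Opens} (h : V ≤ U) (a : Γ(X, U)) (n : ℕ) : fres h (a ^ n) = fres h a ^ n :=
  map_pow _ _ _

/-- `t ⊗ s^n` over an open. -/
abbrev tw (s : Coh.structureModule X ⟶ L) (n : ℕ) (F : X.Modules) {U : X.Opens} (t : Γ(F, U)) :
    Γ(CohB1.tensorMod F (CohB1.tensorPow L n), U) :=
  tm F (CohB1.tensorPow L n) t (epow (val L s U) n)

theorem twist_eq_tw (s : Coh.structureModule X ⟶ L) (n : ℕ) {U : X.Opens} (t : Γ(F, U)) :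
    (SecTwist.twist s n F U t : Γ(CohB1.tensorMod F (CohB1.tensorPow L n), U)) = tw s n F t :=
  congrArg (tm F (CohB1.tensorPow L n) t) (pow_eq_epow s U n)

theorem res_tw (s : Coh.structureModule X ⟶ L) (n : ℕ) {U V : X.Opens} (h : V ≤ U) (t : Γ(F, U)) :
    res _ h (tw s n F t) = tw s n F (res F h t) := by
  rw [tw, res_tm, res_epow, res_val]

/-- In a frame, `t ⊗ s^n = (c^n t) ⊗ e^n`. -/
theorem tw_of_coord (s : Coh.structureModule X ⟶ L) (n : ℕ) {U : X.Opens} {e : Γ(L, U)} {c : Γ(X, U)}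
    (hc : c • e = val L s U) (t : Γ(F, U)) :
    tw s n F t = tm F (CohB1.tensorPow L n) (c ^ n • t) (epow e n) := by
  rw [tw, ← hc, epow_smul, tm_smul_right, tm_smul_left]

/-- Finitely many framed affines. -/
theorem exists_finite_frames [CompactSpace X] (hL : PicF.IsInvertible L) :
    ∃ (ι : Type u) (_ : Finite ι) (W : ι → X.Opens) (e : ∀ i, Γ(L, W i)),
      (∀ i, IsAffineOpen (W i)) ∧ (∀ i, IsFrame L (W i) (e i)) ∧ ⨆ i, W i = ⊤ := by
  have h := fun x : X => Mero90.exists_affine_frame hL x ⊤ trivial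
  choose W hxW hle e he using h
  obtain ⟨T, hT⟩ := isCompact_univ.elim_finite_subcover (fun x => ((W x).1 : Set X)) (fun x => (W x).1.2)
    (fun x _ => Set.mem_iUnion.2 ⟨x, hxW x⟩)
  refine ⟨↥T, Finite.of_fintype _, fun i => (W i.1).1, fun i => e i.1, fun i => (W i.1).2, fun i => he i.1,
    top_le_iff.1 fun x _ => ?_⟩
  obtain ⟨y, hy, hxy⟩ := Set.mem_iUnion₂.1 (hT (Set.mem_univ x))
  exact Opens.mem_iSup.2 ⟨⟨y, hy⟩, hxy⟩

theorem isLocAt (hF : Coh.IsQCoh F) {U : X.Opens} (hU : IsAffineOpen U) : QC70.IsLocAt F U :=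
  have : F.IsQuasicoherent := hF
  QC70.isLocAt_of_isQuasicoherent F hU

/-- A global section vanishing on `X_s` is killed by a power of `s`. -/
theorem exists_tw_eq_zero [CompactSpace X] (hL : PicF.IsInvertible L) (s : Coh.structureModule X ⟶ L)
    (hF : Coh.IsQCoh F) (t : Γ(F, ⊤)) (ht : res F (le_top : CohB1.genLocus L s ≤ ⊤) t = 0) :
    ∃ n₀ : ℕ, ∀ n, n₀ ≤ n → tw s n F t = 0 := by
  classical
  obtain ⟨ι, _, W, e, hW, he, hcov⟩ := exists_finite_frames (L := L) hL
  cases nonempty_fintype ι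
  choose c hc using fun i => exists_coord s (he i)
  have hk : ∀ i, ∃ k : ℕ, c i ^ k • res F (le_top : W i ≤ ⊤) t = 0 := fun i => by
    refine (isLocAt hF (hW i)).eq_zero_of (c i) _ ?_
    show res F (X.basicOpen_le (c i)) (res F (le_top : W i ≤ ⊤) t) = 0
    have hle : X.basicOpen (c i) ≤ CohB1.genLocus L s :=
      (genLocus_inf_eq_basicOpen s (he i) (hc i)).ge.trans inf_le_left
    rw [res_res, ← res_res F (le_top : CohB1.genLocus L s ≤ ⊤) hle, ht, res_zero']
  choose k hk using hk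
  refine ⟨∑ i, k i, fun n hn => eq_of_locally _ _ _ fun x _ => ?_⟩
  obtain ⟨i, hi⟩ := Opens.mem_iSup.1 (hcov.ge (Set.mem_univ x))
  refine ⟨W i, le_top, hi, ?_⟩
  obtain ⟨d, hd⟩ := Nat.exists_eq_add_of_le
    ((Finset.single_le_sum (fun j _ => Nat.zero_le (k j)) (Finset.mem_univ i)).trans hn)
  rw [res_tw, tw_of_coord s n (hc i), hd, Nat.add_comm, pow_add, mul_smul, hk, smul_zero, tm_zero_left,
    res_zero']

/-- A section on `X_s` times a power of `s` extends. -/
theorem exists_tw_extend [CompactSpace X] [QuasiSeparatedSpace X] (hL : PicF.IsInvertible L)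
    (s : Coh.structureModule X ⟶ L) (hF : Coh.IsQCoh F) (t : Γ(F, CohB1.genLocus L s)) :
    ∃ n₀ : ℕ, ∀ n, n₀ ≤ n → ∃ t' : Γ(CohB1.tensorMod F (CohB1.tensorPow L n), ⊤),
      res _ (le_top : CohB1.genLocus L s ≤ ⊤) t' = tw s n F t := by
  classical
  obtain ⟨ι, _, W, e, hW, he, hcov⟩ := exists_finite_frames (L := L) hL
  cases nonempty_fintype ι
  choose c hc using fun i => exists_coord s (he i)
  have hle : ∀ i, X.basicOpen (c i) ≤ CohB1.genLocus L s :=
    fun i => (genLocus_inf_eq_basicOpen s (he i) (hc i)).ge.trans inf_le_left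
  have hext : ∀ i, ∃ (k : ℕ) (v : Γ(F, W i)),
      res F (X.basicOpen_le (c i)) v = fres (X.basicOpen_le (c i)) (c i) ^ k • res F (hle i) t :=
    fun i => (isLocAt hF (hW i)).exists_of (c i) (res F (hle i) t)
  choose k v hv using hext
  let N₀ := ∑ i, k i
  let w : ∀ i, Γ(F, W i) := fun i => c i ^ (N₀ - k i) • v i
  have hw : ∀ i, res F (X.basicOpen_le (c i)) (w i) = fres (X.basicOpen_le (c i)) (c i) ^ N₀ • res F (hle i) t := by
    intro i
    rw [res_smul, hv, smul_smul]
    show (fres _ (c i ^ (N₀ - k i)) * _) • _ = _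
    rw [fres_pow, ← pow_add, Nat.sub_add_cancel (Finset.single_le_sum (fun j _ => Nat.zero_le (k j)) (Finset.mem_univ i))]
  have hover : ∀ i j : ι, ∀ V : X.Opens, IsAffineOpen V → ∀ (hi : V ≤ W i) (hj : V ≤ W j),
      ∃ K : ℕ, ∀ n, N₀ + K ≤ n →
        tm F (CohB1.tensorPow L n) (fres hj (c j) ^ (n - N₀) • res F hj (w j)) (epow (res L hj (e j)) n) =
          tm F (CohB1.tensorPow L n) (fres hi (c i) ^ (n - N₀) • res F hi (w i)) (epow (res L hi (e i)) n) := by
    intro i j V hV hi hj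
    obtain ⟨g, hg⟩ := (he i V hi).2 (res L hj (e j))
    dsimp only at hg
    have hgc : fres hi (c i) = fres hj (c j) * g := by
      refine (he i V hi).1 ?_
      dsimp only
      rw [mul_smul, hg, ← res_smul, ← res_smul, hc i, hc j, res_val, res_val]
    let d : Γ(F, V) := g ^ N₀ • res F hj (w j) - res F hi (w i)
    let cV := fres hi (c i)
    have hd0 : res F (X.basicOpen_le cV) d = 0 := by
      have hD : X.basicOpen cV ≤ CohB1.genLocus L s := by
        refine le_trans ?_ (hle i)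
        exact (X.basicOpen_res (c i) (homOfLE hi).op).le.trans inf_le_right
      have hDi : X.basicOpen cV ≤ X.basicOpen (c i) :=
        (X.basicOpen_res (c i) (homOfLE hi).op).le.trans inf_le_right
      have hDj : X.basicOpen cV ≤ X.basicOpen (c j) := by
        have h1 : X.basicOpen cV ≤ X.basicOpen (fres hj (c j)) := by
          rw [show cV = fres hj (c j) * g from hgc, X.basicOpen_mul]
          exact inf_le_left
        exact h1.trans ((X.basicOpen_res (c j) (homOfLE hj).op).le.trans inf_le_right)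
      have ei : res F (X.basicOpen_le cV) (res F hi (w i)) =
          fres (X.basicOpen_le cV) cV ^ N₀ • res F hD t := by
        rw [res_res, ← res_res F (X.basicOpen_le (c i)) hDi, hw, res_smul, res_res]
        show fres hDi (_ ^ N₀) • _ = _
        rw [fres_pow, fres_fres]
        show _ = fres _ (fres hi (c i)) ^ N₀ • _
        rw [fres_fres]
      have ej : res F (X.basicOpen_le cV) (res F hj (w j)) =
          fres (X.basicOpen_le cV) (fres hj (c j)) ^ N₀ • res F hD t := by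
        rw [res_res, ← res_res F (X.basicOpen_le (c j)) hDj, hw, res_smul, res_res]
        show fres hDj (_ ^ N₀) • _ = _
        rw [fres_pow, fres_fres, fres_fres]
      show res F _ (g ^ N₀ • _ - _) = 0
      rw [res_sub', res_smul, ei, ej, smul_smul, sub_eq_zero]
      congr 1
      show fres _ (g ^ N₀) * _ = _
      rw [fres_pow, ← mul_pow, show cV = fres hj (c j) * g from hgc]
      congr 1
      simp only [fres, map_mul]
      ring
    obtain ⟨K, hK⟩ := (isLocAt hF hV).eq_zero_of cV d hd0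
    refine ⟨K, fun n hn => ?_⟩
    rw [← hg, epow_smul, tm_smul_right, ← tm_smul_left, ← sub_eq_zero, ← tm_sub_left]
    suffices h : g ^ n • (fres hj (c j) ^ (n - N₀) • res F hj (w j)) - cV ^ (n - N₀) • res F hi (w i) =
        cV ^ (n - N₀ - K) • (cV ^ K • d) by
      rw [h, hK, smul_zero, tm_zero_left]
    rw [smul_smul, smul_smul, ← pow_add, Nat.sub_add_cancel (by omega : K ≤ n - N₀), smul_sub, smul_smul]
    congr 2
    rw [show cV = fres hj (c j) * g from hgc, mul_pow, mul_assoc, ← pow_add,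
      Nat.sub_add_cancel (by omega : N₀ ≤ n), mul_comm]
  have hcover : ∀ i j : ι, ∃ (T : Finset X.affineOpens), (∀ V ∈ T, V.1 ≤ W i ⊓ W j) ∧
      (W i ⊓ W j : X.Opens) ≤ ⨆ V ∈ T, V.1 := by
    intro i j
    have hq : IsCompact ((W i ⊓ W j : X.Opens) : Set X) :=
      QuasiSeparatedSpace.inter_isCompact _ _ (W i).2 (hW i).isCompact (W j).2 (hW j).isCompact
    obtain ⟨T, hT⟩ := hq.elim_finite_subcover
      (fun V : {V : X.affineOpens // V.1 ≤ W i ⊓ W j} => (V.1.1 : Set X)) (fun V => V.1.1.2) (fun x hx => by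
        obtain ⟨V, hV, hxV, hVle⟩ := exists_isAffineOpen_mem_and_subset hx
        exact Set.mem_iUnion.2 ⟨⟨⟨V, hV⟩, hVle⟩, hxV⟩)
    refine ⟨T.image Subtype.val, fun V hV => ?_, fun x hx => ?_⟩
    · obtain ⟨V', -, rfl⟩ := Finset.mem_image.1 hV
      exact V'.2
    · obtain ⟨V, hV, hxV⟩ := Set.mem_iUnion₂.1 (hT hx)
      exact Opens.mem_iSup.2 ⟨V.1, Opens.mem_iSup.2 ⟨Finset.mem_image.2 ⟨V, hV, rfl⟩, hxV⟩⟩
  choose T hTle hTcov using hcover
  have hK : ∀ (i j : ι) (V : T i j), ∃ K : ℕ, ∀ n, N₀ + K ≤ n →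
      tm F (CohB1.tensorPow L n) (fres ((hTle i j V.1 V.2).trans inf_le_right) (c j) ^ (n - N₀) • res F _ (w j))
          (epow (res L ((hTle i j V.1 V.2).trans inf_le_right) (e j)) n) =
        tm F (CohB1.tensorPow L n) (fres ((hTle i j V.1 V.2).trans inf_le_left) (c i) ^ (n - N₀) • res F _ (w i))
          (epow (res L ((hTle i j V.1 V.2).trans inf_le_left) (e i)) n) :=
    fun i j V => hover i j V.1.1 V.1.2 _ _
  choose K hK using hK
  refine ⟨N₀ + ∑ i, ∑ j, ∑ V : T i j, K i j V, fun n hn => ?_⟩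
  let P := CohB1.tensorMod F (CohB1.tensorPow L n)
  let σ : ∀ i, Γ(P, W i) := fun i => tm F (CohB1.tensorPow L n) (c i ^ (n - N₀) • w i) (epow (e i) n)
  have hres : ∀ i (V : X.Opens) (h : V ≤ W i), res P h (σ i) =
      tm F (CohB1.tensorPow L n) (fres h (c i) ^ (n - N₀) • res F h (w i)) (epow (res L h (e i)) n) := by
    intro i V h
    show res (CohB1.tensorMod F _) h _ = _
    rw [res_tm, res_epow, res_smul]
    show tm F _ (fres h (_ ^ _) • _) _ = _
    rw [fres_pow]
  have compat : TopCat.Presheaf.IsCompatible P.presheaf W σ := by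
    intro i j
    show res P inf_le_left (σ i) = res P inf_le_right (σ j)
    refine eq_of_locally P _ _ fun x hx => ?_
    obtain ⟨V, hV⟩ := Opens.mem_iSup.1 (hTcov i j hx)
    obtain ⟨hVT, hxV⟩ := Opens.mem_iSup.1 hV
    refine ⟨V.1, hTle i j V hVT, hxV, ?_⟩
    rw [res_res, res_res, hres, hres]
    refine (hK i j ⟨V, hVT⟩ n (le_trans (Nat.add_le_add_left ?_ _) hn)).symm
    exact (Finset.single_le_sum (f := fun V : T i j => K i j V) (fun _ _ => Nat.zero_le _) (Finset.mem_univ _)).trans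
      ((Finset.single_le_sum (f := fun j => ∑ V : T i j, K i j V) (fun _ _ => Nat.zero_le _) (Finset.mem_univ j)).trans
        (Finset.single_le_sum (f := fun i => ∑ j, ∑ V : T i j, K i j V) (fun _ _ => Nat.zero_le _) (Finset.mem_univ i)))
  obtain ⟨t', ht', -⟩ := TopCat.Sheaf.existsUnique_gluing' (⟨P.presheaf, P.isSheaf⟩ : TopCat.Sheaf Ab X)
    W ⊤ (fun i => homOfLE le_top) hcov.ge σ compat
  refine ⟨t', eq_of_locally P _ _ fun x hx => ?_⟩
  obtain ⟨i, hi⟩ := Opens.mem_iSup.1 (hcov.ge (Set.mem_univ x))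
  have hxD : x ∈ X.basicOpen (c i) := (genLocus_inf_eq_basicOpen s (he i) (hc i)).le ⟨hx, hi⟩
  refine ⟨X.basicOpen (c i), hle i, hxD, ?_⟩
  have e1 : res P (X.basicOpen_le (c i)) (res P (le_top : W i ≤ ⊤) t') = res P (X.basicOpen_le (c i)) (σ i) :=
    congrArg (res P (X.basicOpen_le (c i))) (ht' i)
  rw [res_res] at e1
  rw [res_res, e1, hres, hw, smul_smul, ← pow_add,
    Nat.sub_add_cancel (le_trans (Nat.le_add_right _ _) hn)]
  refine Eq.trans ?_ (res_tw s n (hle i) t).symm
  rw [tw_of_coord s n (e := res L (X.basicOpen_le (c i)) (e i)) (c := fres (X.basicOpen_le (c i)) (c i))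
    (by rw [← res_smul, hc, res_val])]

/-- A section on `X_s` times a power of `s`, with positive exponent. -/
theorem exists_tw_extend_pos [CompactSpace X] [QuasiSeparatedSpace X] (hL : PicF.IsInvertible L)
    (s : Coh.structureModule X ⟶ L) (hF : Coh.IsQCoh F) (t : Γ(F, CohB1.genLocus L s)) :
    ∃ n : ℕ, 0 < n ∧ ∃ t' : Γ(CohB1.tensorMod F (CohB1.tensorPow L n), ⊤),
      res _ (le_top : CohB1.genLocus L s ≤ ⊤) t' = tw s n F t := by
  obtain ⟨n₀, h⟩ := exists_tw_extend hL s hF t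
  exact ⟨n₀ + 1, Nat.succ_pos _, h _ (Nat.le_succ _)⟩

end Groth.Agent.Amp73
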