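import Groth.Agent.Div89.Fitting
import Groth.Agent.Props58.LocFree.Criteria

/-!
A finite locally free module of constant rank is free near a finite set of points contained in an
affine open.
-/

set_option autoImplicit false
set_option linter.style.haveILetI false
set_option backward.isDefEq.respectTransparency.types false

noncomputable section

universe u

open CategoryTheory CategoryTheory.Limits AlgebraicGeometry Opposite TopologicalSpace
open Groth.Agent.Props58.LocFree Groth.Agent.QC70 Groth.Agent.Div89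

namespace Groth.Agent.Amp73

variable {X : Scheme.{u}}

/-- Over an affine open the germs of global sections generate every stalk of a quasi-coherent
module with finitely generated stalk, with the same number of generators. -/
theorem exists_sections_span_stalk (F : X.Modules) (hF : Coh.IsQCoh F) (V : X.affineOpens) {r : ℕ}
    (x : X) (hx : x ∈ V.1) (b : Fin r → F.presheaf.stalk x)
    (hb : Submodule.span (X.presheaf.stalk x) (Set.range b) = ⊤) :
    ∃ t : Fin r → Γ(F, V.1),
      Submodule.span (X.presheaf.stalk x) (Set.range fun i => germM F V.1 x hx (t i)) = ⊤ := by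
  letI := stalkModule F V.1 x hx
  haveI := isLocalizedModule_germLin F hF V x hx
  choose md hmd using fun i =>
    IsLocalizedModule.surj (primeAt V x hx).primeCompl (germLin F V.1 x hx) (b i)
  refine ⟨fun i => (md i).1, top_le_iff.1 (hb.ge.trans (Submodule.span_le.2 ?_))⟩
  rintro _ ⟨i, rfl⟩
  have hu : IsUnit (X.presheaf.germ V.1 x hx ((md i).2 : Γ(X, V.1))) :=
    (germ_isUnit_iff V x hx _).2 (md i).2.2
  have h : X.presheaf.germ V.1 x hx ((md i).2 : Γ(X, V.1)) • b i = germM F V.1 x hx (md i).1 := hmd i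
  have h2 : b i = (↑hu.unit⁻¹ : X.presheaf.stalk x) • germM F V.1 x hx (md i).1 := by
    rw [← h, smul_smul, hu.val_inv_mul, one_smul]
  rw [h2]
  exact Submodule.smul_mem _ _ (Submodule.subset_span ⟨i, rfl⟩)

/-- Generators of the stalks at finitely many points of an affine open, none specialising to
another, come from one family of sections. -/
theorem exists_span_finite (F : X.Modules) (hF : Coh.IsQCoh F) (V : X.affineOpens) (S : Finset X)
    (hS : ∀ x ∈ S, x ∈ V.1) (hmax : ∀ x ∈ S, ∀ y ∈ S, y ⤳ x → y = x) {r : ℕ}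
    (b : ∀ x ∈ S, ∃ b : Fin r → F.presheaf.stalk x,
      Submodule.span (X.presheaf.stalk x) (Set.range b) = ⊤) :
    ∃ s : Fin r → Γ(F, V.1), ∀ x (hx : x ∈ S),
      Submodule.span (X.presheaf.stalk x)
        (Set.range fun i => germM F V.1 x (hS x hx) (s i)) = ⊤ := by
  classical
  let P : {x // x ∈ S} → Ideal Γ(X, V.1) := fun z => primeAt V z.1 (hS z.1 z.2)
  have hsep : ∀ z : {x // x ∈ S}, ∃ a : Γ(X, V.1),
      a ∉ P z ∧ ∀ w : {x // x ∈ S}, w ≠ z → a ∈ P w := by
    intro z
    by_contra hne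
    push Not at hne
    have hle : (Finset.univ.erase z).inf P ≤ P z := by
      intro a ha
      by_contra haz
      obtain ⟨w, hwz, haw⟩ := hne a haz
      exact haw (Finset.inf_le (f := P) (Finset.mem_erase.2 ⟨hwz, Finset.mem_univ w⟩) ha)
    obtain ⟨w, hw, hwle⟩ := (Ideal.IsPrime.inf_le' (primeAt_isPrime V z.1 (hS z.1 z.2))).1 hle
    exact (Finset.mem_erase.1 hw).1 (Subtype.ext (hmax z.1 z.2 w.1 w.2
      ((specializes_iff_primeAt_le V (hS z.1 z.2) (hS w.1 w.2)).2 hwle)))
  choose a ha hao using hsep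
  have ht : ∀ z : {x // x ∈ S}, ∃ t : Fin r → Γ(F, V.1), Submodule.span (X.presheaf.stalk z.1)
      (Set.range fun i => germM F V.1 z.1 (hS z.1 z.2) (t i)) = ⊤ := fun z => by
    obtain ⟨b', hb'⟩ := b z.1 z.2
    exact exists_sections_span_stalk F hF V z.1 (hS z.1 z.2) b' hb'
  choose t ht using ht
  refine ⟨fun i => ∑ z, a z • t z i, fun x hx => ?_⟩
  let z₀ : {x // x ∈ S} := ⟨x, hx⟩
  let g := X.presheaf.germ V.1 x (hS x hx)
  let G : Fin r → F.presheaf.stalk x := fun i => germM F V.1 x (hS x hx) (t z₀ i)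
  have hgm : ∀ i, germM F V.1 x (hS x hx) (∑ z, a z • t z i) =
      g (a z₀) • G i + ∑ z ∈ Finset.univ.erase z₀, g (a z) • germM F V.1 x (hS x hx) (t z i) := by
    intro i
    rw [germM_sum, ← Finset.add_sum_erase _ _ (Finset.mem_univ z₀)]
    simp only [germM_smul]
    rfl
  set N := Submodule.span (X.presheaf.stalk x)
    (Set.range fun i => germM F V.1 x (hS x hx) (∑ z, a z • t z i)) with hN
  have hmem : ∀ z, z ≠ z₀ → g (a z) ∈ IsLocalRing.maximalIdeal (X.presheaf.stalk x) := by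
    intro z hz
    rw [IsLocalRing.mem_maximalIdeal, mem_nonunits_iff, germ_isUnit_iff V x (hS x hx), not_not]
    exact hao z z₀ (Ne.symm hz)
  have htop : (⊤ : Submodule (X.presheaf.stalk x) (F.presheaf.stalk x)) ≤
      N ⊔ IsLocalRing.maximalIdeal (X.presheaf.stalk x) • ⊤ := by
    refine (ht z₀).ge.trans (Submodule.span_le.2 ?_)
    rintro _ ⟨i, rfl⟩
    have hu : IsUnit (g (a z₀)) := (germ_isUnit_iff V x (hS x hx) _).2 (ha z₀)
    have hz : g (a z₀) • G i ∈ N ⊔ IsLocalRing.maximalIdeal (X.presheaf.stalk x) • ⊤ := by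
      rw [eq_sub_of_add_eq (hgm i).symm]
      refine Submodule.sub_mem _ (Submodule.mem_sup_left (Submodule.subset_span ⟨i, rfl⟩))
        (Submodule.mem_sup_right (Submodule.sum_mem _ fun z hz => ?_))
      exact Submodule.smul_mem_smul (hmem z (Finset.mem_erase.1 hz).1) Submodule.mem_top
    have := Submodule.smul_mem _ (↑hu.unit⁻¹ : X.presheaf.stalk x) hz
    rwa [smul_smul, hu.val_inv_mul, one_smul] at this
  refine top_le_iff.1 (Submodule.le_of_le_smul_of_le_jacobson_bot ?_
    (IsLocalRing.maximalIdeal_le_jacobson _) htop)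
  exact Submodule.fg_def.2 ⟨_, Set.finite_range _, ht z₀⟩

/-- A finite locally free module of rank `r` is free near a finite set of points of an affine
open. -/
theorem exists_nhd_free_finite {r : ℕ} (E : X.Modules) (hE : FlatMod.IsFinLocFreeOfRank r E)
    (Z : Set X) (hZ : Z.Finite) (V : X.Opens) (hV : IsAffineOpen V) (hZV : Z ⊆ V) :
    ∃ U : X.Opens, Z ⊆ U ∧ U ≤ V ∧
      Nonempty (E.restrict U.ι ≅ FlatMod.freeMod (U : Scheme.{u}) r) := by
  classical
  have hlf : FlatMod.IsFinLocFree E := fun x => by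
    obtain ⟨U, hx, he⟩ := hE x
    exact ⟨U, r, hx, he⟩
  haveI := isFiniteType_of_isFinLocFree hlf
  have hqc : Coh.IsQCoh E := isQuasicoherent_of_isFinLocFree hlf
  have hbasis : ∀ y : X,
      Nonempty ((Fin r → X.presheaf.stalk y) ≃ₗ[X.presheaf.stalk y] E.presheaf.stalk y) := fun y => by
    obtain ⟨U, hy, ⟨e⟩⟩ := hE y
    obtain ⟨s, hs⟩ := exists_stalkBasis_of_iso e
    exact ⟨hs.stalkEquiv y hy⟩
  let Va : X.affineOpens := ⟨V, hV⟩
  let f : {x // x ∈ Z} → Ideal Γ(X, V) := fun z => primeAt Va z.1 (hZV z.2)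
  haveI := hZ.fintype
  let S : Finset X := hZ.toFinset.filter fun x => ∀ y ∈ Z, x ⤳ y → y = x
  have hSZ : ∀ x ∈ S, x ∈ Z := fun x hx => hZ.mem_toFinset.1 (Finset.mem_filter.1 hx).1
  have hmax : ∀ x ∈ S, ∀ y ∈ S, y ⤳ x → y = x := fun x hx y hy h =>
    ((Finset.mem_filter.1 hy).2 x (hSZ x hx) h).symm
  have hdom : ∀ z ∈ Z, ∃ x ∈ S, z ⤳ x := by
    intro z hz
    let T : Finset {x // x ∈ Z} := Finset.univ.filter fun y => f ⟨z, hz⟩ ≤ f y
    obtain ⟨p, hp, hpmax⟩ := Finset.exists_le_maximal (T.image f)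
      (a := f ⟨z, hz⟩) (Finset.mem_image.2 ⟨⟨z, hz⟩, by simp [T], rfl⟩)
    obtain ⟨m, hm, rfl⟩ := Finset.mem_image.1 hpmax.1
    refine ⟨m.1, Finset.mem_filter.2 ⟨hZ.mem_toFinset.2 m.2, fun y hy hmy => ?_⟩,
      (specializes_iff_primeAt_le Va (hZV m.2) (hZV hz)).2 hp⟩
    have h1 : f m ≤ f ⟨y, hy⟩ :=
      (specializes_iff_primeAt_le Va (hZV hy) (hZV m.2)).1 hmy
    have h2 : f ⟨y, hy⟩ ≤ f m := hpmax.2
      (Finset.mem_image.2 ⟨⟨y, hy⟩, by simp [T]; exact le_trans hp h1, rfl⟩) h1
    exact primeAt_inj Va (hZV hy) (hZV m.2) (le_antisymm h2 h1)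
  obtain ⟨s, hs⟩ := exists_span_finite E hqc Va S (fun x hx => hZV (hSZ x hx)) hmax fun x _ => by
    obtain ⟨e⟩ := hbasis x
    exact ⟨_, ((Pi.basisFun _ (Fin r)).map e).span_eq⟩
  have hnh : ∀ x : {x // x ∈ S}, ∃ (W : X.Opens) (hW : W ≤ V), x.1 ∈ W ∧
      ∀ y (hy : y ∈ W), Function.Surjective (germComb s y (hW hy)) := fun x =>
    exists_nhd_surjective s (hZV (hSZ x.1 x.2))
      ((germComb_surjective_iff s x.1 (hZV (hSZ x.1 x.2))).2 (hs x.1 x.2))
  choose W hW hxW hWs using hnh
  refine ⟨⨆ x, W x, fun z hz => ?_, iSup_le hW,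
    nonempty_iso_of_stalkBasis (s := fun i => QC70.res E (iSup_le hW) (s i)) fun y hy => ?_⟩
  · obtain ⟨x, hx, hzx⟩ := hdom z hz
    exact le_iSup W ⟨x, hx⟩ (hzx.mem_open (W ⟨x, hx⟩).isOpen (hxW ⟨x, hx⟩))
  · obtain ⟨x, hyx⟩ := Opens.mem_iSup.1 hy
    obtain ⟨e⟩ := hbasis y
    let l := Fintype.linearCombination (X.presheaf.stalk y)
      fun i => germM E V y (hW x hyx) (s i)
    have hl : ⇑l = germComb s y (hW x hyx) := funext fun c => by
      rw [Fintype.linearCombination_apply]; rfl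
    have hsurj : Function.Surjective (e.symm.toLinearMap ∘ₗ l) :=
      e.symm.surjective.comp (by rw [hl]; exact hWs x y hyx)
    have hbij : Function.Bijective (e.symm.toLinearMap ∘ₗ l) :=
      ⟨OrzechProperty.injective_of_surjective_endomorphism _ hsurj, hsurj⟩
    have : Function.Bijective l := (Function.Bijective.of_comp_iff' e.symm.bijective l).1 hbij
    rw [funext (germComb_res s (iSup_le hW) y hy), ← hl]
    exact this

end Groth.Agent.Amp73
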